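import Groth.Prelude.Def_ARSys
import Groth.Agent.S3148
import Mathlib.CategoryTheory.Limits.FunctorCategory.EpiMono
import Mathlib.Algebra.Homology.ShortComplex.ShortExact
import Mathlib.Algebra.Homology.ShortComplex.ExactFunctor

/-!
# Basic lemmas on `ARSys.KilledBy`, `ARSys.HomKilledBy`, `ARSys.IsQuot` (helper16)
-/

set_option autoImplicit false
open CategoryTheory CategoryTheory.Limits Opposite
universe w v u
open ARSys

namespace Groth.Agent.H16

section Linear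
variable {C : Type u} [Category.{v} C] {A : Type w} [CommRing A] [Preadditive C] [Linear A C]

theorem homKilledBy_comp_left (I : Ideal A) {W X Y : C} (f : W ⟶ X) {φ : X ⟶ Y}
    (h : ARSys.HomKilledBy I φ) : ARSys.HomKilledBy I (f ≫ φ) := by
  intro a ha
  rw [← Linear.comp_smul, h a ha, comp_zero]

theorem homKilledBy_comp_right (I : Ideal A) {X Y Z : C} {φ : X ⟶ Y}
    (h : ARSys.HomKilledBy I φ) (g : Y ⟶ Z) : ARSys.HomKilledBy I (φ ≫ g) := by
  intro a ha
  rw [← Linear.smul_comp, h a ha, zero_comp]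

theorem homKilledBy_of_epi_comp (I : Ideal A) {W X Y : C} (f : W ⟶ X) [Epi f] {φ : X ⟶ Y}
    (h : ARSys.HomKilledBy I (f ≫ φ)) : ARSys.HomKilledBy I φ := by
  intro a ha
  have h1 := h a ha
  rw [← Linear.comp_smul] at h1
  exact (cancel_epi f).mp (by rw [h1, comp_zero])

theorem homKilledBy_of_comp_mono (I : Ideal A) {X Y Z : C} {φ : X ⟶ Y} (g : Y ⟶ Z) [Mono g]
    (h : ARSys.HomKilledBy I (φ ≫ g)) : ARSys.HomKilledBy I φ := by
  intro a ha
  have h1 := h a ha
  rw [← Linear.smul_comp] at h1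
  exact (cancel_mono g).mp (by rw [h1, zero_comp])

theorem homKilledBy_of_tgt (I : Ideal A) {X Y : C} (hY : ARSys.KilledBy I Y) (φ : X ⟶ Y) :
    ARSys.HomKilledBy I φ := by
  intro a ha
  have h1 : a • φ = φ ≫ (a • 𝟙 Y) := by rw [Linear.comp_smul, Category.comp_id]
  rw [h1, hY a ha, comp_zero]

theorem homKilledBy_of_src (I : Ideal A) {X Y : C} (hX : ARSys.KilledBy I X) (φ : X ⟶ Y) :
    ARSys.HomKilledBy I φ := by
  intro a ha
  have h1 : a • φ = (a • 𝟙 X) ≫ φ := by rw [Linear.smul_comp, Category.id_comp]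
  rw [h1, hX a ha, zero_comp]

theorem homKilledBy_anti {I I' : Ideal A} (hII : I ≤ I') {X Y : C} {φ : X ⟶ Y}
    (h : ARSys.HomKilledBy I' φ) : ARSys.HomKilledBy I φ := fun a ha => h a (hII ha)

theorem killedBy_anti {I I' : Ideal A} (hII : I ≤ I') {X : C}
    (h : ARSys.KilledBy I' X) : ARSys.KilledBy I X := fun a ha => h a (hII ha)

theorem killedBy_of_epi (I : Ideal A) {X Y : C} (p : X ⟶ Y) [Epi p] (hX : ARSys.KilledBy I X) :
    ARSys.KilledBy I Y := by
  intro a ha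
  have h := homKilledBy_of_src I hX p a ha
  exact (cancel_epi p).mp (by rw [Linear.comp_smul, Category.comp_id, h, comp_zero])

theorem killedBy_of_mono (I : Ideal A) {X Y : C} (i : X ⟶ Y) [Mono i] (hY : ARSys.KilledBy I Y) :
    ARSys.KilledBy I X := by
  intro a ha
  have h := homKilledBy_of_tgt I hY i a ha
  exact (cancel_mono i).mp (by rw [Linear.smul_comp, Category.id_comp, h, zero_comp])

theorem IsQuot.epi {I : Ideal A} {X Q : C} {p : X ⟶ Q} (h : ARSys.IsQuot I p) : Epi p := by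
  constructor
  intro Z ψ₁ ψ₂ e
  have hk : ARSys.HomKilledBy I (p ≫ ψ₁) :=
    homKilledBy_comp_left I p (homKilledBy_of_src I h.1 ψ₁)
  obtain ⟨ψ, -, hu⟩ := h.2 Z (p ≫ ψ₁) hk
  rw [hu ψ₁ rfl, hu ψ₂ e.symm]

theorem IsQuot.exists_desc {I : Ideal A} {X Q : C} {p : X ⟶ Q} (h : ARSys.IsQuot I p) {Y : C}
    (φ : X ⟶ Y) (hφ : ARSys.HomKilledBy I φ) : ∃ ψ : Q ⟶ Y, p ≫ ψ = φ :=
  (h.2 Y φ hφ).exists

/-- an epi `p` with killed target through which every killed map factors is a quotient map -/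
theorem isQuot_of_epi {I : Ideal A} {X Q : C} (p : X ⟶ Q) [Epi p] (hQ : ARSys.KilledBy I Q)
    (h : ∀ (Y : C) (φ : X ⟶ Y), ARSys.HomKilledBy I φ → ∃ ψ : Q ⟶ Y, p ≫ ψ = φ) :
    ARSys.IsQuot I p := by
  refine ⟨hQ, fun Y φ hφ => ?_⟩
  obtain ⟨ψ, hψ⟩ := h Y φ hφ
  exact ⟨ψ, hψ, fun ψ₂ hψ₂ => (cancel_epi p).mp (hψ₂.trans hψ.symm)⟩

end Linear

section Abelian
variable {C : Type u} [Category.{v} C] [Abelian C]

/-- if `i` is mono and `i` dies in the cokernel of `t ≫ i`, then `t` is epi -/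
theorem epi_of_comp_mono_cokernel {X Y Z : C} (t : X ⟶ Y) (i : Y ⟶ Z) [Mono i]
    (h : i ≫ cokernel.π (t ≫ i) = 0) : Epi t := by
  apply Abelian.epi_of_cokernel_π_eq_zero
  have hc : (t ≫ i) ≫ pushout.inl i (cokernel.π t) = 0 := by
    rw [Category.assoc, pushout.condition, ← Category.assoc, cokernel.condition, zero_comp]
  have hl : cokernel.π (t ≫ i) ≫ cokernel.desc (t ≫ i) (pushout.inl i (cokernel.π t)) hc
      = pushout.inl i (cokernel.π t) := cokernel.π_desc _ _ _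
  have h2 : cokernel.π t ≫ pushout.inr i (cokernel.π t) = 0 := by
    rw [← pushout.condition, ← hl, ← Category.assoc, h, zero_comp]
  exact (cancel_mono (pushout.inr i (cokernel.π t))).mp (by rw [h2, zero_comp])

theorem app_zero_of_comp_zero {X Y Z : ARSys.PS C} (f : X ⟶ Y) (g : Y ⟶ Z) (h : f ≫ g = 0)
    (n : ℕᵒᵖ) : f.app n ≫ g.app n = 0 := by
  rw [← NatTrans.comp_app, h]; rfl

end Abelian

end Groth.Agent.H16
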