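import Mathlib
import Groth.Prelude.Def_W4stkadequateTF

/-!
# Tangent functors of module-valued functors: exactness helpers (helper16)
-/

set_option autoImplicit false
universe u
open CategoryTheory Limits

namespace Groth.Agent.H16.AdeqTFLib

section Abstract

variable {X₁ X₂ X₃ Y₁ Y₂ Y₃ Z₁ Z₂ Z₃ : Type*}
  [AddCommGroup X₁] [AddCommGroup X₂] [AddCommGroup X₃]
  [AddCommGroup Y₁] [AddCommGroup Y₂] [AddCommGroup Y₃]
  [AddCommGroup Z₁] [AddCommGroup Z₂] [AddCommGroup Z₃]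
  (fX : X₁ →+ X₂) (gX : X₂ →+ X₃) (fY : Y₁ →+ Y₂) (gY : Y₂ →+ Y₃) (fZ : Z₁ →+ Z₂) (gZ : Z₂ →+ Z₃)
  (u₁ : X₁ →+ Y₁) (u₂ : X₂ →+ Y₂) (u₃ : X₃ →+ Y₃)
  (v₁ : Y₁ →+ Z₁) (v₂ : Y₂ →+ Z₂) (v₃ : Y₃ →+ Z₃)

/-- right exactness of the bottom row from the two upper rows -/
lemma bottom_row
    (sqf_v : ∀ y, v₂ (fY y) = fZ (v₁ y)) (sqg_v : ∀ y, v₃ (gY y) = gZ (v₂ y))
    (sqg_u : ∀ x, u₃ (gX x) = gY (u₂ x))
    (hv₁ : Function.Surjective v₁) (hv₂ : Function.Surjective v₂) (hv₃ : Function.Surjective v₃)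
    (hvu₂ : ∀ x, v₂ (u₂ x) = 0) (hker₃ : ∀ y, v₃ y = 0 → ∃ x, u₃ x = y)
    (hgX : Function.Surjective gX)
    (hgY : Function.Surjective gY) (hY : gY.ker = fY.range) :
    Function.Surjective gZ ∧ gZ.ker = fZ.range := by
  constructor
  · intro z
    obtain ⟨y, rfl⟩ := hv₃ z
    obtain ⟨y', rfl⟩ := hgY y
    exact ⟨v₂ y', (sqg_v y').symm⟩
  · ext z
    rw [AddMonoidHom.mem_ker, AddMonoidHom.mem_range]
    constructor
    · intro hz
      obtain ⟨y, rfl⟩ := hv₂ z
      have h1 : v₃ (gY y) = 0 := by rw [sqg_v, hz]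
      obtain ⟨x₃, hx₃⟩ := hker₃ _ h1
      obtain ⟨x₂, rfl⟩ := hgX x₃
      have h2 : y - u₂ x₂ ∈ gY.ker := by
        rw [AddMonoidHom.mem_ker, map_sub, ← sqg_u, hx₃, sub_self]
      rw [hY, AddMonoidHom.mem_range] at h2
      obtain ⟨y₁, hy₁⟩ := h2
      refine ⟨v₁ y₁, ?_⟩
      rw [← sqf_v, hy₁, map_sub, hvu₂, sub_zero]
    · rintro ⟨z₁, rfl⟩
      obtain ⟨y₁, rfl⟩ := hv₁ z₁
      rw [← sqf_v, ← sqg_v]
      have : fY y₁ ∈ gY.ker := by rw [hY]; exact ⟨y₁, rfl⟩
      rw [AddMonoidHom.mem_ker] at this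
      rw [this, map_zero]

/-- right exactness of the middle row from the outer rows -/
lemma middle_row
    (sqf_u : ∀ x, u₂ (fX x) = fY (u₁ x))
    (sqf_v : ∀ y, v₂ (fY y) = fZ (v₁ y)) (sqg_v : ∀ y, v₃ (gY y) = gZ (v₂ y))
    (sqg_u : ∀ x, u₃ (gX x) = gY (u₂ x))
    (hv₁ : Function.Surjective v₁) (hv₂ : Function.Surjective v₂)
    (hker₂ : ∀ y, v₂ y = 0 → ∃ x, u₂ x = y) (hker₃ : ∀ y, v₃ y = 0 → ∃ x, u₃ x = y)
    (hu₃ : Function.Injective u₃)
    (hgX : Function.Surjective gX) (hX : gX.ker = fX.range)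
    (hgZ : Function.Surjective gZ) (hZ : gZ.ker = fZ.range)
    (hgf : ∀ y, gY (fY y) = 0) :
    Function.Surjective gY ∧ gY.ker = fY.range := by
  constructor
  · intro y₃
    obtain ⟨z₂, hz₂⟩ := hgZ (v₃ y₃)
    obtain ⟨y₂, rfl⟩ := hv₂ z₂
    have h1 : v₃ (y₃ - gY y₂) = 0 := by rw [map_sub, sqg_v, hz₂, sub_self]
    obtain ⟨x₃, hx₃⟩ := hker₃ _ h1
    obtain ⟨x₂, rfl⟩ := hgX x₃
    refine ⟨y₂ + u₂ x₂, ?_⟩
    rw [map_add, ← sqg_u, hx₃, add_sub_cancel]
  · ext y
    rw [AddMonoidHom.mem_ker, AddMonoidHom.mem_range]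
    constructor
    · intro hy
      have h1 : v₂ y ∈ gZ.ker := by rw [AddMonoidHom.mem_ker, ← sqg_v, hy, map_zero]
      rw [hZ, AddMonoidHom.mem_range] at h1
      obtain ⟨z₁, hz₁⟩ := h1
      obtain ⟨y₁, rfl⟩ := hv₁ z₁
      have h2 : v₂ (y - fY y₁) = 0 := by rw [map_sub, sqf_v, hz₁, sub_self]
      obtain ⟨x₂, hx₂⟩ := hker₂ _ h2
      have h3 : u₃ (gX x₂) = 0 := by rw [sqg_u, hx₂, map_sub, hy, hgf, sub_self]
      have h4 : gX x₂ = 0 := hu₃ (by rw [h3, map_zero])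
      have h5 : x₂ ∈ gX.ker := h4
      rw [hX, AddMonoidHom.mem_range] at h5
      obtain ⟨x₁, rfl⟩ := h5
      refine ⟨y₁ + u₁ x₁, ?_⟩
      rw [map_add, ← sqf_u, hx₂, add_sub_cancel]
    · rintro ⟨y₁, rfl⟩
      exact hgf y₁

end Abstract

section Concrete

open AdeqTF

variable {A : Type u} [CommRing A] (B : Adeq.Alg A)

lemma inl_fst (N : ModuleCat.{u} B) : inl B N ≫ fst B N = 𝟙 B := by
  apply CommAlgCat.hom_ext
  refine AlgHom.ext fun x => ?_
  rfl

lemma map_id' (N : ModuleCat.{u} B) : map B (𝟙 N) = 𝟙 (ext B N) := by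
  apply CommAlgCat.hom_ext
  refine AlgHom.ext fun x => ?_
  apply TrivSqZeroExt.ext
  · exact TrivSqZeroExt.fst_map _ x
  · exact TrivSqZeroExt.snd_map _ x

lemma map_comp' {N N' N'' : ModuleCat.{u} B} (g : N ⟶ N') (h : N' ⟶ N'') :
    map B (g ≫ h) = map B g ≫ map B h := by
  apply CommAlgCat.hom_ext
  refine AlgHom.ext fun x => ?_
  apply TrivSqZeroExt.ext
  · show TrivSqZeroExt.fst (TrivSqZeroExt.map (g ≫ h).hom x) =
      TrivSqZeroExt.fst (TrivSqZeroExt.map h.hom (TrivSqZeroExt.map g.hom x))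
    rw [TrivSqZeroExt.fst_map, TrivSqZeroExt.fst_map, TrivSqZeroExt.fst_map]
  · show TrivSqZeroExt.snd (TrivSqZeroExt.map (g ≫ h).hom x) =
      TrivSqZeroExt.snd (TrivSqZeroExt.map h.hom (TrivSqZeroExt.map g.hom x))
    rw [TrivSqZeroExt.snd_map, TrivSqZeroExt.snd_map, TrivSqZeroExt.snd_map]
    rfl

lemma map_zero' {N N' : ModuleCat.{u} B} : map B (0 : N ⟶ N') = fst B N ≫ inl B N' := by
  apply CommAlgCat.hom_ext
  refine AlgHom.ext fun x => ?_
  apply TrivSqZeroExt.ext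
  · show TrivSqZeroExt.fst (TrivSqZeroExt.map (0 : N ⟶ N').hom x) = TrivSqZeroExt.fst x
    rw [TrivSqZeroExt.fst_map]
  · show TrivSqZeroExt.snd (TrivSqZeroExt.map (0 : N ⟶ N').hom x) = 0
    rw [TrivSqZeroExt.snd_map]
    rfl

variable {B}

lemma mem_tangent {N : ModuleCat.{u} B} (F : Adeq.MVF A) (x : F.obj (Adeq.pt (ext B N))) :
    x ∈ tangent B N F ↔ F.map (Adeq.ptHom (fst B N)) x = 0 := Iff.rfl

lemma tangentMap_coe (F : Adeq.MVF A) {N N' : ModuleCat.{u} B} (g : N ⟶ N') (x : tangent B N F) :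
    ((tangentMap B F g x : tangent B N' F) : F.obj (Adeq.pt (ext B N'))) =
      F.map (Adeq.ptHom (map B g)) x.1 := rfl

lemma tangentMap_id (F : Adeq.MVF A) (N : ModuleCat.{u} B) (x : tangent B N F) :
    tangentMap B F (𝟙 N) x = x := by
  apply Subtype.ext
  rw [tangentMap_coe]
  have e : Adeq.ptHom (map B (𝟙 N)) = 𝟙 _ := by rw [map_id']; rfl
  rw [F.congr_map_apply e, F.map_id]
  rfl

lemma tangentMap_comp (F : Adeq.MVF A) {N N' N'' : ModuleCat.{u} B} (g : N ⟶ N') (h : N' ⟶ N'')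
    (x : tangent B N F) : tangentMap B F (g ≫ h) x = tangentMap B F h (tangentMap B F g x) := by
  apply Subtype.ext
  rw [tangentMap_coe, tangentMap_coe, tangentMap_coe]
  have e : Adeq.ptHom (map B (g ≫ h)) = Adeq.ptHom (map B g) ≫ Adeq.ptHom (map B h) := by
    rw [map_comp']; rfl
  rw [F.congr_map_apply e, F.map_comp_apply]

lemma tangentMap_zero (F : Adeq.MVF A) {N N' : ModuleCat.{u} B} (x : tangent B N F) :
    tangentMap B F (0 : N ⟶ N') x = 0 := by
  apply Subtype.ext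
  rw [tangentMap_coe]
  have e : Adeq.ptHom (map B (0 : N ⟶ N')) = Adeq.ptHom (fst B N) ≫ Adeq.ptHom (inl B N') := by
    rw [map_zero']; rfl
  rw [F.congr_map_apply e, F.map_comp_apply, (mem_tangent F x.1).mp x.2]
  exact map_zero _

/-- the map on tangent modules induced by a morphism of module-valued functors -/
noncomputable def tmap {F G : Adeq.MVF A} (φ : F ⟶ G) (N : ModuleCat.{u} B) : tangent B N F →+ tangent B N G :=
  ((φ.app (Adeq.pt (ext B N))).hom.toAddMonoidHom.comp (tangent B N F).subtype).codRestrict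
    (tangent B N G) (fun x => by
      obtain ⟨x, hx⟩ := x
      rw [mem_tangent] at hx ⊢
      change G.map (Adeq.ptHom (fst B N)) (φ.app _ x) = 0
      rw [← PresheafOfModules.naturality_apply, hx]
      exact map_zero _)

lemma tmap_coe {F G : Adeq.MVF A} (φ : F ⟶ G) (N : ModuleCat.{u} B) (x : tangent B N F) :
    ((tmap φ N x : tangent B N G) : G.obj (Adeq.pt (ext B N))) = φ.app _ x.1 := rfl

lemma tmap_tangentMap {F G : Adeq.MVF A} (φ : F ⟶ G) {N N' : ModuleCat.{u} B} (g : N ⟶ N')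
    (x : tangent B N F) : tmap φ N' (tangentMap B F g x) = tangentMap B G g (tmap φ N x) := by
  apply Subtype.ext
  rw [tmap_coe, tangentMap_coe, tangentMap_coe, tmap_coe, PresheafOfModules.naturality_apply]

section SES

variable {C : ShortComplex (Adeq.MVF A)} (hC : C.ShortExact)

lemma app_zero (C : ShortComplex (Adeq.MVF A)) (X) (x : C.X₁.obj X) :
    C.g.app X (C.f.app X x) = 0 := by
  have h : (C.f ≫ C.g).app X = 0 := by rw [C.zero]; rfl
  rw [PresheafOfModules.comp_app] at h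
  have := congrArg (fun t => t.hom x) h
  exact this

include hC

lemma app_injective (X) : Function.Injective (C.f.app X) := by
  have := hC.mono_f
  exact PresheafOfModules.injective_of_mono C.f X

lemma app_surjective (X) : Function.Surjective (C.g.app X) := by
  have := hC.epi_g
  exact PresheafOfModules.surjective_of_epi C.g X

lemma app_exact (X) (y : C.X₂.obj X) (hy : C.g.app X y = 0) : ∃ x, C.f.app X x = y := by
  have : (PresheafOfModules.evaluation.{u + 1} (Adeq.ringOf A) X).Additive :=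
    PresheafOfModules.instAdditiveModuleCatCarrierObjOppositeRingCatEvaluation _ X
  have : (PresheafOfModules.evaluation.{u + 1} (Adeq.ringOf A) X).PreservesZeroMorphisms :=
    Functor.preservesZeroMorphisms_of_additive _
  have : PreservesFiniteLimits (PresheafOfModules.evaluation.{u + 1} (Adeq.ringOf A) X) :=
    PresheafOfModules.evaluation_preservesFiniteLimits _ X
  have : PreservesFiniteColimits (PresheafOfModules.evaluation.{u + 1} (Adeq.ringOf A) X) :=
    PresheafOfModules.Finite.evaluation_preservesFiniteColimits _ X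
  have h := (hC.map_of_exact (PresheafOfModules.evaluation.{u + 1} (Adeq.ringOf A) X)).exact
  rw [ShortComplex.moduleCat_exact_iff] at h
  exact h y hy

lemma tmap_injective (N : ModuleCat.{u} B) : Function.Injective (tmap (B := B) C.f N) := by
  intro x x' h
  apply Subtype.ext
  apply app_injective hC
  have := congrArg Subtype.val h
  rwa [tmap_coe, tmap_coe] at this

omit hC in
lemma tmap_zero (C : ShortComplex (Adeq.MVF A)) (N : ModuleCat.{u} B) (x : tangent B N C.X₁) :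
    tmap (B := B) C.g N (tmap C.f N x) = 0 := by
  apply Subtype.ext
  rw [tmap_coe, tmap_coe]
  exact app_zero C _ _

lemma tmap_exact (N : ModuleCat.{u} B) (y : tangent B N C.X₂) (hy : tmap (B := B) C.g N y = 0) :
    ∃ x, tmap (B := B) C.f N x = y := by
  have h1 : C.g.app _ y.1 = 0 := by
    have := congrArg Subtype.val hy
    rwa [tmap_coe] at this
  obtain ⟨x, hx⟩ := app_exact hC _ y.1 h1
  have hx' : x ∈ tangent B N C.X₁ := by
    rw [mem_tangent]
    have key : C.f.app (Adeq.pt B) (C.X₁.map (Adeq.ptHom (fst B N)) x) =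
        C.f.app (Adeq.pt B) 0 := by
      rw [PresheafOfModules.naturality_apply, hx, (mem_tangent _ y.1).mp y.2]
      exact (map_zero _).symm
    exact app_injective hC (Adeq.pt B) key
  exact ⟨⟨x, hx'⟩, Subtype.ext hx⟩

lemma tmap_surjective (N : ModuleCat.{u} B) : Function.Surjective (tmap (B := B) C.g N) := by
  intro z
  obtain ⟨y₀, hy₀⟩ := app_surjective hC _ z.1
  let c : C.X₂.obj (Adeq.pt B) := C.X₂.map (Adeq.ptHom (fst B N)) y₀
  have e : Adeq.ptHom (inl B N) ≫ Adeq.ptHom (fst B N) = 𝟙 (Adeq.pt B) := by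
    have := inl_fst B N
    change Adeq.ptHom (inl B N ≫ fst B N) = _
    rw [this]
    rfl
  have hc : C.g.app (Adeq.pt B) c = 0 := by
    have key : C.g.app (Adeq.pt B) c = C.X₃.map (Adeq.ptHom (fst B N)) z.1 := by
      rw [← hy₀]
      exact PresheafOfModules.naturality_apply C.g (Adeq.ptHom (fst B N)) y₀
    rw [key]
    exact (mem_tangent _ z.1).mp z.2
  let d : C.X₂.obj (Adeq.pt (ext B N)) := C.X₂.map (Adeq.ptHom (inl B N)) c
  have hd1 : C.X₂.map (Adeq.ptHom (fst B N)) d = c := by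
    change C.X₂.map (Adeq.ptHom (fst B N)) (C.X₂.map (Adeq.ptHom (inl B N)) c) = c
    rw [← C.X₂.map_comp_apply, C.X₂.congr_map_apply e, C.X₂.map_id]
    rfl
  have hd2 : C.g.app (Adeq.pt (ext B N)) d = 0 := by
    have key : C.g.app (Adeq.pt (ext B N)) d =
        C.X₃.map (Adeq.ptHom (inl B N)) (C.g.app (Adeq.pt B) c) :=
      PresheafOfModules.naturality_apply C.g (Adeq.ptHom (inl B N)) c
    rw [key, hc]
    exact map_zero _
  let y : C.X₂.obj (Adeq.pt (ext B N)) := y₀ - d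
  have hy : y ∈ tangent B N C.X₂ := by
    rw [mem_tangent]
    have key : C.X₂.map (Adeq.ptHom (fst B N)) y =
        C.X₂.map (Adeq.ptHom (fst B N)) y₀ - C.X₂.map (Adeq.ptHom (fst B N)) d :=
      map_sub _ _ _
    rw [key, hd1]
    exact sub_self c
  refine ⟨⟨y, hy⟩, Subtype.ext ?_⟩
  rw [tmap_coe]
  change C.g.app _ (y₀ - d) = z.1
  rw [map_sub, hy₀, hd2, sub_zero]

end SES

end Concrete

end Groth.Agent.H16.AdeqTFLib
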