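import Mathlib.CategoryTheory.Subobject.NoetherianObject
import Mathlib.CategoryTheory.Subobject.ArtinianObject
import Mathlib.CategoryTheory.Abelian.Refinements
import Mathlib.CategoryTheory.Abelian.SerreClass.Basic
import Mathlib.Algebra.Homology.ShortComplex.ShortExact
import Groth.Agent.H43.ARImages

/-!
# Noetherian / Artinian objects of an abelian category form Serre classes (helper16)

* `isNoetherianObject_of_epi`, `isNoetherianObject_of_shortExact`
* `isArtinianObject_of_epi`, `isArtinianObject_of_shortExact`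
* instances `isNoetherianObject.IsSerreClass`, `isArtinianObject.IsSerreClass`
-/

set_option autoImplicit false
open CategoryTheory CategoryTheory.Limits
universe v u

namespace Groth.Agent.H16

section order
variable {α β γ : Type*} [PartialOrder α] [Preorder β] [Preorder γ]

theorem strictMono_prod_of_jointly_strict (p : α → β) (q : α → γ) (hp : Monotone p)
    (hq : Monotone q) (h : ∀ a a' : α, a ≤ a' → p a' ≤ p a → q a' ≤ q a → a' ≤ a) :
    StrictMono (fun a => (p a, q a)) := by
  intro a a' haa'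
  rw [lt_iff_le_not_ge]
  refine ⟨⟨hp haa'.le, hq haa'.le⟩, fun hge => ?_⟩
  exact haa'.not_ge (h a a' haa'.le hge.1 hge.2)

theorem wellFoundedGT_of_jointly_strict [WellFoundedGT β] [WellFoundedGT γ] (p : α → β)
    (q : α → γ) (hp : Monotone p) (hq : Monotone q)
    (h : ∀ a a' : α, a ≤ a' → p a' ≤ p a → q a' ≤ q a → a' ≤ a) : WellFoundedGT α :=
  (strictMono_prod_of_jointly_strict p q hp hq h).wellFoundedGT

theorem wellFoundedLT_of_jointly_strict [WellFoundedLT β] [WellFoundedLT γ] (p : α → β)
    (q : α → γ) (hp : Monotone p) (hq : Monotone q)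
    (h : ∀ a a' : α, a ≤ a' → p a' ≤ p a → q a' ≤ q a → a' ≤ a) : WellFoundedLT α :=
  (strictMono_prod_of_jointly_strict p q hp hq h).wellFoundedLT

end order

section
variable {C : Type u} [Category.{v} C] [Abelian C]

theorem subobject_le_of_isIso_ofLE {X : C} (T T' : Subobject X) (hTT' : T ≤ T')
    (h : Epi (Subobject.ofLE T T' hTT')) : T' ≤ T := by
  have : IsIso (Subobject.ofLE T T' hTT') := isIso_of_mono_of_epi _
  apply Subobject.le_of_comm (inv (Subobject.ofLE T T' hTT'))
  rw [IsIso.inv_comp_eq, Subobject.ofLE_arrow]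

theorem subobject_le_of_pullback_le_of_epi {B C' : C} (g : B ⟶ C') [Epi g] (T T' : Subobject C')
    (hTT' : T ≤ T') (h : (Subobject.pullback g).obj T' ≤ (Subobject.pullback g).obj T) :
    T' ≤ T := by
  apply subobject_le_of_isIso_ofLE T T' hTT'
  rw [epi_iff_surjective_up_to_refinements]
  intro W y
  have hpb' := Subobject.isPullback g T'
  have hpb := Subobject.isPullback g T
  have : Epi (Subobject.pullbackπ g T') := Abelian.epi_fst_of_isLimit _ _ hpb'.isLimit
  obtain ⟨W₁, π₁, hπ₁, x, hx⟩ :=
    surjective_up_to_refinements_of_epi (Subobject.pullbackπ g T') y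
  refine ⟨W₁, π₁, hπ₁, x ≫ Subobject.ofLE _ _ h ≫ Subobject.pullbackπ g T, ?_⟩
  refine (cancel_mono T'.arrow).mp ?_
  rw [hx]
  simp only [Category.assoc, Subobject.ofLE_arrow]
  rw [hpb'.w, hpb.w, ← Category.assoc (Subobject.ofLE _ _ h), Subobject.ofLE_arrow]

theorem subobject_le_of_shortExact {S : ShortComplex C} (hS : S.ShortExact)
    (T T' : Subobject S.X₂) (hTT' : T ≤ T')
    (h₁ : (Subobject.pullback S.f).obj T' ≤ (Subobject.pullback S.f).obj T)
    (h₃ : imageSubobject (T'.arrow ≫ S.g) ≤ imageSubobject (T.arrow ≫ S.g)) : T' ≤ T := by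
  have := hS.mono_f
  apply subobject_le_of_isIso_ofLE T T' hTT'
  rw [epi_iff_surjective_up_to_refinements]
  intro W y
  obtain ⟨W₁, π₁, hπ₁, k, hk⟩ :=
    Groth.Agent.H43.refinement_of_image_le (T'.arrow ≫ S.g) (T.arrow ≫ S.g) h₃ y
  have hd : (π₁ ≫ y ≫ T'.arrow - k ≫ T.arrow) ≫ S.g = 0 := by
    rw [Preadditive.sub_comp, Category.assoc, Category.assoc, Category.assoc, hk, sub_self]
  obtain ⟨z, hz⟩ : ∃ z : W₁ ⟶ S.X₁, z ≫ S.f = π₁ ≫ y ≫ T'.arrow - k ≫ T.arrow :=
    hS.exact.lift' _ hd
  have e1 : (π₁ ≫ y - k ≫ Subobject.ofLE T T' hTT') ≫ T'.arrow = z ≫ S.f := by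
    rw [hz, Preadditive.sub_comp, Category.assoc, Category.assoc, Subobject.ofLE_arrow]
  have hpb' := Subobject.isPullback S.f T'
  have hpb := Subobject.isPullback S.f T
  obtain ⟨z', hz'2⟩ : ∃ z' : W₁ ⟶ ((Subobject.pullback S.f).obj T' : C),
      z' ≫ ((Subobject.pullback S.f).obj T').arrow = z :=
    ⟨hpb'.lift _ _ e1, hpb'.lift_snd _ _ _⟩
  have hm : (z' ≫ Subobject.ofLE _ _ h₁ ≫ Subobject.pullbackπ S.f T) ≫ T.arrow = z ≫ S.f := by
    simp only [Category.assoc]
    rw [hpb.w, ← Category.assoc (Subobject.ofLE _ _ h₁), Subobject.ofLE_arrow,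
      ← Category.assoc, hz'2]
  refine ⟨W₁, π₁, hπ₁, k + z' ≫ Subobject.ofLE _ _ h₁ ≫ Subobject.pullbackπ S.f T, ?_⟩
  refine (cancel_mono T'.arrow).mp ?_
  rw [Category.assoc, Category.assoc, Subobject.ofLE_arrow, Preadditive.add_comp, hm, hz]
  abel

theorem monotone_image_comp {X Y : C} (g : X ⟶ Y) :
    Monotone (fun T : Subobject X => imageSubobject (T.arrow ≫ g)) := by
  intro T T' h
  change imageSubobject (T.arrow ≫ g) ≤ imageSubobject (T'.arrow ≫ g)
  rw [← Subobject.ofLE_arrow h, Category.assoc]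
  exact imageSubobject_comp_le _ _

theorem isNoetherianObject_iff_wf (X : C) :
    IsNoetherianObject X ↔ WellFoundedGT (Subobject X) :=
  ⟨fun _ => inferInstance, fun h => (ObjectProperty.is_iff _ _).mpr h⟩

theorem isArtinianObject_iff_wf (X : C) :
    IsArtinianObject X ↔ WellFoundedLT (Subobject X) :=
  ⟨fun _ => inferInstance, fun h => (ObjectProperty.is_iff _ _).mpr h⟩

theorem strictMono_pullback_of_epi {X Y : C} (p : X ⟶ Y) [Epi p] :
    StrictMono (fun T : Subobject Y => (Subobject.pullback p).obj T) := by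
  intro T T' hlt
  refine lt_of_le_of_ne ((Subobject.pullback p).monotone hlt.le) (fun heq => ?_)
  exact hlt.not_ge (subobject_le_of_pullback_le_of_epi p T T' hlt.le heq.ge)

theorem isNoetherianObject_of_epi {X Y : C} (p : X ⟶ Y) [Epi p] [IsNoetherianObject X] :
    IsNoetherianObject Y := by
  rw [isNoetherianObject_iff_wf]
  exact (strictMono_pullback_of_epi p).wellFoundedGT

theorem isArtinianObject_of_epi {X Y : C} (p : X ⟶ Y) [Epi p] [IsArtinianObject X] :
    IsArtinianObject Y := by
  rw [isArtinianObject_iff_wf]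
  exact (strictMono_pullback_of_epi p).wellFoundedLT

theorem isNoetherianObject_of_shortExact {S : ShortComplex C} (hS : S.ShortExact)
    [IsNoetherianObject S.X₁] [IsNoetherianObject S.X₃] : IsNoetherianObject S.X₂ := by
  rw [isNoetherianObject_iff_wf]
  exact wellFoundedGT_of_jointly_strict
    (fun T : Subobject S.X₂ => (Subobject.pullback S.f).obj T)
    (fun T => imageSubobject (T.arrow ≫ S.g)) (Subobject.pullback S.f).monotone
    (monotone_image_comp S.g)
    (fun T T' hTT' h₁ h₃ => subobject_le_of_shortExact hS T T' hTT' h₁ h₃)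

theorem isArtinianObject_of_shortExact {S : ShortComplex C} (hS : S.ShortExact)
    [IsArtinianObject S.X₁] [IsArtinianObject S.X₃] : IsArtinianObject S.X₂ := by
  rw [isArtinianObject_iff_wf]
  exact wellFoundedLT_of_jointly_strict
    (fun T : Subobject S.X₂ => (Subobject.pullback S.f).obj T)
    (fun T => imageSubobject (T.arrow ≫ S.g)) (Subobject.pullback S.f).monotone
    (monotone_image_comp S.g)
    (fun T T' hTT' h₁ h₃ => subobject_le_of_shortExact hS T T' hTT' h₁ h₃)

instance : (isNoetherianObject (C := C)).IsSerreClass where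
  toContainsZero := inferInstance
  toIsClosedUnderSubobjects := inferInstance
  toIsClosedUnderQuotients := ⟨fun {X Y} f _ hX => by
    rw [← isNoetherianObject.is_iff] at hX ⊢
    exact isNoetherianObject_of_epi f⟩
  toIsClosedUnderExtensions := ⟨fun {S} hS h₁ h₃ => by
    rw [← isNoetherianObject.is_iff] at h₁ h₃ ⊢
    exact isNoetherianObject_of_shortExact hS⟩

instance : (isArtinianObject (C := C)).IsSerreClass where
  toContainsZero := inferInstance
  toIsClosedUnderSubobjects := inferInstance
  toIsClosedUnderQuotients := ⟨fun {X Y} f _ hX => by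
    rw [← isArtinianObject.is_iff] at hX ⊢
    exact isArtinianObject_of_epi f⟩
  toIsClosedUnderExtensions := ⟨fun {S} hS h₁ h₃ => by
    rw [← isArtinianObject.is_iff] at h₁ h₃ ⊢
    exact isArtinianObject_of_shortExact hS⟩

end

end Groth.Agent.H16
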