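import Mathlib

/-!
# Subrings of local Artinian rings (helper16)

`D ⊆ C` a subring of a local Artinian ring containing the maximal ideal, closed under inverses and
over which `C` is finitely generated as a module: then `D` is again local Artinian and the
inclusion is a local homomorphism.
-/

set_option linter.style.haveILetI false
set_option linter.unnecessarySimpa false

universe u

namespace Groth.Agent.H16.ArtLift

open IsLocalRing

section Ring

variable {C : Type u} [CommRing C]

/-- closed under inverses of units of the ambient ring. -/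
def InvClosed (D : Subring C) : Prop := ∀ u : Cˣ, (u : C) ∈ D → ((u⁻¹ : Cˣ) : C) ∈ D

/-- finite generation up to `D`. -/
def Gen (D : Subring C) : Prop :=
  ∃ (n : ℕ) (c : Fin n → C), ∀ x : C, ∃ d : Fin n → C, (∀ i, d i ∈ D) ∧ x - ∑ i, d i * c i ∈ D

lemma gen_strong {D : Subring C} (h : Gen D) :
    ∃ (n : ℕ) (c : Fin n → C), ∀ x : C, ∃ d : Fin n → C, (∀ i, d i ∈ D) ∧ x = ∑ i, d i * c i := by
  obtain ⟨n, c, hc⟩ := h
  refine ⟨n + 1, Fin.cons 1 c, fun x => ?_⟩
  obtain ⟨d, hd, hx⟩ := hc x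
  refine ⟨Fin.cons (x - ∑ i, d i * c i) d, ?_, ?_⟩
  · intro i
    refine Fin.cases ?_ (fun j => ?_) i
    · simpa using hx
    · simpa using hd j
  · rw [Fin.sum_univ_succ]
    simp

lemma isUnit_sub {D : Subring C} (h2 : InvClosed D) {a : D} (h : IsUnit (a : C)) : IsUnit a := by
  obtain ⟨u, hu⟩ := h
  have hmem : ((u⁻¹ : Cˣ) : C) ∈ D := h2 u (by rw [hu]; exact a.2)
  refine IsUnit.of_mul_eq_one (⟨((u⁻¹ : Cˣ) : C), hmem⟩ : D) ?_
  apply Subtype.ext
  simp [← hu]

lemma isLocalHom_subtype {D : Subring C} (h2 : InvClosed D) : IsLocalHom D.subtype :=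
  ⟨fun _ h => isUnit_sub h2 h⟩

variable [IsLocalRing C]

lemma isLocalRing_sub {D : Subring C} (h2 : InvClosed D) : IsLocalRing D := by
  refine IsLocalRing.of_isUnit_or_isUnit_one_sub_self fun a => ?_
  rcases IsLocalRing.isUnit_or_isUnit_one_sub_self (a : C) with h | h
  · exact Or.inl (isUnit_sub h2 h)
  · exact Or.inr (isUnit_sub h2 (a := 1 - a) (by simpa using h))

lemma mem_max_sub {D : Subring C} (h2 : InvClosed D) [IsLocalRing D] (a : D) :
    a ∈ maximalIdeal D ↔ (a : C) ∈ maximalIdeal C := by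
  rw [IsLocalRing.mem_maximalIdeal, IsLocalRing.mem_maximalIdeal, mem_nonunits_iff,
    mem_nonunits_iff, not_iff_not]
  exact ⟨fun h => h.map D.subtype, fun h => isUnit_sub h2 h⟩

theorem artinian_sub [IsArtinianRing C] (D : Subring C)
    (h1 : ∀ x ∈ maximalIdeal C, x ∈ D) (h2 : InvClosed D) (h3 : Gen D) :
    ∃ (_ : IsLocalRing D), IsLocalHom D.subtype ∧ IsArtinianRing D := by
  haveI hloc : IsLocalRing D := isLocalRing_sub h2
  refine ⟨hloc, isLocalHom_subtype h2, ?_⟩
  -- nilpotency of the maximal ideal of `C`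
  obtain ⟨k, hk⟩ : ∃ k : ℕ, (maximalIdeal C) ^ k = ⊥ := by
    have h := IsArtinianRing.isNilpotent_jacobson_bot (R := C)
    rw [IsLocalRing.jacobson_eq_maximalIdeal _ bot_ne_top] at h
    obtain ⟨k, hk⟩ := h
    exact ⟨k, hk⟩
  -- the only prime of `D` is its maximal ideal
  have hprime : ∀ P : Ideal D, P.IsPrime → P = maximalIdeal D := by
    intro P hP
    refine le_antisymm (IsLocalRing.le_maximalIdeal hP.ne_top) fun x hx => ?_
    have hx' : (x : C) ∈ maximalIdeal C := (mem_max_sub h2 x).mp hx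
    have hpow : (x : C) ^ k = 0 := by
      have : (x : C) ^ k ∈ (maximalIdeal C) ^ k := Ideal.pow_mem_pow hx' k
      rw [hk] at this
      simpa using this
    have hpow' : x ^ k = 0 := Subtype.ext (by simpa using hpow)
    exact hP.mem_of_pow_mem k (hpow' ▸ P.zero_mem)
  -- finite generation of the maximal ideal of `D`
  have hfg : (maximalIdeal D).FG := by
    obtain ⟨n, c, hc⟩ := gen_strong h3
    obtain ⟨m, xs, hxs⟩ := Submodule.fg_iff_exists_fin_generating_family.mp
      ((isNoetherianRing_iff_ideal_fg C).mp inferInstance (maximalIdeal C))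
    have hxsmem : ∀ j, xs j ∈ maximalIdeal C := fun j => by
      rw [← hxs]; exact Submodule.subset_span ⟨j, rfl⟩
    have hgm : ∀ p : Fin n × Fin m, c p.1 * xs p.2 ∈ maximalIdeal C := fun p =>
      Ideal.mul_mem_left _ _ (hxsmem p.2)
    let g : Fin n × Fin m → D := fun p => ⟨c p.1 * xs p.2, h1 _ (hgm p)⟩
    have : maximalIdeal D = Ideal.span (Set.range g) := by
      refine le_antisymm (fun x hx => ?_) ?_
      · have hx' : (x : C) ∈ maximalIdeal C := (mem_max_sub h2 x).mp hx
        rw [← hxs] at hx'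
        obtain ⟨r, hr⟩ := (Ideal.mem_span_range_iff_exists_fun).mp hx'
        choose d hd hrd using fun j => hc (r j)
        have hxeq : x = ∑ j, ∑ i, (⟨d j i, hd j i⟩ : D) * g (i, j) := by
          apply Subtype.ext
          simp only [AddSubmonoidClass.coe_finsetSum, Subring.coe_mul, g]
          rw [← hr]
          refine Finset.sum_congr rfl fun j _ => ?_
          rw [hrd j, Finset.sum_mul]
          refine Finset.sum_congr rfl fun i _ => ?_
          ring
        rw [hxeq]
        exact Ideal.sum_mem _ fun j _ => Ideal.sum_mem _ fun i _ =>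
          Ideal.mul_mem_left _ _ (Ideal.subset_span ⟨(i, j), rfl⟩)
      · rw [Ideal.span_le]
        rintro _ ⟨p, rfl⟩
        exact (mem_max_sub h2 _).mpr (hgm p)
    rw [this]
    exact Submodule.fg_span (Set.finite_range g)
  rw [isArtinianRing_iff_isNoetherianRing_krullDimLE_zero]
  refine ⟨IsNoetherianRing.of_prime fun P hP => ?_, Ring.KrullDimLE.mk₀ fun P hP => ?_⟩
  · rw [hprime P hP]; exact hfg
  · rw [hprime P hP]; exact maximalIdeal.isMaximal D

/-- `A + 𝔪_C`. -/
def plusMax (A : Subring C) : Subring C :=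
  Subring.comap (IsLocalRing.residue C) (A.map (IsLocalRing.residue C))

lemma mem_plusMax {A : Subring C} {x : C} :
    x ∈ plusMax A ↔ ∃ y ∈ A, x - y ∈ maximalIdeal C := by
  rw [plusMax, Subring.mem_comap, Subring.mem_map]
  refine exists_congr fun y => and_congr_right fun _ => ?_
  rw [← sub_eq_zero, ← map_sub, IsLocalRing.residue_eq_zero_iff, ← neg_sub,
    neg_mem_iff]

lemma le_plusMax (A : Subring C) : A ≤ plusMax A := fun x hx =>
  mem_plusMax.mpr ⟨x, hx, by simp⟩

lemma max_le_plusMax (A : Subring C) : ∀ x ∈ maximalIdeal C, x ∈ plusMax A := fun x hx =>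
  mem_plusMax.mpr ⟨0, A.zero_mem, by simpa using hx⟩

lemma invClosed_plusMax {A : Subring C} (hA : InvClosed A) : InvClosed (plusMax A) := by
  intro u hu
  obtain ⟨y, hyA, hy⟩ := mem_plusMax.mp hu
  have hyu : IsUnit y := by
    by_contra hny
    have : (u : C) ∈ maximalIdeal C := by
      have := (maximalIdeal C).add_mem hy ((IsLocalRing.mem_maximalIdeal y).mpr hny)
      simpa using this
    exact ((IsLocalRing.mem_maximalIdeal _).mp this) u.isUnit
  obtain ⟨v, rfl⟩ := hyu
  refine mem_plusMax.mpr ⟨_, hA v hyA, ?_⟩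
  have : ((u⁻¹ : Cˣ) : C) - ((v⁻¹ : Cˣ) : C) = ((u⁻¹ : Cˣ) : C) * ((v⁻¹ : Cˣ) : C) * -((u : C) - v) := by
    have h1 : ((u⁻¹ : Cˣ) : C) * u = 1 := by simp
    have h2 : ((v⁻¹ : Cˣ) : C) * v = 1 := by simp
    linear_combination ((↑v⁻¹ : C)) * h1 - (↑u⁻¹ : C) * h2
  rw [this]
  exact Ideal.mul_mem_left _ _ (neg_mem hy)

lemma gen_plusMax {A : Subring C}
    (h : ∃ (n : ℕ) (c : Fin n → C), ∀ x : C, ∃ y : Fin n → C, (∀ i, y i ∈ A) ∧
      x - ∑ i, y i * c i ∈ maximalIdeal C) : Gen (plusMax A) := by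
  obtain ⟨n, c, hc⟩ := h
  refine ⟨n, c, fun x => ?_⟩
  obtain ⟨y, hy, hx⟩ := hc x
  exact ⟨y, fun i => le_plusMax A (hy i), max_le_plusMax A _ hx⟩

variable {C' : Type u} [CommRing C'] [IsLocalRing C']

lemma max_le_comap (π : C' →+* C) (hπ : Function.Surjective π) {D : Subring C}
    (h1 : ∀ x ∈ maximalIdeal C, x ∈ D) : ∀ x ∈ maximalIdeal C', x ∈ D.comap π := by
  intro x hx
  rw [Subring.mem_comap]
  apply h1
  haveI : IsLocalHom π := hπ.isLocalHom
  rw [IsLocalRing.mem_maximalIdeal, mem_nonunits_iff] at hx ⊢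
  exact fun h => hx (isUnit_of_map_unit π x h)

omit [IsLocalRing C] [IsLocalRing C'] in
lemma invClosed_comap (π : C' →+* C) {D : Subring C} (h2 : InvClosed D) :
    InvClosed (D.comap π) := by
  intro u hu
  rw [Subring.mem_comap] at hu ⊢
  have := h2 (Units.map π.toMonoidHom u) hu
  rw [← map_inv] at this
  exact this

omit [IsLocalRing C] [IsLocalRing C'] in
lemma gen_comap (π : C' →+* C) (hπ : Function.Surjective π) {D : Subring C} (h3 : Gen D) :
    Gen (D.comap π) := by
  obtain ⟨n, c, hc⟩ := h3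
  choose c' hc' using fun i => hπ (c i)
  refine ⟨n, c', fun x => ?_⟩
  obtain ⟨d, hd, hx⟩ := hc (π x)
  choose d' hd' using fun i => hπ (d i)
  refine ⟨d', fun i => ?_, ?_⟩
  · rw [Subring.mem_comap, hd']; exact hd i
  · rw [Subring.mem_comap, map_sub, map_sum]
    simp only [map_mul, hd', hc']
    exact hx

omit [IsLocalRing C] [IsLocalRing C'] in
lemma surj_comap (π : C' →+* C) (hπ : Function.Surjective π) (D : Subring C) :
    Function.Surjective
      ((π.comp (D.comap π).subtype).codRestrict D fun x => x.2) := by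
  intro d
  obtain ⟨x, hx⟩ := hπ d.1
  exact ⟨⟨x, by rw [Subring.mem_comap, hx]; exact d.2⟩, Subtype.ext hx⟩

end Ring

end Groth.Agent.H16.ArtLift
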