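import Mathlib
import Groth.Agent.H16.ArtLift

/-!
# Morphisms from spectra of local rings: ranges, residue fields (helper16)
-/

set_option linter.style.haveILetI false
set_option linter.unnecessarySimpa false
set_option linter.unusedSectionVars false

universe u

open AlgebraicGeometry CategoryTheory IsLocalRing

namespace Groth.Agent.H16.ArtLift

section Sch

set_option backward.isDefEq.respectTransparency false
set_option backward.isDefEq.respectTransparency.types false

variable {X : Scheme.{u}} {R : CommRingCat.{u}} [IsLocalRing R]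

/-- the image of `𝒪_{X, f 𝔪} → R`. -/
noncomputable def rng (f : Spec R ⟶ X) : Subring R :=
  RingHom.range (Scheme.stalkClosedPointTo f).hom

/-- the image for a pair. -/
noncomputable def rngS (xf : Σ x, { f : X.presheaf.stalk x ⟶ R // IsLocalHom f.hom }) : Subring R :=
  RingHom.range xf.2.1.hom

lemma rng_eq (f : Spec R ⟶ X) : rng f = rngS (SpecToEquivOfLocalRing X R f) := rfl

/-- push a pair along a local homomorphism. -/
noncomputable def pushS {R' : CommRingCat.{u}} (φ : R ⟶ R') (hφ : IsLocalHom φ.hom)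
    (xf : Σ x, { f : X.presheaf.stalk x ⟶ R // IsLocalHom f.hom }) :
    Σ x, { f : X.presheaf.stalk x ⟶ R' // IsLocalHom f.hom } :=
  ⟨xf.1, xf.2.1 ≫ φ, by
    haveI := xf.2.2
    exact CommRingCat.isLocalHom_comp _ _⟩

lemma rngS_pushS {R' : CommRingCat.{u}} (φ : R ⟶ R') (hφ : IsLocalHom φ.hom)
    (xf : Σ x, { f : X.presheaf.stalk x ⟶ R // IsLocalHom f.hom }) :
    rngS (pushS φ hφ xf) = (rngS xf).map φ.hom := by
  ext x
  simp only [rngS, pushS, CommRingCat.hom_comp, RingHom.mem_range, RingHom.coe_comp,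
    Function.comp_apply, Subring.mem_map, exists_exists_eq_and]

lemma pushS_injective {R' : CommRingCat.{u}} (φ : R ⟶ R') (hφ : IsLocalHom φ.hom)
    (hinj : Function.Injective φ.hom) :
    Function.Injective (pushS (X := X) φ hφ) := by
  rintro ⟨x, f, hf⟩ ⟨x', f', hf'⟩ h
  simp only [pushS] at h
  obtain ⟨rfl, h2⟩ := Sigma.mk.inj_iff.mp h
  have h3 := Subtype.ext_iff.mp (eq_of_heq h2)
  simp only at h3
  haveI : Mono φ := ConcreteCategory.mono_of_injective φ hinj
  have : f = f' := (cancel_mono φ).mp h3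
  subst this
  rfl

lemma equiv_comp {R' : CommRingCat.{u}} [IsLocalRing R'] (φ : R ⟶ R') (hφ : IsLocalHom φ.hom)
    (m : Spec R ⟶ X) :
    SpecToEquivOfLocalRing X R' (Spec.map φ ≫ m) =
      pushS φ hφ (SpecToEquivOfLocalRing X R m) := by
  have h : Spec.map φ ≫ m =
      (SpecToEquivOfLocalRing X R').symm (pushS φ hφ (SpecToEquivOfLocalRing X R m)) := by
    show Spec.map φ ≫ m = Spec.map (Scheme.stalkClosedPointTo m ≫ φ) ≫
      X.fromSpecStalk (m (closedPoint R))
    rw [Spec.map_comp, Category.assoc, Scheme.Spec_stalkClosedPointTo_fromSpecStalk]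
  rw [h, Equiv.apply_symm_apply]

lemma rng_spec_comp {R' : CommRingCat.{u}} [IsLocalRing R'] (φ : R ⟶ R')
    (hφ : IsLocalHom φ.hom) (m : Spec R ⟶ X) :
    rng (Spec.map φ ≫ m) = (rng m).map φ.hom := by
  rw [rng_eq, equiv_comp φ hφ, rngS_pushS, ← rng_eq]

lemma rng_comp_le {Y : Scheme.{u}} (m : Spec R ⟶ X) (g : X ⟶ Y) : rng (m ≫ g) ≤ rng m := by
  rintro x ⟨y, rfl⟩
  rw [Scheme.stalkClosedPointTo_comp]
  exact ⟨_, rfl⟩

lemma rng_mk {x : X} (f : X.presheaf.stalk x ⟶ R) (hf : IsLocalHom f.hom) :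
    rng (Spec.map f ≫ X.fromSpecStalk x) = RingHom.range f.hom := by
  have h : Spec.map f ≫ X.fromSpecStalk x =
      (SpecToEquivOfLocalRing X R).symm ⟨x, f, hf⟩ := rfl
  rw [rng_eq, h, Equiv.apply_symm_apply]
  rfl

lemma spec_epi {R' : CommRingCat.{u}} [IsLocalRing R'] (ι : R ⟶ R') (hι : IsLocalHom ι.hom)
    (hinj : Function.Injective ι.hom) (m₁ m₂ : Spec R ⟶ X)
    (h : Spec.map ι ≫ m₁ = Spec.map ι ≫ m₂) : m₁ = m₂ := by
  apply (SpecToEquivOfLocalRing X R).injective
  have := congrArg (SpecToEquivOfLocalRing X R') h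
  rw [equiv_comp ι hι, equiv_comp ι hι] at this
  exact pushS_injective ι hι hinj this

lemma invClosed_rng (f : Spec R ⟶ X) : InvClosed (rng f) := by
  rintro u ⟨y, hy⟩
  have hyu : IsUnit y := isUnit_of_map_unit (Scheme.stalkClosedPointTo f).hom y (hy ▸ u.isUnit)
  obtain ⟨v, rfl⟩ := hyu
  refine ⟨((v⁻¹ : _ˣ) : _), ?_⟩
  symm
  apply Units.inv_eq_of_mul_eq_one_right
  rw [← hy, ← map_mul]
  simp

lemma stalkTo_apply (f : Spec R ⟶ X) (y) :
    (Scheme.stalkClosedPointTo f).hom y =
      (stalkClosedPointIso R).hom.hom ((f.stalkMap (closedPoint R)).hom y) := rfl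

lemma iso_mem_max {w : (Spec R).presheaf.stalk (closedPoint R)} :
    (stalkClosedPointIso R).hom.hom w ∈ maximalIdeal R ↔
      w ∈ maximalIdeal ((Spec R).presheaf.stalk (closedPoint R)) := by
  haveI : IsLocalHom (stalkClosedPointIso R).hom.hom := isLocalHom_of_iso _
  rw [IsLocalRing.mem_maximalIdeal, IsLocalRing.mem_maximalIdeal, mem_nonunits_iff,
    mem_nonunits_iff, not_iff_not]
  exact ⟨fun h => isUnit_of_map_unit _ _ h, fun h => h.map _⟩

lemma residue_eq_of_sub_mem {x : X} {w w' : X.presheaf.stalk x}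
    (h : w - w' ∈ maximalIdeal (X.presheaf.stalk x)) :
    (X.residue x).hom w = (X.residue x).hom w' := by
  rw [← sub_eq_zero, ← map_sub]
  exact (IsLocalRing.residue_eq_zero_iff _).mpr h

lemma sub_mem_of_residue_eq {x : X} {w w' : X.presheaf.stalk x}
    (h : (X.residue x).hom w = (X.residue x).hom w') :
    w - w' ∈ maximalIdeal (X.presheaf.stalk x) := by
  rw [← sub_eq_zero, ← map_sub] at h
  exact (IsLocalRing.residue_eq_zero_iff _).mp h

lemma residueFieldMap_residue (f : Spec R ⟶ X) (y) :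
    (f.residueFieldMap (closedPoint R)).hom ((X.residue _).hom y) =
      ((Spec R).residue _).hom ((f.stalkMap (closedPoint R)).hom y) := by
  have := ConcreteCategory.congr_hom (Scheme.residue_residueFieldMap f (closedPoint R)) y
  simpa using this

lemma surj_resid (f : Spec R ⟶ X) (h : ∀ x : R, ∃ y ∈ rng f, x - y ∈ maximalIdeal R) :
    Function.Surjective (f.residueFieldMap (closedPoint R)).hom := by
  intro z
  obtain ⟨w, rfl⟩ := Scheme.residue_surjective (Spec R) (closedPoint R) z
  obtain ⟨_, ⟨y₀, rfl⟩, hy⟩ := h ((stalkClosedPointIso R).hom.hom w)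
  rw [stalkTo_apply, ← map_sub, iso_mem_max] at hy
  refine ⟨(X.residue _).hom y₀, ?_⟩
  rw [residueFieldMap_residue]
  exact (residue_eq_of_sub_mem hy).symm

lemma fin_resid (f : Spec R ⟶ X) (h : (f.residueFieldMap (closedPoint R)).hom.Finite) :
    ∃ (n : ℕ) (c : Fin n → R), ∀ x : R, ∃ y : Fin n → R, (∀ i, y i ∈ rng f) ∧
      x - ∑ i, y i * c i ∈ maximalIdeal R := by
  letI := (f.residueFieldMap (closedPoint R)).hom.toAlgebra
  haveI : Module.Finite (X.residueField (f (closedPoint R)))
    ((Spec R).residueField (closedPoint R)) := h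
  obtain ⟨n, s, hs⟩ := Module.Finite.exists_fin
    (R := X.residueField (f (closedPoint R))) (M := (Spec R).residueField (closedPoint R))
  choose w hw using fun i => Scheme.residue_surjective (Spec R) (closedPoint R) (s i)
  refine ⟨n, fun i => (stalkClosedPointIso R).hom.hom (w i), fun x => ?_⟩
  have hx : ((Spec R).residue _).hom ((stalkClosedPointIso R).inv.hom x) ∈
      Submodule.span (X.residueField (f (closedPoint R))) (Set.range s) := by
    rw [hs]; trivial
  obtain ⟨r, hr⟩ := (Submodule.mem_span_range_iff_exists_fun _).mp hx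
  choose y₀ hy₀ using fun i => Scheme.residue_surjective X (f (closedPoint R)) (r i)
  refine ⟨fun i => (Scheme.stalkClosedPointTo f).hom (y₀ i), fun i => ⟨_, rfl⟩, ?_⟩
  have hxx : x = (stalkClosedPointIso R).hom.hom ((stalkClosedPointIso R).inv.hom x) := by
    have := ConcreteCategory.congr_hom (stalkClosedPointIso R).inv_hom_id x
    simpa using this.symm
  have key : x - ∑ i, (Scheme.stalkClosedPointTo f).hom (y₀ i) *
      (stalkClosedPointIso R).hom.hom (w i) =
      (stalkClosedPointIso R).hom.hom ((stalkClosedPointIso R).inv.hom x -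
        ∑ i, (f.stalkMap (closedPoint R)).hom (y₀ i) * w i) := by
    rw [map_sub, map_sum, ← hxx]
    simp only [map_mul, stalkTo_apply]
  rw [key, iso_mem_max]
  have : ((Spec R).residue _).hom (∑ i, (f.stalkMap (closedPoint R)).hom (y₀ i) * w i) =
      ((Spec R).residue _).hom ((stalkClosedPointIso R).inv.hom x) := by
    rw [← hr, map_sum]
    refine Finset.sum_congr rfl fun i _ => ?_
    rw [map_mul, Algebra.smul_def, RingHom.algebraMap_toAlgebra, ← hy₀ i,
      residueFieldMap_residue]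
    congr 1
    exact hw i
  exact sub_mem_of_residue_eq this.symm

end Sch

section Main

set_option backward.isDefEq.respectTransparency false
set_option backward.isDefEq.respectTransparency.types false

/-- The lifting property against residue-surjective points implies the lifting property against
residue-finite points. -/
theorem finite_of_surjective {S T : Scheme.{u}} (g : T ⟶ S) (t : T)
    (hT : ∀ (C C' : Type u) [CommRing C] [CommRing C'] [IsLocalRing C] [IsLocalRing C']
        [IsArtinianRing C] [IsArtinianRing C'] (π : C' →+* C), Function.Surjective π →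
        ∀ (a : Spec (CommRingCat.of C) ⟶ T) (b : Spec (CommRingCat.of C') ⟶ S),
          a (IsLocalRing.closedPoint C) = t →
          Function.Surjective (a.residueFieldMap (IsLocalRing.closedPoint C)).hom →
          Spec.map (CommRingCat.ofHom π) ≫ b = a ≫ g →
          ∃ c : Spec (CommRingCat.of C') ⟶ T,
            Spec.map (CommRingCat.ofHom π) ≫ c = a ∧ c ≫ g = b) :
    ∀ (C C' : Type u) [CommRing C] [CommRing C'] [IsLocalRing C] [IsLocalRing C']
        [IsArtinianRing C] [IsArtinianRing C'] (π : C' →+* C), Function.Surjective π →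
        ∀ (a : Spec (CommRingCat.of C) ⟶ T) (b : Spec (CommRingCat.of C') ⟶ S),
          a (IsLocalRing.closedPoint C) = t →
          (a.residueFieldMap (IsLocalRing.closedPoint C)).hom.Finite →
          Spec.map (CommRingCat.ofHom π) ≫ b = a ≫ g →
          ∃ c : Spec (CommRingCat.of C') ⟶ T,
            Spec.map (CommRingCat.ofHom π) ≫ c = a ∧ c ≫ g = b := by
  intro C C' _ _ _ _ _ _ π hπ a b hat hfin hcomp
  haveI hπloc : IsLocalHom (CommRingCat.ofHom π).hom := hπ.isLocalHom
  -- the subrings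
  let A : Subring C := rng (R := CommRingCat.of C) a
  let C₀ : Subring C := plusMax A
  let C'₀ : Subring C' := C₀.comap π
  have hgen : Gen C₀ := gen_plusMax (fin_resid (R := CommRingCat.of C) a hfin)
  have hinv : InvClosed C₀ := invClosed_plusMax (invClosed_rng (R := CommRingCat.of C) a)
  obtain ⟨hl0, hlh0, hart0⟩ := artinian_sub C₀ (max_le_plusMax A) hinv hgen
  obtain ⟨hl1, hlh1, hart1⟩ := artinian_sub C'₀ (max_le_comap π hπ (max_le_plusMax A))
    (invClosed_comap π hinv) (gen_comap π hπ hgen)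
  let ι : CommRingCat.of C₀ ⟶ CommRingCat.of C := CommRingCat.ofHom C₀.subtype
  let ι' : CommRingCat.of C'₀ ⟶ CommRingCat.of C' := CommRingCat.ofHom C'₀.subtype
  have hιloc : IsLocalHom ι.hom := hlh0
  have hι'loc : IsLocalHom ι'.hom := hlh1
  let π₀ : C'₀ →+* C₀ := (π.comp C'₀.subtype).codRestrict C₀ fun x => x.2
  have hπ₀ : Function.Surjective π₀ := surj_comap π hπ C₀
  have hsq : CommRingCat.ofHom π₀ ≫ ι = ι' ≫ CommRingCat.ofHom π := rfl
  -- the restricted morphisms
  let α := Scheme.stalkClosedPointTo (R := CommRingCat.of C) a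
  let β := Scheme.stalkClosedPointTo (R := CommRingCat.of C') b
  have hαmem : ∀ y, α.hom y ∈ C₀ := fun y => le_plusMax A ⟨y, rfl⟩
  have hβmem : ∀ z, β.hom z ∈ C'₀ := by
    intro z
    have h1 : π (β.hom z) ∈ (rng (R := CommRingCat.of C') b).map π := ⟨_, ⟨z, rfl⟩, rfl⟩
    have h2 : (rng (R := CommRingCat.of C') b).map π = rng (R := CommRingCat.of C)
        (Spec.map (CommRingCat.ofHom π) ≫ b) :=
      (rng_spec_comp (R := CommRingCat.of C') (R' := CommRingCat.of C)
        (CommRingCat.ofHom π) hπloc b).symm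
    rw [h2, hcomp] at h1
    exact le_plusMax A (rng_comp_le (R := CommRingCat.of C) a g h1)
  let α₀ : T.presheaf.stalk (a (closedPoint C)) ⟶ CommRingCat.of C₀ :=
    CommRingCat.ofHom (α.hom.codRestrict C₀ hαmem)
  let β₀ : S.presheaf.stalk (b (closedPoint C')) ⟶ CommRingCat.of C'₀ :=
    CommRingCat.ofHom (β.hom.codRestrict C'₀ hβmem)
  have hα₀ι : α₀ ≫ ι = α := rfl
  have hβ₀ι : β₀ ≫ ι' = β := rfl
  have hα₀loc : IsLocalHom α₀.hom := by
    refine ⟨fun y hy => ?_⟩
    have : IsUnit (α.hom y) := hy.map C₀.subtype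
    exact isUnit_of_map_unit α.hom y this
  have hβ₀loc : IsLocalHom β₀.hom := by
    refine ⟨fun y hy => ?_⟩
    have : IsUnit (β.hom y) := hy.map C'₀.subtype
    exact isUnit_of_map_unit β.hom y this
  let a₀ : Spec (CommRingCat.of C₀) ⟶ T := Spec.map α₀ ≫ T.fromSpecStalk _
  let b₀ : Spec (CommRingCat.of C'₀) ⟶ S := Spec.map β₀ ≫ S.fromSpecStalk _
  have ha₀ : Spec.map ι ≫ a₀ = a := by
    show Spec.map ι ≫ Spec.map α₀ ≫ T.fromSpecStalk _ = a
    rw [← Spec.map_comp_assoc, hα₀ι]
    exact Scheme.Spec_stalkClosedPointTo_fromSpecStalk (R := CommRingCat.of C) a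
  have hb₀ : Spec.map ι' ≫ b₀ = b := by
    show Spec.map ι' ≫ Spec.map β₀ ≫ S.fromSpecStalk _ = b
    rw [← Spec.map_comp_assoc, hβ₀ι]
    exact Scheme.Spec_stalkClosedPointTo_fromSpecStalk (R := CommRingCat.of C') b
  have hcomp₀ : Spec.map (CommRingCat.ofHom π₀) ≫ b₀ = a₀ ≫ g := by
    refine spec_epi (R := CommRingCat.of C₀) (R' := CommRingCat.of C) ι hιloc
      Subtype.val_injective _ _ ?_
    rw [← Spec.map_comp_assoc, hsq, Spec.map_comp_assoc, hb₀, hcomp, ← ha₀, Category.assoc]
  have hat₀ : a₀ (closedPoint C₀) = t := by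
    have h1 : (Spec.map ι) (closedPoint C) = closedPoint C₀ :=
      Spec_closedPoint (R := CommRingCat.of C₀) (S := CommRingCat.of C) (f := ι)
    have h2 : (Spec.map ι ≫ a₀) (closedPoint C) = a₀ (closedPoint C₀) := by
      rw [Scheme.Hom.comp_apply, h1]
    rw [← h2, ha₀, hat]
  have hsurj₀ : Function.Surjective (a₀.residueFieldMap (closedPoint C₀)).hom := by
    refine surj_resid (R := CommRingCat.of C₀) a₀ fun x => ?_
    obtain ⟨y, ⟨y₀, rfl⟩, hy⟩ := mem_plusMax.mp x.2
    refine ⟨α₀.hom y₀, ?_, ?_⟩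
    · have : rng (R := CommRingCat.of C₀) a₀ = RingHom.range α₀.hom :=
        rng_mk (R := CommRingCat.of C₀) α₀ hα₀loc
      rw [this]
      exact ⟨y₀, rfl⟩
    · exact (mem_max_sub hinv _).mpr hy
  obtain ⟨c₀, hc1, hc2⟩ := hT C₀ C'₀ π₀ hπ₀ a₀ b₀ hat₀ hsurj₀ hcomp₀
  refine ⟨Spec.map ι' ≫ c₀, ?_, ?_⟩
  · rw [← Spec.map_comp_assoc, ← hsq, Spec.map_comp_assoc, hc1, ha₀]
  · rw [Category.assoc, hc2, hb₀]

end Main

end Groth.Agent.H16.ArtLift
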