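import Mathlib
import Groth.Agent.H16.ArtLift2

/-!
# Étale morphisms and liftings from local Artinian rings (helper16)
-/

set_option linter.style.haveILetI false
set_option linter.unnecessarySimpa false
set_option linter.unusedSectionVars false

universe u

open AlgebraicGeometry CategoryTheory IsLocalRing

namespace Groth.Agent.H16.ArtLift

section RingLemmas

lemma resid_finite_of_quasiFinite {R S : Type u} [CommRing R] [CommRing S] [IsLocalRing R]
    [IsLocalRing S] (φ : R →+* S) [IsLocalHom φ] (h : φ.QuasiFinite) :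
    (IsLocalRing.ResidueField.map φ).Finite := by
  algebraize [φ]
  letI : Algebra (ResidueField R) (ResidueField S) := (ResidueField.map φ).toAlgebra
  letI : Algebra R (ResidueField S) := ((residue S).comp φ).toAlgebra
  haveI : IsScalarTower R S (ResidueField S) := IsScalarTower.of_algebraMap_eq fun _ => rfl
  haveI : IsScalarTower R (ResidueField R) (ResidueField S) :=
    IsScalarTower.of_algebraMap_eq fun r => (ResidueField.map_residue φ r).symm
  haveI : Module.Finite S (ResidueField S) :=
    Module.Finite.of_surjective (Algebra.linearMap S (ResidueField S)) residue_surjective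
  haveI : Algebra.QuasiFinite R (ResidueField S) := Algebra.QuasiFinite.trans R S _
  haveI : Algebra.QuasiFinite (ResidueField R) (ResidueField S) :=
    Algebra.QuasiFinite.of_restrictScalars R _ _
  exact Module.Finite.of_quasiFinite

lemma quasiFinite_of_etale {R S : Type u} [CommRing R] [CommRing S] (φ : R →+* S)
    (h : φ.Etale) : φ.QuasiFinite := by
  algebraize [φ]
  exact (inferInstance : Algebra.QuasiFinite R S)

lemma etale_lift {R A C C' : Type u} [CommRing R] [CommRing A] [CommRing C] [CommRing C']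
    (ψ : R →+* A) (hψ : ψ.Etale) (π : C' →+* C) (hπ : Function.Surjective π)
    (hnil : IsNilpotent (RingHom.ker π)) (φa : A →+* C) (φc : R →+* C')
    (h : π.comp φc = φa.comp ψ) : ∃ l : A →+* C', π.comp l = φa ∧ l.comp ψ = φc := by
  algebraize [ψ]
  letI : Algebra R C' := φc.toAlgebra
  letI : Algebra R C := (π.comp φc).toAlgebra
  let f : A →ₐ[R] C := ⟨φa, fun r => (RingHom.congr_fun h r).symm⟩
  let g : C' →ₐ[R] C := ⟨π, fun r => rfl⟩
  haveI : Algebra.FormallySmooth R A := inferInstance
  refine ⟨(Algebra.FormallySmooth.liftOfSurjective f g hπ hnil).toRingHom, ?_, ?_⟩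
  · ext x
    exact Algebra.FormallySmooth.liftOfSurjective_apply f g hπ hnil x
  · ext r
    exact (Algebra.FormallySmooth.liftOfSurjective f g hπ hnil).commutes r

lemma ker_nilpotent {C C' : Type u} [CommRing C] [CommRing C'] [IsLocalRing C] [IsLocalRing C']
    [IsArtinianRing C'] (π : C' →+* C) : IsNilpotent (RingHom.ker π) := by
  obtain ⟨k, hk⟩ : ∃ k : ℕ, (maximalIdeal C') ^ k = ⊥ := by
    have h := IsArtinianRing.isNilpotent_jacobson_bot (R := C')
    rw [IsLocalRing.jacobson_eq_maximalIdeal _ bot_ne_top] at h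
    obtain ⟨k, hk⟩ := h
    exact ⟨k, hk⟩
  refine ⟨k, le_bot_iff.mp ?_⟩
  rw [← hk]
  exact Ideal.pow_right_mono (IsLocalRing.le_maximalIdeal (RingHom.ker_ne_top π)) k

end RingLemmas

section Etale

set_option backward.isDefEq.respectTransparency false
set_option backward.isDefEq.respectTransparency.types false

lemma locallyQuasiFinite_of_etale {U T : Scheme.{u}} (e : U ⟶ T) [Etale e] :
    LocallyQuasiFinite e := by
  rw [HasRingHomProperty.iff_appLE (P := @LocallyQuasiFinite)]
  intro V W le
  exact quasiFinite_of_etale _ (HasRingHomProperty.appLE (P := @Etale) e inferInstance V W le)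

lemma etale_resid_finite {U T : Scheme.{u}} (e : U ⟶ T) [Etale e] (x : U) :
    (e.residueFieldMap x).hom.Finite := by
  haveI := locallyQuasiFinite_of_etale e
  exact resid_finite_of_quasiFinite (e.stalkMap x).hom (e.quasiFiniteAt x)

variable {X : Scheme.{u}} {R : CommRingCat.{u}} [IsLocalRing R]

/-- the ring map of a morphism from a local spectrum into an open neighbourhood of the image of
the closed point. -/
noncomputable def toAff (m : Spec R ⟶ X) (W : X.Opens) (hW : m (closedPoint R) ∈ W) :
    Γ(X, W) ⟶ R :=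
  X.presheaf.germ W _ hW ≫ Scheme.stalkClosedPointTo m

lemma toAff_fromSpec (m : Spec R ⟶ X) {W : X.Opens} (hWa : IsAffineOpen W)
    (hW : m (closedPoint R) ∈ W) : Spec.map (toAff m W hW) ≫ hWa.fromSpec = m := by
  rw [toAff, Spec.map_comp, Category.assoc]
  have := hWa.fromSpecStalk_eq_fromSpecStalk hW
  rw [IsAffineOpen.fromSpecStalk] at this
  rw [this, Scheme.Spec_stalkClosedPointTo_fromSpecStalk]

theorem etale_lift_sch {U T : Scheme.{u}} (e : U ⟶ T) [Etale e] {C C' : Type u} [CommRing C]
    [CommRing C'] [IsLocalRing C] [IsLocalRing C'] [IsArtinianRing C'] (π : C' →+* C)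
    (hπ : Function.Surjective π) (a : Spec (CommRingCat.of C) ⟶ U)
    (cT : Spec (CommRingCat.of C') ⟶ T)
    (h : Spec.map (CommRingCat.ofHom π) ≫ cT = a ≫ e) :
    ∃ c : Spec (CommRingCat.of C') ⟶ U,
      Spec.map (CommRingCat.ofHom π) ≫ c = a ∧ c ≫ e = cT := by
  haveI hπloc : IsLocalHom (CommRingCat.ofHom π).hom := hπ.isLocalHom
  have hpt : cT (closedPoint C') = e (a (closedPoint C)) := by
    have h1 : (Spec.map (CommRingCat.ofHom π)) (closedPoint C) = closedPoint C' :=
      Spec_closedPoint (R := CommRingCat.of C') (S := CommRingCat.of C)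
        (f := CommRingCat.ofHom π)
    have h2 : (Spec.map (CommRingCat.ofHom π) ≫ cT) (closedPoint C) = cT (closedPoint C') := by
      rw [Scheme.Hom.comp_apply, h1]
    rw [← h2, h]
    rfl
  obtain ⟨_, ⟨V, hV, rfl⟩, hxV, -⟩ := T.isBasis_affineOpens.exists_subset_of_mem_open
    (Set.mem_univ (e (a (closedPoint C)))) isOpen_univ
  obtain ⟨_, ⟨W, hW, rfl⟩, huW, hWV⟩ := U.isBasis_affineOpens.exists_subset_of_mem_open
    (show a (closedPoint C) ∈ (e ⁻¹ᵁ V : Set U) from hxV) (e ⁻¹ᵁ V).isOpen
  have hcV : cT (closedPoint C') ∈ V := by rw [hpt]; exact hxV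
  let φa : Γ(U, W) ⟶ CommRingCat.of C := toAff (R := CommRingCat.of C) a W huW
  let φc : Γ(T, V) ⟶ CommRingCat.of C' := toAff (R := CommRingCat.of C') cT V hcV
  have hφa : Spec.map φa ≫ hW.fromSpec = a := toAff_fromSpec (R := CommRingCat.of C) a hW huW
  have hφc : Spec.map φc ≫ hV.fromSpec = cT :=
    toAff_fromSpec (R := CommRingCat.of C') cT hV hcV
  let ψ : Γ(T, V) ⟶ Γ(U, W) := e.appLE V W hWV
  have hψ : ψ.hom.Etale :=
    HasRingHomProperty.appLE (P := @Etale) e inferInstance ⟨V, hV⟩ ⟨W, hW⟩ hWV
  have hψfs : Spec.map ψ ≫ hV.fromSpec = hW.fromSpec ≫ e :=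
    IsAffineOpen.SpecMap_appLE_fromSpec e hV hW hWV
  have hcompat : φc ≫ CommRingCat.ofHom π = ψ ≫ φa := by
    apply Spec.map_injective
    rw [← cancel_mono hV.fromSpec, Spec.map_comp, Category.assoc, hφc, h, Spec.map_comp,
      Category.assoc, hψfs, ← Category.assoc, hφa]
  obtain ⟨l, hl1, hl2⟩ := etale_lift ψ.hom hψ π hπ (ker_nilpotent π) φa.hom φc.hom
    (by
      have := congrArg CommRingCat.Hom.hom hcompat
      simpa using this)
  have hl1' : CommRingCat.ofHom l ≫ CommRingCat.ofHom π = φa := by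
    apply CommRingCat.hom_ext
    simpa using hl1
  have hl2' : ψ ≫ CommRingCat.ofHom l = φc := by
    apply CommRingCat.hom_ext
    simpa using hl2
  refine ⟨Spec.map (CommRingCat.ofHom l) ≫ hW.fromSpec, ?_, ?_⟩
  · rw [← Spec.map_comp_assoc, hl1', hφa]
  · rw [Category.assoc, ← hψfs, ← Spec.map_comp_assoc, hl2', hφc]

/-- formal versality passes along étale morphisms. -/
theorem versal_of_etale {S T U : Scheme.{u}} (g : T ⟶ S) (e : U ⟶ T) [Etale e] (u : U)
    (hT : ∀ (C C' : Type u) [CommRing C] [CommRing C'] [IsLocalRing C] [IsLocalRing C']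
        [IsArtinianRing C] [IsArtinianRing C'] (π : C' →+* C), Function.Surjective π →
        ∀ (a : Spec (CommRingCat.of C) ⟶ T) (b : Spec (CommRingCat.of C') ⟶ S),
          a (IsLocalRing.closedPoint C) = e u →
          Function.Surjective (a.residueFieldMap (IsLocalRing.closedPoint C)).hom →
          Spec.map (CommRingCat.ofHom π) ≫ b = a ≫ g →
          ∃ c : Spec (CommRingCat.of C') ⟶ T,
            Spec.map (CommRingCat.ofHom π) ≫ c = a ∧ c ≫ g = b) :
    ∀ (C C' : Type u) [CommRing C] [CommRing C'] [IsLocalRing C] [IsLocalRing C']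
        [IsArtinianRing C] [IsArtinianRing C'] (π : C' →+* C), Function.Surjective π →
        ∀ (a : Spec (CommRingCat.of C) ⟶ U) (b : Spec (CommRingCat.of C') ⟶ S),
          a (IsLocalRing.closedPoint C) = u →
          Function.Surjective (a.residueFieldMap (IsLocalRing.closedPoint C)).hom →
          Spec.map (CommRingCat.ofHom π) ≫ b = a ≫ (e ≫ g) →
          ∃ c : Spec (CommRingCat.of C') ⟶ U,
            Spec.map (CommRingCat.ofHom π) ≫ c = a ∧ c ≫ (e ≫ g) = b := by
  intro C C' _ _ _ _ _ _ π hπ a b hau hsurj hcomp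
  subst hau
  have hfin : ((a ≫ e).residueFieldMap (closedPoint C)).hom.Finite := by
    rw [Scheme.residueFieldMap_comp, CommRingCat.hom_comp]
    exact RingHom.Finite.comp (RingHom.Finite.of_surjective _ hsurj) (etale_resid_finite e _)
  obtain ⟨cT, h1, h2⟩ := finite_of_surjective g (e (a (closedPoint C))) hT C C' π hπ (a ≫ e) b
    rfl hfin (by rw [hcomp, Category.assoc])
  obtain ⟨c, hc1, hc2⟩ := etale_lift_sch e π hπ a cT h1
  exact ⟨c, hc1, by rw [← Category.assoc, hc2, h2]⟩

end Etale

end Groth.Agent.H16.ArtLift
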