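import Mathlib
import Groth.Agent.H82.CechLES

/-!
# If the extended Čech complex of the ring is acyclic, the elements generate the unit ideal
-/

set_option autoImplicit false
set_option linter.style.haveILetI false
set_option linter.unusedSectionVars false
set_option linter.unusedVariables false
universe u

open CategoryTheory Limits DerCA CochainComplex HomologicalComplex

namespace Groth.Agent.H16.CechAcyc
open Groth.Agent.H82.Cech

variable {R : Type u} [CommRing R] (fs : List R)

/-- vanishing of the `q`-th Čech cohomology of `M`. -/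
def Van (q : ℤ) (M : ModuleCat.{u} R) : Prop := IsZero ((extCech M fs).homology q)

lemma van_of_iso {q : ℤ} {M N : ModuleCat.{u} R} (e : M ≅ N) (h : Van fs q M) : Van fs q N :=
  h.of_iso ((cechF fs ⋙ HomologicalComplex.homologyFunctor (ModuleCat.{u} R)
    (ComplexShape.up ℤ) q).mapIso e).symm

lemma van_mid {q : ℤ} {S : ShortComplex (ModuleCat.{u} R)} (hS : S.ShortExact)
    (h1 : Van fs q S.X₁) (h3 : Van fs q S.X₃) : Van fs q S.X₂ := by
  have hSC := cechF_shortExact hS fs
  have ex := hSC.homology_exact₂ q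
  exact ex.isZero_of_both_zeros (IsZero.eq_of_src h1 _ _) (IsZero.eq_of_tgt h3 _ _)

lemma van_right {q q' : ℤ} (hq : q + 1 = q') {S : ShortComplex (ModuleCat.{u} R)}
    (hS : S.ShortExact) (h2 : Van fs q S.X₂) (h1 : Van fs q' S.X₁) : Van fs q S.X₃ := by
  have hSC := cechF_shortExact hS fs
  have ex := hSC.homology_exact₃ q q' hq
  exact ex.isZero_of_both_zeros (IsZero.eq_of_src h2 _ _) (IsZero.eq_of_tgt h1 _ _)

lemma van_of_surjective {q q' : ℤ} (hq : q + 1 = q') (hall : ∀ M : ModuleCat.{u} R, Van fs q' M)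
    {N M : Type u} [AddCommGroup N] [Module R N] [AddCommGroup M] [Module R M]
    (g : N →ₗ[R] M) (hg : Function.Surjective g) (hN : Van fs q (ModuleCat.of R N)) :
    Van fs q (ModuleCat.of R M) :=
  van_right fs hq (LinearMap.shortExact_shortComplexKer hg) hN (hall _)

lemma van_prod {q : ℤ} {M₁ M₂ : Type u} [AddCommGroup M₁] [Module R M₁] [AddCommGroup M₂]
    [Module R M₂] (h1 : Van fs q (ModuleCat.of R M₁)) (h2 : Van fs q (ModuleCat.of R M₂)) :
    Van fs q (ModuleCat.of R (M₁ × M₂)) := by
  let S : ShortComplex (ModuleCat.{u} R) :=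
    ShortComplex.mk (ModuleCat.ofHom (LinearMap.inl R M₁ M₂)) (ModuleCat.ofHom (LinearMap.snd R M₁ M₂))
      (by ext x; simp)
  have hS : S.ShortExact := by
    refine ModuleCat.shortComplex_shortExact S ?_ ?_ ?_
    · intro x
      constructor
      · intro hx
        exact ⟨x.1, Prod.ext rfl (by simpa [S] using hx.symm)⟩
      · rintro ⟨y, rfl⟩
        simp [S]
    · exact LinearMap.inl_injective
    · exact LinearMap.snd_surjective
  exact van_mid fs hS h1 h2

lemma van_fg {q q' : ℤ} (hq : q + 1 = q') (hall : ∀ M : ModuleCat.{u} R, Van fs q' M)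
    (hR : Van fs q (ModuleCat.of R R)) {M : Type u} [AddCommGroup M] [Module R M]
    (N : Submodule R M) (hN : N.FG) : Van fs q (ModuleCat.of R N) := by
  induction N, hN using Submodule.fg_induction with
  | singleton x =>
    refine van_of_surjective fs hq hall
      ((LinearMap.toSpanSingleton R M x).codRestrict (R ∙ x) (fun r => ?_)) ?_ hR
    · exact Submodule.smul_mem _ _ (Submodule.mem_span_singleton_self x)
    · rintro ⟨y, hy⟩
      obtain ⟨r, rfl⟩ := Submodule.mem_span_singleton.mp hy
      exact ⟨r, Subtype.ext rfl⟩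
  | sup N₁ N₂ hN₁ hN₂ h1 h2 =>
    refine van_of_surjective fs hq hall
      (((Submodule.inclusion (le_sup_left : N₁ ≤ N₁ ⊔ N₂)).coprod
        (Submodule.inclusion (le_sup_right : N₂ ≤ N₁ ⊔ N₂)))) ?_ (van_prod fs h1 h2)
    rintro ⟨y, hy⟩
    obtain ⟨a, ha, b, hb, rfl⟩ := Submodule.mem_sup.mp hy
    exact ⟨(⟨a, ha⟩, ⟨b, hb⟩), Subtype.ext rfl⟩

/-- the inclusion of a submodule, as a morphism of the Čech complexes. -/
noncomputable abbrev inc {M : Type u} [AddCommGroup M] [Module R M] (N : Submodule R M) :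
    extCech (ModuleCat.of R N) fs ⟶ extCech (ModuleCat.of R M) fs :=
  cechMap (ModuleCat.ofHom N.subtype) fs

lemma inc_injective {M : Type u} [AddCommGroup M] [Module R M] (N : Submodule R M) (q : ℤ) :
    Function.Injective ((inc fs N).f q).hom := by
  let g : ModuleCat.of R N ⟶ ModuleCat.of R M := ModuleCat.ofHom N.subtype
  haveI : Mono g := (ModuleCat.mono_iff_injective g).mpr N.injective_subtype
  let S : ShortComplex (ModuleCat.{u} R) := ShortComplex.mk g (cokernel.π g) (cokernel.condition g)
  have hS : S.ShortExact := ShortComplex.ShortExact.mk' (ShortComplex.exact_cokernel g)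
    (inferInstanceAs (Mono g)) (inferInstanceAs (Epi (cokernel.π g)))
  have hSC := cechF_shortExact hS fs
  exact (hSC.map_of_exact (HomologicalComplex.eval (ModuleCat.{u} R) (ComplexShape.up ℤ)
    q)).moduleCat_injective_f

lemma inc_comp {M : Type u} [AddCommGroup M] [Module R M] {N N' : Submodule R M} (h : N ≤ N') :
    cechMap (ModuleCat.ofHom (Submodule.inclusion h)) fs ≫ inc fs N' = inc fs N := by
  unfold inc
  rw [← cechMap_comp]
  rfl

lemma inc_comp_apply {M : Type u} [AddCommGroup M] [Module R M] {N N' : Submodule R M} (h : N ≤ N')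
    (q : ℤ) (y : (extCech (ModuleCat.of R N) fs).X q) :
    ((inc fs N').f q).hom (((cechMap (ModuleCat.ofHom (Submodule.inclusion h)) fs).f q).hom y) =
      ((inc fs N).f q).hom y := by
  rw [← inc_comp fs h]
  rfl

lemma eq_zero_of_isZero {X : ModuleCat.{u} R} (h : IsZero X) (x : X) : x = 0 := by
  have := h.eq_of_src (𝟙 X) 0
  have h2 := congrArg (fun m => m.hom x) this
  simpa using h2

/-- every element of the Čech complex comes from a finitely generated submodule. -/
lemma exists_fg {M : Type u} [AddCommGroup M] [Module R M] :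
    ∀ (fs : List R) (q : ℤ) (x : (extCech (ModuleCat.of R M) fs).X q),
      ∃ N : Submodule R M, N.FG ∧ ∃ x₀ : (extCech (ModuleCat.of R N) fs).X q,
        ((inc fs N).f q).hom x₀ = x
  | [], q, x => by
    by_cases hq : q = 0
    · subst hq
      let e := HomologicalComplex.singleObjXSelf (ComplexShape.up ℤ) (0 : ℤ) (ModuleCat.of R M)
      let m : M := e.hom.hom x
      let e' := HomologicalComplex.singleObjXSelf (ComplexShape.up ℤ) (0 : ℤ)
        (ModuleCat.of R (R ∙ m))
      refine ⟨R ∙ m, Submodule.fg_span_singleton m,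
        e'.inv.hom ⟨m, Submodule.mem_span_singleton_self m⟩, ?_⟩
      show (((HomologicalComplex.single (ModuleCat.{u} R) (ComplexShape.up ℤ) 0).map
        (ModuleCat.ofHom (R ∙ m).subtype)).f 0).hom _ = x
      rw [HomologicalComplex.single_map_f_self]
      have h1 : e'.hom.hom (e'.inv.hom ⟨m, Submodule.mem_span_singleton_self m⟩) =
          ⟨m, Submodule.mem_span_singleton_self m⟩ := by
        have := congrArg (fun t => t.hom (⟨m, Submodule.mem_span_singleton_self m⟩ : (R ∙ m)))
          e'.inv_hom_id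
        exact this
      have h2 : e.inv.hom (e.hom.hom x) = x := by
        have := congrArg (fun t => t.hom x) e.hom_inv_id
        exact this
      simp only [ModuleCat.hom_comp, LinearMap.comp_apply]
      rw [h1]
      exact h2
    · have hz : IsZero ((extCech (ModuleCat.of R M) []).X q) :=
        HomologicalComplex.isZero_single_obj_X _ _ _ _ hq
      refine ⟨⊥, Submodule.fg_bot, 0, ?_⟩
      rw [map_zero]
      exact (eq_zero_of_isZero hz x).symm
  | f :: fs, q, x => by
    have hpq : (q + -1) + 1 = q := by omega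
    let KM := extCech (ModuleCat.of R M) fs
    let φM := locCxUnit (Submonoid.powers f) KM
    let x' : (mappingCone φM).X (q + -1) := x
    obtain ⟨N₁, hN₁, a₁, ha₁⟩ := exists_fg fs q (coneEquiv φM (q + -1) q hpq x').1
    obtain ⟨b', s, hb⟩ : ∃ (b' : KM.X (q + -1)) (s : Submonoid.powers f),
        (coneEquiv φM (q + -1) q hpq x').2 =
          (LocalizedModule.mk b' s : LocalizedModule (Submonoid.powers f) (KM.X (q + -1))) :=
      LocalizedModule.induction_on
        (β := fun y => ∃ (b' : KM.X (q + -1)) (s : Submonoid.powers f), y = LocalizedModule.mk b' s)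
        (fun m s => ⟨m, s, rfl⟩) _
    obtain ⟨N₂, hN₂, b₂, hb₂⟩ := exists_fg fs (q + -1) b'
    let N := N₁ ⊔ N₂
    let KN := extCech (ModuleCat.of R N) fs
    let φN := locCxUnit (Submonoid.powers f) KN
    let a₀ : KN.X q := ((cechMap (ModuleCat.ofHom
      (Submodule.inclusion (le_sup_left : N₁ ≤ N₁ ⊔ N₂))) fs).f q).hom a₁
    let b₀' : KN.X (q + -1) := ((cechMap (ModuleCat.ofHom
      (Submodule.inclusion (le_sup_right : N₂ ≤ N₁ ⊔ N₂))) fs).f (q + -1)).hom b₂
    let b₀ : ((locCx (Submonoid.powers f)).obj KN).X (q + -1) :=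
      (LocalizedModule.mk b₀' s : LocalizedModule (Submonoid.powers f) (KN.X (q + -1)))
    let x₀ : (mappingCone φN).X (q + -1) := (coneEquiv φN (q + -1) q hpq).symm (a₀, b₀)
    refine ⟨N, hN₁.sup hN₂, x₀, ?_⟩
    show ((mappingCone.map φN φM (inc fs N) ((locCx (Submonoid.powers f)).map (inc fs N))
      (locCxUnit_naturality (Submonoid.powers f) (inc fs N))).f (q + -1)).hom x₀ = x'
    apply (coneEquiv φM (q + -1) q hpq).injective
    rw [coneEquiv_map, LinearEquiv.apply_symm_apply]
    refine Prod.ext ?_ ?_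
    · show ((inc fs N).f q).hom a₀ = _
      rw [inc_comp_apply, ha₁]
    · show (((locCx (Submonoid.powers f)).map (inc fs N)).f (q + -1)).hom b₀ = _
      rw [hb]
      show (IsLocalizedModule.map (Submonoid.powers f)
        (LocalizedModule.mkLinearMap (Submonoid.powers f) (KN.X (q + -1)))
        (LocalizedModule.mkLinearMap (Submonoid.powers f) (KM.X (q + -1))))
          ((inc fs N).f (q + -1)).hom (LocalizedModule.mk b₀' s) = _
      rw [IsLocalizedModule.map_LocalizedModules, inc_comp_apply, hb₂]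

lemma exact_of_van {q : ℤ} {M : ModuleCat.{u} R} (h : Van fs q M)
    (z : (extCech M fs).X q) (hz : ((extCech M fs).d q (q + 1)).hom z = 0) :
    ∃ w : (extCech M fs).X (q - 1), ((extCech M fs).d (q - 1) q).hom w = z := by
  have h1 : (extCech M fs).ExactAt q := (HomologicalComplex.exactAt_iff_isZero_homology _ _).mpr h
  rw [HomologicalComplex.exactAt_iff' _ (q - 1) q (q + 1) (by simp) (by simp),
    ShortComplex.ShortExact.moduleCat_exact_iff_function_exact] at h1
  exact (h1 z).mp hz

lemma van_of_exact {q : ℤ} {M : ModuleCat.{u} R}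
    (h : ∀ z : (extCech M fs).X q, ((extCech M fs).d q (q + 1)).hom z = 0 →
      ∃ w : (extCech M fs).X (q - 1), ((extCech M fs).d (q - 1) q).hom w = z) : Van fs q M := by
  apply (HomologicalComplex.exactAt_iff_isZero_homology _ _).mp
  rw [HomologicalComplex.exactAt_iff' _ (q - 1) q (q + 1) (by simp) (by simp),
    ShortComplex.ShortExact.moduleCat_exact_iff_function_exact]
  intro z
  constructor
  · exact h z
  · rintro ⟨w, rfl⟩
    have := (extCech M fs).d_comp_d (q - 1) q (q + 1)
    have h2 := congrArg (fun t => t.hom w) this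
    exact h2

lemma van_step {q q' : ℤ} (hq : q + 1 = q') (hall : ∀ M : ModuleCat.{u} R, Van fs q' M)
    (hR : Van fs q (ModuleCat.of R R)) (M : Type u) [AddCommGroup M] [Module R M] :
    Van fs q (ModuleCat.of R M) := by
  apply van_of_exact
  intro z hz
  obtain ⟨N, hN, z₀, hz₀⟩ := exists_fg fs q z
  have hvan := van_fg fs hq hall hR N hN
  have hd : ((extCech (ModuleCat.of R N) fs).d q (q + 1)).hom z₀ = 0 := by
    apply inc_injective fs N (q + 1)
    rw [map_zero]
    have := congrArg (fun t => t.hom z₀) ((inc fs N).comm q (q + 1))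
    simp only [ModuleCat.hom_comp, LinearMap.comp_apply] at this
    rw [← this, hz₀, hz]
  obtain ⟨w₀, hw₀⟩ := exact_of_van fs hvan z₀ hd
  refine ⟨((inc fs N).f (q - 1)).hom w₀, ?_⟩
  have := congrArg (fun t => t.hom w₀) ((inc fs N).comm (q - 1) q)
  simp only [ModuleCat.hom_comp, LinearMap.comp_apply] at this
  rw [this, hw₀, hz₀]

lemma van_all (hR : ∀ q : ℤ, Van fs q (ModuleCat.of R R)) :
    ∀ (k : ℕ) (M : ModuleCat.{u} R), Van fs ((fs.length : ℤ) + 1 - k) M := by
  intro k
  induction k with
  | zero =>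
    intro M
    exact Groth.Agent.S9264.result R fs M _ (Or.inr (by push_cast; omega))
  | succ k ih =>
    intro M
    have h1 : ((fs.length : ℤ) + 1 - ((k + 1 : ℕ) : ℤ)) + 1 = (fs.length : ℤ) + 1 - (k : ℤ) := by
      push_cast; ring
    exact van_of_iso fs (Iso.refl _ : ModuleCat.of R M ≅ M)
      (van_step fs h1 ih (hR _) M)

theorem span_eq_top (hR : ∀ q : ℤ, IsZero (extCechH fs (ModuleCat.of R R) q)) :
    Ideal.span {x | x ∈ fs} = ⊤ := by
  set I := Ideal.span {x | x ∈ fs} with hI
  have h0 : Van fs 0 (ModuleCat.of R (R ⧸ I)) := by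
    have := van_all fs hR (fs.length + 1) (ModuleCat.of R (R ⧸ I))
    have e : ((fs.length : ℤ) + 1 - ((fs.length + 1 : ℕ) : ℤ)) = 0 := by push_cast; ring
    rwa [e] at this
  obtain ⟨-, hrange⟩ := η_injective_and_range (ModuleCat.of R (R ⧸ I)) fs
  have hmem : (Ideal.Quotient.mk I 1 : R ⧸ I) ∈ DRing.torsionSub I (R ⧸ I) := by
    refine ⟨1, fun a ha => ?_⟩
    rw [pow_one] at ha
    rw [Algebra.smul_def, map_one, mul_one]
    exact Ideal.Quotient.eq_zero_iff_mem.mpr ha
  rw [← hrange] at hmem
  obtain ⟨y, hy⟩ := hmem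
  have hy0 : y = 0 := eq_zero_of_isZero h0 y
  rw [hy0, map_zero] at hy
  rw [Ideal.eq_top_iff_one]
  exact Ideal.Quotient.eq_zero_iff_mem.mp hy.symm

end Groth.Agent.H16.CechAcyc
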