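import Mathlib
import Groth.Prelude.Def_DefoSh2
import Groth.Agent.S17441

/-!
# Morphisms of deformations over an open subscheme are isomorphisms
-/

set_option autoImplicit false
universe u
open CategoryTheory CategoryTheory.Limits AlgebraicGeometry TopologicalSpace Opposite
open DefoSh

namespace Groth.Agent.H16.DefoLocA

set_option linter.style.haveILetI false
set_option linter.unusedSectionVars false
set_option linter.unusedVariables false

variable {k : Type u} [Field k] {X : Scheme.{u}} [X.Over (Spec (CommRingCat.of k))]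
  {E : X.Modules} {A : ArtFun.Art k k}

/-- stalkwise version of S17441: an additive map of stalks compatible with actions and reductions
is bijective. -/
theorem stalk_bij (D D' : DefoSh.Defo E A) (p : X)
    (ψ₀ : ↑(D.sheaf.presheaf.stalk p) →+ ↑(D'.sheaf.presheaf.stalk p))
    (hact : ∀ (a : A) (v : ↑(D.sheaf.presheaf.stalk p)),
      ψ₀ (RefHull.stalkMapₗ (D.act a) p v) = RefHull.stalkMapₗ (D'.act a) p (ψ₀ v))
    (hπ : ∀ v : ↑(D.sheaf.presheaf.stalk p),
      RefHull.stalkMapₗ D'.π p (ψ₀ v) = RefHull.stalkMapₗ D.π p v) :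
    Function.Bijective ψ₀ := by
  classical
  letI iM : Module A ↑(D.sheaf.presheaf.stalk p) := D.stalkMod p
  letI iM' : Module A ↑(D'.sheaf.presheaf.stalk p) := D'.stalkMod p
  haveI : Module.Flat A ↑(D'.sheaf.presheaf.stalk p) := D'.flat p
  let ψ : ↑(D.sheaf.presheaf.stalk p) →ₗ[A] ↑(D'.sheaf.presheaf.stalk p) :=
    { toFun := ψ₀
      map_add' := map_add _
      map_smul' := fun a v => hact a v }
  obtain ⟨n, hn⟩ : ∃ n, (IsLocalRing.maximalIdeal A) ^ n = ⊥ := by
    have := IsArtinianRing.isNilpotent_jacobson_bot (R := A)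
    rw [IsLocalRing.jacobson_eq_maximalIdeal ⊥ bot_ne_top] at this
    exact this
  have hres : ∀ a ∈ IsLocalRing.maximalIdeal A, A.res a = 0 := by
    intro a ha
    have hmax : (RingHom.ker A.res.toRingHom).IsMaximal :=
      RingHom.ker_isMaximal_of_surjective _ A.res_surjective
    have := IsLocalRing.eq_maximalIdeal hmax
    have ha' : a ∈ RingHom.ker A.res.toRingHom := by rw [this]; exact ha
    exact RingHom.mem_ker.mp ha'
  have hkill : ∀ (D₀ : DefoSh.Defo E A) (w : ↑(D₀.sheaf.presheaf.stalk p)),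
      (letI := D₀.stalkMod p
       w ∈ IsLocalRing.maximalIdeal A • (⊤ : Submodule A ↑(D₀.sheaf.presheaf.stalk p))) →
      RefHull.stalkMapₗ D₀.π p w = 0 := by
    intro D₀ w hw
    letI := D₀.stalkMod p
    refine Submodule.smul_induction_on hw ?_ ?_
    · intro a ha v _
      show RefHull.stalkMapₗ D₀.π p (RefHull.stalkMapₗ (D₀.act a) p v) = 0
      rw [← stalkMapₗ_comp_apply, D₀.act_π a (hres a ha), stalkMapₗ_zero_apply]
    · intro x y hx hy
      rw [map_add, hx, hy, add_zero]
  have h1 : ∀ v' : ↑(D'.sheaf.presheaf.stalk p), ∃ v : ↑(D.sheaf.presheaf.stalk p),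
      v' - ψ v ∈ IsLocalRing.maximalIdeal A • (⊤ : Submodule A ↑(D'.sheaf.presheaf.stalk p)) := by
    intro v'
    obtain ⟨v, hv⟩ := D.surj p (RefHull.stalkMapₗ D'.π p v')
    refine ⟨v, D'.ker_le p _ ?_⟩
    show RefHull.stalkMapₗ D'.π p (v' - ψ₀ v) = 0
    rw [map_sub, hπ, hv, sub_self]
  have h2 : ∀ v : ↑(D.sheaf.presheaf.stalk p),
      ψ v ∈ IsLocalRing.maximalIdeal A • (⊤ : Submodule A ↑(D'.sheaf.presheaf.stalk p)) →
      v ∈ IsLocalRing.maximalIdeal A • (⊤ : Submodule A ↑(D.sheaf.presheaf.stalk p)) := by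
    intro v hv
    apply D.ker_le p
    rw [← hπ]
    exact hkill D' _ hv
  exact Groth.Agent.S17441.bij_of_nilpotent (IsLocalRing.maximalIdeal A) n hn ψ h1 h2

/-- A morphism between the restrictions to an open `U` of two deformations, compatible with the
(restricted) actions and reductions, is an isomorphism. -/
theorem isIso_of_restrict (D D' : DefoSh.Defo E A) (U : X.Opens)
    (τ : D.sheaf.restrict U.ι ⟶ D'.sheaf.restrict U.ι)
    (hact : ∀ a : A, (Scheme.Modules.restrictFunctor U.ι).map (D.act a) ≫ τ =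
      τ ≫ (Scheme.Modules.restrictFunctor U.ι).map (D'.act a))
    (hπ : τ ≫ (Scheme.Modules.restrictFunctor U.ι).map D'.π =
      (Scheme.Modules.restrictFunctor U.ι).map D.π) : IsIso τ := by
  apply Groth.Agent.S17441.isIso_of_stalks'
  intro p
  let θ := Scheme.Modules.restrictStalkNatIso U.ι p
  let Su := Scheme.Modules.toPresheaf (↑U : Scheme.{u}) ⋙ TopCat.Presheaf.stalkFunctor Ab.{u} p
  let Sx := Scheme.Modules.toPresheaf X ⋙ TopCat.Presheaf.stalkFunctor Ab.{u} (U.ι p)
  let R := Scheme.Modules.restrictFunctor U.ι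
  let ψc : Sx.obj D.sheaf ⟶ Sx.obj D'.sheaf :=
    θ.inv.app D.sheaf ≫ Su.map τ ≫ θ.hom.app D'.sheaf
  have hA : ∀ a : A, Sx.map (D.act a) ≫ ψc = ψc ≫ Sx.map (D'.act a) := by
    intro a
    have n1 : Sx.map (D.act a) ≫ θ.inv.app D.sheaf =
        θ.inv.app D.sheaf ≫ Su.map (R.map (D.act a)) := θ.inv.naturality (D.act a)
    have n2 : Su.map (R.map (D'.act a)) ≫ θ.hom.app D'.sheaf =
        θ.hom.app D'.sheaf ≫ Sx.map (D'.act a) := θ.hom.naturality (D'.act a)
    calc Sx.map (D.act a) ≫ ψc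
        = (Sx.map (D.act a) ≫ θ.inv.app D.sheaf) ≫ Su.map τ ≫ θ.hom.app D'.sheaf := by
          simp only [ψc, Category.assoc]
      _ = θ.inv.app D.sheaf ≫ (Su.map (R.map (D.act a)) ≫ Su.map τ) ≫ θ.hom.app D'.sheaf := by
          rw [n1]; simp only [Category.assoc]
      _ = θ.inv.app D.sheaf ≫ (Su.map τ ≫ Su.map (R.map (D'.act a))) ≫ θ.hom.app D'.sheaf := by
          rw [← Functor.map_comp, hact a, Functor.map_comp]
      _ = θ.inv.app D.sheaf ≫ Su.map τ ≫ (Su.map (R.map (D'.act a)) ≫ θ.hom.app D'.sheaf) := by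
          simp only [Category.assoc]
      _ = ψc ≫ Sx.map (D'.act a) := by
          rw [n2]; simp only [ψc, Category.assoc]
  have hP : ψc ≫ Sx.map D'.π = Sx.map D.π := by
    have n3 : Su.map (R.map D'.π) ≫ θ.hom.app E = θ.hom.app D'.sheaf ≫ Sx.map D'.π :=
      θ.hom.naturality D'.π
    have n4 : Su.map (R.map D.π) ≫ θ.hom.app E = θ.hom.app D.sheaf ≫ Sx.map D.π :=
      θ.hom.naturality D.π
    calc ψc ≫ Sx.map D'.π
        = θ.inv.app D.sheaf ≫ Su.map τ ≫ (θ.hom.app D'.sheaf ≫ Sx.map D'.π) := by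
          simp only [ψc, Category.assoc]
      _ = θ.inv.app D.sheaf ≫ (Su.map τ ≫ Su.map (R.map D'.π)) ≫ θ.hom.app E := by
          rw [← n3]; simp only [Category.assoc]
      _ = θ.inv.app D.sheaf ≫ Su.map (R.map D.π) ≫ θ.hom.app E := by
          rw [← Functor.map_comp, hπ]
      _ = (θ.inv.app D.sheaf ≫ θ.hom.app D.sheaf) ≫ Sx.map D.π := by
          rw [n4]; simp only [Category.assoc]
      _ = Sx.map D.π := by
          rw [Iso.inv_hom_id_app]; exact Category.id_comp _
  have hb : Function.Bijective ψc.hom := by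
    refine stalk_bij D D' (U.ι p) ψc.hom ?_ ?_
    · intro a v
      exact ConcreteCategory.congr_hom (hA a) v
    · intro v
      exact ConcreteCategory.congr_hom hP v
  haveI : IsIso ψc := (ConcreteCategory.isIso_iff_bijective ψc).mpr hb
  have hτ : Su.map τ = θ.hom.app D.sheaf ≫ ψc ≫ θ.inv.app D'.sheaf := by
    simp only [ψc, Category.assoc, Iso.hom_inv_id_app, Iso.hom_inv_id_app_assoc]
    exact (Category.comp_id _).symm
  haveI : IsIso (Su.map τ) := by rw [hτ]; infer_instance
  exact (ConcreteCategory.isIso_iff_bijective (Su.map τ)).mp inferInstance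

end Groth.Agent.H16.DefoLocA
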