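import Mathlib
import Groth.Agent.S17439
import Groth.Agent.S17440

/-!
# Deformations of connections over a first-order deformation: shared lemmas (S17436, S17437)
-/

set_option autoImplicit false
universe u
open CategoryTheory AlgebraicGeometry
open DefoSh

namespace Groth.Agent.H16.DefoConnLib

set_option linter.style.haveILetI false
set_option linter.unusedSectionVars false
set_option linter.unusedVariables false

open CategoryTheory.Limits TopologicalSpace Opposite TensorProduct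
open Groth.Agent.S17439

theorem aux_alg2 {R A : Type*} [Ring R] [AddCommGroup A] [Module R A] (t : R)
    (a b T : A) : (t • a + T) + t • b = t • (a + b) + T := by
  rw [smul_add]; abel

theorem aux_alg3 {R A : Type*} [Ring R] [AddCommGroup A] [Module R A] (t : R)
    (a b T : A) : (t • a + T) - (t • b + T) = t • (a - b) := by
  rw [smul_sub]; abel

section gen
variable {X : Scheme.{u}} {Ω' : X.Modules}

theorem secApp_add {M N : X.Modules} (a b : Coh.toAb M ⟶ Coh.toAb N) (U : X.Opens)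
    (x : M.val.obj (op U)) :
    ConnSh.secApp (a + b) U x = ConnSh.secApp a U x + ConnSh.secApp b U x := rfl

theorem secApp_sub {M N : X.Modules} (a b : Coh.toAb M ⟶ Coh.toAb N) (U : X.Opens)
    (x : M.val.obj (op U)) :
    ConnSh.secApp (a - b) U x = ConnSh.secApp a U x - ConnSh.secApp b U x := rfl

theorem secApp_toS {M N : X.Modules} (ψ : M ⟶ N) (U : X.Opens) (x : M.val.obj (op U)) :
    ConnSh.secApp ((SheafOfModules.toSheaf X.ringCatSheaf).map ψ) U x = ψ.app U x := rfl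

/-- adding linear maps that intertwine `φ` keeps `φ` horizontal. -/
theorem isHorizontal_add_lin {M M' : X.Modules}
    {c : Coh.toAb M ⟶ Coh.toAb (CohB1.tensorMod M Ω')}
    {c' : Coh.toAb M' ⟶ Coh.toAb (CohB1.tensorMod M' Ω')} {φ : M ⟶ M'}
    (ψ : M ⟶ CohB1.tensorMod M Ω') (ψ' : M' ⟶ CohB1.tensorMod M' Ω')
    (h0 : ConnSh.IsHorizontal c c' φ) (hψ : φ ≫ ψ' = ψ ≫ KoszTw.tensorMap φ (𝟙 Ω')) :
    ConnSh.IsHorizontal (c + (SheafOfModules.toSheaf X.ringCatSheaf).map ψ)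
      (c' + (SheafOfModules.toSheaf X.ringCatSheaf).map ψ') φ := by
  intro U e
  refine (secApp_add _ _ U _).trans ?_
  refine Eq.trans ?_ (congrArg _ (secApp_add _ _ U e).symm)
  refine Eq.trans ?_ (map_add ((KoszTw.tensorMap φ (𝟙 Ω')).app U).hom _ _).symm
  refine congrArg₂ (· + ·) (h0 U e) ?_
  have := app_congr hψ U e
  exact this

end gen

section defo
variable {k : Type u} [Field k] {X : Scheme.{u}} [X.Over (Spec (CommRingCat.of k))]
  {Ω' : X.Modules} (δ : OmegaSh.Der (X ↘ Spec (CommRingCat.of k)) Ω') {E : X.Modules}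
  (nabla : Coh.toAb E ⟶ Coh.toAb (CohB1.tensorMod E Ω'))
  (D : DefoSh.Defo E (ArtFun.Art.dual k k)) (ι : E ⟶ D.sheaf)

/-- `ε` as an element of the dual numbers object. -/
abbrev eps' (k : Type u) [Field k] : ArtFun.Art.dual k k :=
  (show ArtFun.Art.dual k k from (DualNumber.eps : DualNumber k))

/-- the map `φ ↦ π ≫ φ ≫ (ι ⊗ 1)`. -/
noncomputable def P (φ : E ⟶ CohB1.tensorMod E Ω') : D.sheaf ⟶ CohB1.tensorMod D.sheaf Ω' :=
  D.π ≫ φ ≫ KoszTw.tensorMap ι (𝟙 Ω')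

theorem tensorMap_comp' {M M' M'' : X.Modules} (f : M ⟶ M') (g : M' ⟶ M'') :
    KoszTw.tensorMap f (𝟙 Ω') ≫ KoszTw.tensorMap g (𝟙 Ω') = KoszTw.tensorMap (f ≫ g) (𝟙 Ω') := by
  rw [← KoszTw.tensorMap_comp, Category.id_comp]

theorem smulMod_comm {M N : X.Modules} (f : M ⟶ N) (c : k) :
    Formal.smulMod k M c ≫ f = f ≫ Formal.smulMod k N c := by
  rw [← KLin.smul_id M c, ← KLin.smul_id N c, Linear.smul_comp, Linear.comp_smul,
    Category.id_comp, Category.comp_id]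

variable (hι : D.π ≫ ι = D.act (DualNumber.eps : DualNumber k)) (w : ι ≫ D.π = 0)

include hι w in
theorem ι_eps : ι ≫ (D.act (eps' k) : D.sheaf ⟶ D.sheaf) = 0 := by
  have h : (D.act (eps' k) : D.sheaf ⟶ D.sheaf) = D.π ≫ ι := hι.symm
  rw [h, ← Category.assoc, w, zero_comp]

include w in
theorem P_π (φ : E ⟶ CohB1.tensorMod E Ω') :
    P D ι φ ≫ KoszTw.tensorMap D.π (𝟙 Ω') = 0 := by
  unfold P
  rw [Category.assoc, Category.assoc, tensorMap_comp', w, tensorMap_zero_left, comp_zero,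
    comp_zero]

theorem eps_P (φ : E ⟶ CohB1.tensorMod E Ω') :
    (D.act (eps' k) : D.sheaf ⟶ D.sheaf) ≫ P D ι φ = 0 := by
  unfold P
  rw [← Category.assoc, Groth.Agent.S17440.act_eps_π D, zero_comp]

include hι w in
theorem P_eps (φ : E ⟶ CohB1.tensorMod E Ω') :
    P D ι φ ≫ KoszTw.tensorMap (D.act (eps' k) : D.sheaf ⟶ D.sheaf) (𝟙 Ω') = 0 := by
  unfold P
  rw [Category.assoc, Category.assoc, tensorMap_comp', ι_eps D ι hι w, tensorMap_zero_left,
    comp_zero, comp_zero]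

include hι w in
theorem act_P (φ : E ⟶ CohB1.tensorMod E Ω') (a : ArtFun.Art.dual k k) :
    (D.act a : D.sheaf ⟶ D.sheaf) ≫ P D ι φ =
      P D ι φ ≫ KoszTw.tensorMap (D.act a : D.sheaf ⟶ D.sheaf) (𝟙 Ω') := by
  rw [Groth.Agent.S17440.act_decomp D a, Preadditive.add_comp, tensorMap_add_left,
    Preadditive.comp_add]
  have h1 : ((D.act (eps' k) : D.sheaf ⟶ D.sheaf) ≫
      Formal.smulMod k D.sheaf (TrivSqZeroExt.snd (show DualNumber k from a))) ≫ P D ι φ = 0 := by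
    rw [Category.assoc, smulMod_comm, ← Category.assoc, eps_P, zero_comp]
  have h2 : P D ι φ ≫ KoszTw.tensorMap ((D.act (eps' k) : D.sheaf ⟶ D.sheaf) ≫
      Formal.smulMod k D.sheaf (TrivSqZeroExt.snd (show DualNumber k from a))) (𝟙 Ω') = 0 := by
    rw [← tensorMap_comp', ← Category.assoc, P_eps D ι hι w, zero_comp]
  have h3 : KoszTw.tensorMap (Formal.smulMod k D.sheaf
      (TrivSqZeroExt.fst (show DualNumber k from a))) (𝟙 Ω') =
      Formal.smulMod k (CohB1.tensorMod D.sheaf Ω') _ :=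
    Groth.Agent.H73.DefoConnQ1.tensorMap_smulModΓ D.sheaf Ω' _
  rw [h1, h2, add_zero, add_zero, h3, smulMod_comm]

/-- factorisation of a linear map commuting with `ε` and killed by `π ⊗ 1`. -/
theorem exists_factor (hι : D.π ≫ ι = D.act (DualNumber.eps : DualNumber k)) (w : ι ≫ D.π = 0)
    (hSE : (ShortComplex.mk ι D.π w).ShortExact)
    (w' : KoszTw.tensorMap ι (𝟙 Ω') ≫ KoszTw.tensorMap D.π (𝟙 Ω') = 0)
    (hT : (ShortComplex.mk (KoszTw.tensorMap ι (𝟙 Ω')) (KoszTw.tensorMap D.π (𝟙 Ω')) w').ShortExact)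
    (ψ : D.sheaf ⟶ CohB1.tensorMod D.sheaf Ω')
    (h1 : (D.act (eps' k) : D.sheaf ⟶ D.sheaf) ≫ ψ =
      ψ ≫ KoszTw.tensorMap (D.act (eps' k) : D.sheaf ⟶ D.sheaf) (𝟙 Ω'))
    (h2 : ψ ≫ KoszTw.tensorMap D.π (𝟙 Ω') = 0) :
    ∃ φ : E ⟶ CohB1.tensorMod E Ω', ψ = P D ι φ := by
  haveI : Mono (KoszTw.tensorMap ι (𝟙 Ω')) := hT.mono_f
  haveI : Epi D.π := hSE.epi_g
  let ψ₁ : D.sheaf ⟶ CohB1.tensorMod E Ω' := hT.exact.lift ψ h2
  have hψ₁ : ψ₁ ≫ KoszTw.tensorMap ι (𝟙 Ω') = ψ := hT.exact.lift_f ψ h2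
  have hz : ι ≫ ψ₁ = 0 := by
    rw [← cancel_mono (KoszTw.tensorMap ι (𝟙 Ω')), Category.assoc, hψ₁, zero_comp,
      ← cancel_epi D.π, comp_zero, ← Category.assoc]
    have h : D.π ≫ ι = (D.act (eps' k) : D.sheaf ⟶ D.sheaf) := hι
    rw [h, h1, ← hψ₁, Category.assoc, tensorMap_comp', ι_eps D ι hι w, tensorMap_zero_left,
      comp_zero]
  refine ⟨hSE.exact.desc ψ₁ hz, ?_⟩
  have hd : D.π ≫ hSE.exact.desc ψ₁ hz = ψ₁ := hSE.exact.g_desc ψ₁ hz
  unfold P
  rw [← Category.assoc, hd, hψ₁]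

end defo

section fin
variable {k : Type u} [Field k] {X : Scheme.{u}} [X.Over (Spec (CommRingCat.of k))]
  {Ω' : X.Modules} {δ : OmegaSh.Der (X ↘ Spec (CommRingCat.of k)) Ω'} {E : X.Modules}
  {nabla : Coh.toAb E ⟶ Coh.toAb (CohB1.tensorMod E Ω')}
  {D : DefoSh.Defo E (ArtFun.Art.dual k k)}

theorem hom_ext_app {M N : X.Modules} (f g : M ⟶ N)
    (h : ∀ (U : X.Opens) (e : M.val.obj (op U)), f.app U e = g.app U e) : f = g := by
  apply Scheme.Modules.hom_ext
  intro U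
  ext e
  exact h U e

theorem defoConn_ext (c c' : DefoSh.DefoConn δ nabla D) (h : c.conn = c'.conn) : c = c' := by
  cases c; cases c'; cases h; rfl

end fin

end Groth.Agent.H16.DefoConnLib
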