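import Mathlib

/-!
# `exp ∘ u` for power series over a field of characteristic zero (generalising H65/ExpSubst)
-/

set_option autoImplicit false

namespace Groth.Agent.H16.ExpK

open PowerSeries

variable {K : Type*} [Field K] [Algebra ℚ K] [CharZero K]

/-- `exp ∘ u`. -/
noncomputable def expS (u : PowerSeries K) : PowerSeries K :=
  PowerSeries.subst u (PowerSeries.exp K)

omit [Algebra ℚ K] [CharZero K] in
theorem hasSubst_of_cc {u : PowerSeries K} (hu : constantCoeff u = 0) : HasSubst u :=
  HasSubst.of_constantCoeff_zero' hu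

omit [Algebra ℚ K] [CharZero K] in
theorem subst_one' {u : PowerSeries K} (hu : HasSubst u) :
    PowerSeries.subst u (1 : PowerSeries K) = (1 : PowerSeries K) := by
  rw [← coe_substAlgHom hu, map_one]

omit [CharZero K] in
theorem constantCoeff_expS {u : PowerSeries K} (hu : constantCoeff u = 0) :
    constantCoeff (expS u) = 1 := by
  have hs := hasSubst_of_cc hu
  have h1 : expS u = PowerSeries.subst u (exp K - 1) + 1 := by
    rw [expS, subst_sub hs, subst_one' hs, sub_add_cancel]
  have h2 : constantCoeff (PowerSeries.subst u (exp K - 1) : PowerSeries K) = 0 :=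
    constantCoeff_subst_eq_zero hu _ (by simp)
  rw [h1, map_add, h2, map_one, zero_add]

omit [CharZero K] in
theorem derivative_expS {u : PowerSeries K} (hu : constantCoeff u = 0) :
    d⁄dX K (expS u) = expS u * d⁄dX K u := by
  rw [expS, derivative_subst (hasSubst_of_cc hu), derivative_exp]

omit [Algebra ℚ K] in
theorem ode_unique {y₁ y₂ w : PowerSeries K} (h₁ : d⁄dX K y₁ = y₁ * w)
    (h₂ : d⁄dX K y₂ = y₂ * w) (c₁ : constantCoeff y₁ = 1) (c₂ : constantCoeff y₂ = 1) :
    y₁ = y₂ := by
  have hinv : y₂ * y₂⁻¹ = 1 := PowerSeries.mul_inv_cancel y₂ (by rw [c₂]; exact one_ne_zero)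
  have hV : y₁ * y₂⁻¹ = 1 := by
    apply derivative.ext
    · rw [Derivation.leibniz, derivative_inv', h₁, h₂, derivative_one]
      simp only [smul_eq_mul]
      linear_combination (-(y₁ * w * y₂⁻¹)) * hinv
    · rw [map_mul, constantCoeff_inv, c₁, c₂, map_one, inv_one, mul_one]
  calc y₁ = y₁ * (y₂ * y₂⁻¹) := by rw [hinv, mul_one]
    _ = (y₁ * y₂⁻¹) * y₂ := by ring
    _ = y₂ := by rw [hV, one_mul]

theorem expS_add {u v : PowerSeries K} (hu : constantCoeff u = 0) (hv : constantCoeff v = 0) :
    expS (u + v) = expS u * expS v := by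
  have huv : constantCoeff (u + v) = 0 := by rw [map_add, hu, hv, add_zero]
  apply ode_unique (w := d⁄dX K (u + v))
  · exact derivative_expS huv
  · rw [Derivation.leibniz, derivative_expS hu, derivative_expS hv, map_add]
    simp only [smul_eq_mul]
    ring
  · exact constantCoeff_expS huv
  · rw [map_mul, constantCoeff_expS hu, constantCoeff_expS hv, mul_one]

theorem expS_zero : expS (0 : PowerSeries K) = 1 := by
  have h0 : constantCoeff (0 : PowerSeries K) = 0 := map_zero _
  apply ode_unique (w := 0)
  · rw [derivative_expS h0, map_zero]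
  · rw [derivative_one, mul_zero]
  · exact constantCoeff_expS h0
  · exact map_one _

theorem expS_sum {ι : Type*} (s : Finset ι) (u : ι → PowerSeries K)
    (hu : ∀ i ∈ s, constantCoeff (u i) = 0) :
    expS (∑ i ∈ s, u i) = ∏ i ∈ s, expS (u i) := by
  classical
  induction s using Finset.induction_on with
  | empty => rw [Finset.sum_empty, Finset.prod_empty, expS_zero]
  | insert a s ha ih =>
    have h1 : constantCoeff (u a) = 0 := hu a (Finset.mem_insert_self a s)
    have h2 : ∀ i ∈ s, constantCoeff (u i) = 0 :=
      fun i hi => hu i (Finset.mem_insert_of_mem hi)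
    have h3 : constantCoeff (∑ i ∈ s, u i) = 0 := by
      rw [map_sum]; exact Finset.sum_eq_zero h2
    rw [Finset.sum_insert ha, Finset.prod_insert ha, expS_add h1 h3, ih h2]

omit [CharZero K] in
theorem rescale_expS (a : K) {u : PowerSeries K} (hu : constantCoeff u = 0) :
    rescale a (expS u) = expS (rescale a u) := by
  unfold expS
  rw [rescale_eq_subst a u, rescale_eq_subst a (subst u (exp K)),
    subst_comp_subst_apply (HasSubst.of_constantCoeff_zero' hu) (HasSubst.smul_X' _)]

omit [CharZero K] in
theorem subst_expS {v u : PowerSeries K} (hv : constantCoeff v = 0) (hu : constantCoeff u = 0) :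
    subst v (expS u) = expS (subst v u) := by
  unfold expS
  rw [subst_comp_subst_apply (HasSubst.of_constantCoeff_zero' hu)
    (HasSubst.of_constantCoeff_zero' hv)]

end Groth.Agent.H16.ExpK
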