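import Mathlib.Algebra.Category.ModuleCat.Basic
import Mathlib.Algebra.Category.ModuleCat.Abelian
import Mathlib.Algebra.Module.FinitePresentation
import Mathlib.CategoryTheory.Limits.Preserves.Finite
import Mathlib.CategoryTheory.Limits.Preserves.Shapes.Kernels
import Mathlib.CategoryTheory.Limits.Preserves.Shapes.Zero
import Mathlib.CategoryTheory.Limits.Preserves.Shapes.Biproducts
import Mathlib.CategoryTheory.Preadditive.AdditiveFunctor
import Mathlib.CategoryTheory.Preadditive.Biproducts
import Mathlib.CategoryTheory.Limits.Shapes.Biproducts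
import Mathlib.CategoryTheory.Limits.Shapes.Kernels
import Mathlib.CategoryTheory.ObjectProperty.FullSubcategory
import Mathlib.CategoryTheory.Limits.Constructions.EpiMono
import Mathlib.Algebra.Homology.ShortComplex.ModuleCat

/-!
# Functors on finitely presented modules (helper library of helper16)
-/

set_option autoImplicit false
universe u v' u'
open CategoryTheory CategoryTheory.Limits

namespace Groth.Agent.H16.FPFun

variable (A : Type u) [CommRing A]

/-- the category of finitely presented `A`-modules. -/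
abbrev FP := ObjectProperty.FullSubcategory
  (fun M : ModuleCat.{u} A => Module.FinitePresentation A M)

/-- the object `A`. -/
abbrev objA : FP A := ⟨ModuleCat.of A A, inferInstance⟩

/-- the free object `A^n`. -/
abbrev free (n : ℕ) : FP A := ⟨ModuleCat.of A (Fin n → A), inferInstance⟩

variable {A}

/-- the morphism `A ⟶ X` attached to an element. -/
def elt {X : FP A} (x : X.obj) : objA A ⟶ X :=
  ObjectProperty.homMk (ModuleCat.ofHom (LinearMap.toSpanSingleton A X.obj x))

/-- multiplication by `a` on `A`. -/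
abbrev mulBy (a : A) : objA A ⟶ objA A :=
  ObjectProperty.homMk (ModuleCat.ofHom (LinearMap.lsmul A A a))

lemma elt_comp {X Y : FP A} (x : X.obj) (f : X ⟶ Y) : elt x ≫ f = elt (f.hom x) := by
  apply ObjectProperty.hom_ext
  apply ModuleCat.hom_ext
  apply LinearMap.ext_ring
  simp [elt]

instance : HasZeroObject (FP A) := by
  refine ⟨⟨⟨ModuleCat.of A PUnit, inferInstance⟩, ?_⟩⟩
  constructor
  · intro Y
    refine ⟨⟨⟨0⟩, fun f => ?_⟩⟩
    apply ObjectProperty.hom_ext
    apply ModuleCat.hom_ext
    ext x
    obtain rfl : x = 0 := Subsingleton.elim _ _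
    simp
  · intro Y
    refine ⟨⟨⟨0⟩, fun f => ?_⟩⟩
    apply ObjectProperty.hom_ext
    apply ModuleCat.hom_ext
    ext x

@[simp] lemma add_hom {X Y : FP A} (f g : X ⟶ Y) : (f + g).hom = f.hom + g.hom := rfl

@[simp] lemma zero_hom {X Y : FP A} : (0 : X ⟶ Y).hom = 0 := rfl

/-- the additive map `f ↦ f.hom`. -/
def homAddHom (X Y : FP A) : (X ⟶ Y) →+ (X.obj ⟶ Y.obj) where
  toFun f := f.hom
  map_zero' := rfl
  map_add' _ _ := rfl

lemma sum_hom {X Y : FP A} {ι : Type*} (s : Finset ι) (f : ι → (X ⟶ Y)) :
    (∑ i ∈ s, f i).hom = ∑ i ∈ s, (f i).hom :=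
  map_sum (homAddHom X Y) f s

/-- the binary bicone given by the product module. -/
abbrev prodBicone (X Y : FP A) : BinaryBicone X Y where
  pt := ⟨ModuleCat.of A (X.obj × Y.obj), by
    have := X.property
    have := Y.property
    exact inferInstanceAs (Module.FinitePresentation A (X.obj × Y.obj))⟩
  fst := ObjectProperty.homMk (ModuleCat.ofHom (LinearMap.fst A X.obj Y.obj))
  snd := ObjectProperty.homMk (ModuleCat.ofHom (LinearMap.snd A X.obj Y.obj))
  inl := ObjectProperty.homMk (ModuleCat.ofHom (LinearMap.inl A X.obj Y.obj))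
  inr := ObjectProperty.homMk (ModuleCat.ofHom (LinearMap.inr A X.obj Y.obj))
  inl_fst := by apply ObjectProperty.hom_ext; apply ModuleCat.hom_ext; ext x; rfl
  inl_snd := by apply ObjectProperty.hom_ext; apply ModuleCat.hom_ext; ext x; rfl
  inr_fst := by apply ObjectProperty.hom_ext; apply ModuleCat.hom_ext; ext x; rfl
  inr_snd := by apply ObjectProperty.hom_ext; apply ModuleCat.hom_ext; ext x; rfl

instance : HasBinaryBiproducts (FP A) where
  has_binary_biproduct X Y := HasBinaryBiproduct.mk
    { bicone := prodBicone X Y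
      isBilimit := isBinaryBilimitOfTotal _ (by
        apply ObjectProperty.hom_ext
        rw [add_hom]
        apply ModuleCat.hom_ext
        ext x <;> simp) }

section
variable {B : Type u'} [Category.{v'} B] [Preadditive B]
  (F : FP A ⥤ B) [PreservesFiniteColimits F]

include F in
lemma additive_of_preservesFiniteColimits [HasFiniteBiproducts B] : F.Additive := by
  have : F.PreservesZeroMorphisms := inferInstance
  have := preservesBinaryBiproducts_of_preservesBinaryCoproducts F
  exact Functor.additive_of_preservesBinaryBiproducts F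

end

lemma epi_of_surjective {X Y : FP A} (f : X ⟶ Y) (h : Function.Surjective f.hom) : Epi f := by
  have : Epi f.hom := (ModuleCat.epi_iff_surjective _).2 h
  exact (ObjectProperty.ι _).epi_of_epi_map this

/-- the `i`-th coordinate inclusion. -/
abbrev inc (n : ℕ) (i : Fin n) : objA A ⟶ free A n :=
  elt (X := free A n) (Pi.single i (1 : A))

/-- the `i`-th coordinate projection. -/
abbrev prj (n : ℕ) (i : Fin n) : free A n ⟶ objA A :=
  ObjectProperty.homMk (ModuleCat.ofHom (LinearMap.proj (R := A) (φ := fun _ : Fin n => A) i))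

lemma sum_prj_inc (n : ℕ) : ∑ i, prj (A := A) n i ≫ inc n i = 𝟙 (free A n) := by
  apply ObjectProperty.hom_ext
  rw [sum_hom]
  apply ModuleCat.hom_ext
  apply LinearMap.ext
  intro v
  funext j
  simp [elt, Finset.sum_apply, Pi.single_apply]

lemma elt_eq_sum (n : ℕ) (x : Fin n → A) :
    elt (X := free A n) x = ∑ i, mulBy (x i) ≫ inc n i := by
  apply ObjectProperty.hom_ext
  rw [sum_hom]
  apply ModuleCat.hom_ext
  apply LinearMap.ext_ring
  ext j
  simp [elt, Finset.sum_apply, Pi.single_apply]

lemma elt_comp_prj (n : ℕ) (x : Fin n → A) (i : Fin n) :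
    elt (X := free A n) x ≫ prj n i = mulBy (x i) := by
  apply ObjectProperty.hom_ext
  apply ModuleCat.hom_ext
  apply LinearMap.ext_ring
  simp [elt]

lemma exists_presentation (X : FP A) :
    ∃ (m n : ℕ) (P : free A m ⟶ free A n) (π : free A n ⟶ X) (w : P ≫ π = 0),
      Function.Surjective π.hom ∧ Nonempty (IsColimit (CokernelCofork.ofπ π w)) := by
  have := X.property
  obtain ⟨n, m, f, g, hf, hfg⟩ := Module.FinitePresentation.exists_fin' A X.obj
  let S : ShortComplex (ModuleCat.{u} A) :=
    ShortComplex.moduleCatMk g f (LinearMap.ext (fun x => hfg.apply_apply_eq_zero x))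
  have hS : S.Exact := by
    rw [ShortComplex.moduleCat_exact_iff]
    intro x hx
    exact (hfg x).1 hx
  have hepi : Epi S.g := (ModuleCat.epi_iff_surjective _).2 hf
  have hcok := hS.gIsCokernel
  have w : (ObjectProperty.homMk S.f : free A m ⟶ free A n) ≫
      (ObjectProperty.homMk S.g : free A n ⟶ X) = 0 := by
    apply ObjectProperty.hom_ext
    exact S.zero
  refine ⟨m, n, ObjectProperty.homMk S.f, ObjectProperty.homMk S.g, w, hf, ⟨?_⟩⟩
  refine CokernelCofork.IsColimit.ofπ _ _
    (fun {Z'} g' hg' => ObjectProperty.homMk (hcok.desc (CokernelCofork.ofπ g'.hom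
      (by have := congrArg (fun t => t.hom) hg'; exact this)))) ?_ ?_
  · intro Z' g' hg'
    apply ObjectProperty.hom_ext
    exact hcok.fac _ WalkingParallelPair.one
  · intro Z' g' hg' m' hm'
    apply ObjectProperty.hom_ext
    apply Cofork.IsColimit.hom_ext hcok
    have e1 : S.g ≫ m'.hom = g'.hom := congrArg (fun t => t.hom) hm'
    have e2 := hcok.fac (CokernelCofork.ofπ g'.hom
      (by have := congrArg (fun t => t.hom) hg'; exact this)) WalkingParallelPair.one
    exact e1.trans e2.symm

lemma exists_presentation_exact (X : FP A) :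
    ∃ (m n : ℕ) (P : free A m ⟶ free A n) (π : free A n ⟶ X),
      Function.Surjective π.hom ∧ (∀ z, π.hom (P.hom z) = 0) ∧
      ∀ y, π.hom y = 0 → ∃ z, P.hom z = y := by
  have := X.property
  obtain ⟨n, m, f, g, hf, hfg⟩ := Module.FinitePresentation.exists_fin' A X.obj
  refine ⟨m, n, ObjectProperty.homMk (ModuleCat.ofHom g), ObjectProperty.homMk (ModuleCat.ofHom f),
    hf, fun z => hfg.apply_apply_eq_zero z, fun y hy => (hfg y).1 hy⟩

/-- factorization of a linear map through a surjection. -/
lemma exists_factor {M N P : Type*} [AddCommGroup M] [AddCommGroup N] [AddCommGroup P]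
    [Module A M] [Module A N] [Module A P] (π : M →ₗ[A] N) (hπ : Function.Surjective π)
    (g : M →ₗ[A] P) (h : ∀ y, π y = 0 → g y = 0) :
    ∃ g' : N →ₗ[A] P, ∀ y, g' (π y) = g y := by
  refine ⟨(LinearMap.ker π).liftQ g (fun y hy => h y hy) ∘ₗ
    (π.quotKerEquivOfSurjective hπ).symm.toLinearMap, fun y => ?_⟩
  have : (π.quotKerEquivOfSurjective hπ).symm (π y) = Submodule.Quotient.mk y := by
    rw [LinearEquiv.symm_apply_eq]
    rfl
  simp only [LinearMap.comp_apply, LinearEquiv.coe_coe, this]
  exact Submodule.liftQ_apply _ _ _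

section Cokernel

variable {X Y : FP A} (f : X ⟶ Y)

/-- the concrete cokernel object. -/
def cokerObj : FP A :=
  ⟨ModuleCat.of A (Y.obj ⧸ LinearMap.range f.hom.hom), by
    have hX := X.property
    have hY := Y.property
    exact Module.finitePresentation_of_surjective (LinearMap.range f.hom.hom).mkQ
      (Submodule.mkQ_surjective _) (by
        rw [Submodule.ker_mkQ, LinearMap.range_eq_map]
        exact Submodule.FG.map _ (Module.Finite.fg_top))⟩

/-- the projection to the concrete cokernel. -/
def cokerπ : Y ⟶ cokerObj f :=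
  ObjectProperty.homMk (ModuleCat.ofHom (LinearMap.range f.hom.hom).mkQ)

lemma cokerπ_surjective : Function.Surjective (cokerπ f).hom :=
  Submodule.mkQ_surjective _

lemma comp_cokerπ : f ≫ cokerπ f = 0 := by
  apply ObjectProperty.hom_ext
  apply ModuleCat.hom_ext
  ext x
  show (LinearMap.range f.hom.hom).mkQ (f.hom.hom x) = 0
  rw [Submodule.mkQ_apply, Submodule.Quotient.mk_eq_zero]
  exact ⟨x, rfl⟩

/-- a morphism killing `f` factors through the concrete cokernel. -/
def cokerDesc {Z : FP A} (g : Y ⟶ Z) (hg : f ≫ g = 0) : cokerObj f ⟶ Z :=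
  ObjectProperty.homMk (ModuleCat.ofHom ((LinearMap.range f.hom.hom).liftQ g.hom.hom (by
    rintro _ ⟨x, rfl⟩
    have := congrArg (fun t => t.hom.hom x) hg
    simpa using this)))

lemma cokerπ_desc {Z : FP A} (g : Y ⟶ Z) (hg : f ≫ g = 0) :
    cokerπ f ≫ cokerDesc f g hg = g := by
  apply ObjectProperty.hom_ext
  apply ModuleCat.hom_ext
  ext x
  rfl

/-- the concrete cokernel is a cokernel. -/
def cokerIsColimit : IsColimit (CokernelCofork.ofπ (cokerπ f) (comp_cokerπ f)) :=
  CokernelCofork.IsColimit.ofπ _ _ (fun g hg => cokerDesc f g hg)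
    (fun g hg => cokerπ_desc f g hg)
    (fun g hg m hm => by
      have : Epi (cokerπ f) := epi_of_surjective _ (cokerπ_surjective f)
      rw [← cancel_epi (cokerπ f), hm, cokerπ_desc])

end Cokernel

instance : HasCokernels (FP A) where
  has_colimit f := ⟨⟨⟨_, cokerIsColimit f⟩⟩⟩

instance : HasCoequalizers (FP A) := Preadditive.hasCoequalizers_of_hasCokernels

instance : HasFiniteCoproducts (FP A) := hasFiniteCoproducts_of_has_binary_and_initial

section
variable {B : Type u'} [Category.{v'} B] [Preadditive B]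
  (F : FP A ⥤ B) [F.Additive] [F.PreservesEpimorphisms]

lemma hom_ext_of_elt {X : FP A} {T : B} (g g' : F.obj X ⟶ T)
    (h : ∀ x : X.obj, F.map (elt x) ≫ g = F.map (elt x) ≫ g') : g = g' := by
  obtain ⟨m, n, P, π, w, hπ, -⟩ := exists_presentation X
  have : Epi π := epi_of_surjective π hπ
  have : Epi (F.map π) := F.map_epi π
  rw [← cancel_epi (F.map π)]
  have key : ∀ k : F.obj X ⟶ T, F.map π ≫ k =
      ∑ i, F.map (prj n i) ≫ F.map (elt (π.hom (Pi.single i (1 : A)))) ≫ k := by
    intro k
    have h1 : π = ∑ i, prj n i ≫ elt (π.hom (Pi.single i (1 : A))) := by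
      conv_lhs => rw [← Category.id_comp π, ← sum_prj_inc, Preadditive.sum_comp]
      refine Finset.sum_congr rfl (fun i _ => ?_)
      rw [Category.assoc, elt_comp]
    conv_lhs => rw [h1]
    rw [F.map_sum, Preadditive.sum_comp]
    refine Finset.sum_congr rfl (fun i _ => ?_)
    rw [F.map_comp, Category.assoc]
  rw [key g, key g']
  refine Finset.sum_congr rfl (fun i _ => ?_)
  rw [h]

end

end Groth.Agent.H16.FPFun
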