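import Mathlib
import Groth.Agent.H34.FPColim
import Groth.Agent.H12.ExtColim
import Groth.Agent.H16.FPFun

/-!
# Functors on modules commuting with filtered colimits, determined on finitely presented modules
-/

set_option autoImplicit false
set_option linter.unusedSectionVars false
set_option linter.unusedVariables false
set_option linter.style.haveILetI false
set_option backward.isDefEq.respectTransparency false
set_option backward.isDefEq.respectTransparency.types false

universe u v' u'

open CategoryTheory CategoryTheory.Limits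

namespace Groth.Agent.H16.FPExt

open Groth.Agent.H16.FPFun

variable {A : Type u} [CommRing A]

/-- Every module is the colimit of a small filtered diagram of finitely presented modules. -/
theorem exists_fp_cocone (M : ModuleCat.{u} A) :
    ∃ (J : Type u) (_ : SmallCategory J) (_ : IsFiltered J) (D : J ⥤ ModuleCat.{u} A)
      (c : Cocone D), (∀ j, Module.FinitePresentation A (D.obj j)) ∧ Nonempty (IsColimit c) ∧
        Nonempty (c.pt ≅ M) := by
  obtain ⟨ι, _, _, _, _, G, _, _, f, _, hfp, ⟨e⟩⟩ := Groth.Agent.H34.FPColim.main A M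
  refine ⟨ι, inferInstance, inferInstance, ModuleCat.directLimitDiagram G f,
    ModuleCat.directLimitCocone G f, fun j => hfp j, ⟨ModuleCat.directLimitIsColimit G f⟩,
    ⟨e.toModuleIso⟩⟩

/-- Variant with the cocone point equal to `M`. -/
theorem exists_fp_cocone' (M : ModuleCat.{u} A) :
    ∃ (J : Type u) (_ : SmallCategory J) (_ : IsFiltered J) (D : J ⥤ ModuleCat.{u} A)
      (ι : D ⟶ (Functor.const J).obj M), (∀ j, Module.FinitePresentation A (D.obj j)) ∧
        Nonempty (IsColimit (Cocone.mk M ι)) := by
  obtain ⟨J, _, _, D, c, hfp, ⟨hc⟩, ⟨e⟩⟩ := exists_fp_cocone M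
  refine ⟨J, inferInstance, inferInstance, D, c.ι ≫ (Functor.const J).map e.hom, hfp, ⟨?_⟩⟩
  exact IsColimit.ofIsoColimit hc (Cocone.ext e (fun j => rfl))

section Factor

variable {J : Type u} [SmallCategory J] [IsFiltered J] {D : J ⥤ ModuleCat.{u} A} {c : Cocone D}

/-- A map from a finitely presented module into a filtered colimit factors through a stage. -/
theorem exists_factor (hc : IsColimit c) (P : ModuleCat.{u} A) [Module.FinitePresentation A P]
    (a : P ⟶ c.pt) : ∃ (j : J) (a' : P ⟶ D.obj j), a' ≫ c.ι.app j = a := by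
  have := Groth.Agent.H12.ExtColim.preserves_homF P J
  have h := isColimitOfPreserves (Groth.Agent.H12.ExtColim.homF P) hc
  obtain ⟨ha, -⟩ := Groth.Agent.H82.FiltColim.rep_of_isColimit h
  obtain ⟨j, y, hy⟩ := ha a
  exact ⟨j, y, hy⟩

/-- Two maps from a finitely presented module into a filtered colimit factor through a common
stage. -/
theorem exists_factor₂ (hc : IsColimit c) (P : ModuleCat.{u} A) [Module.FinitePresentation A P]
    (a b : P ⟶ c.pt) : ∃ (j : J) (a' b' : P ⟶ D.obj j), a' ≫ c.ι.app j = a ∧
      b' ≫ c.ι.app j = b := by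
  obtain ⟨j₁, a₁, h₁⟩ := exists_factor hc P a
  obtain ⟨j₂, b₂, h₂⟩ := exists_factor hc P b
  refine ⟨IsFiltered.max j₁ j₂, a₁ ≫ D.map (IsFiltered.leftToMax j₁ j₂),
    b₂ ≫ D.map (IsFiltered.rightToMax j₁ j₂), ?_, ?_⟩
  · rw [Category.assoc, c.w, h₁]
  · rw [Category.assoc, c.w, h₂]

end Factor

section Additive

variable {B : Type u'} [Category.{v'} B] [Preadditive B]
  (F' : ModuleCat.{u} A ⥤ B) [PreservesFilteredColimitsOfSize.{u, u} F']
  [(ObjectProperty.ι (fun M : ModuleCat.{u} A => Module.FinitePresentation A M) ⋙ F').Additive]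

include F' in
/-- additivity on maps between finitely presented modules. -/
theorem map_add_fp (P Q : ModuleCat.{u} A) [hP : Module.FinitePresentation A P]
    [hQ : Module.FinitePresentation A Q] (a b : P ⟶ Q) :
    F'.map (a + b) = F'.map a + F'.map b := by
  let P' : FP A := ⟨P, hP⟩
  let Q' : FP A := ⟨Q, hQ⟩
  let a' : P' ⟶ Q' := ObjectProperty.homMk a
  let b' : P' ⟶ Q' := ObjectProperty.homMk b
  have := (ObjectProperty.ι (fun M : ModuleCat.{u} A => Module.FinitePresentation A M)
    ⋙ F').map_add (f := a') (g := b')
  exact this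

include F' in
/-- additivity on maps out of a finitely presented module. -/
theorem map_add_of_fp (P N : ModuleCat.{u} A) [hP : Module.FinitePresentation A P]
    (a b : P ⟶ N) : F'.map (a + b) = F'.map a + F'.map b := by
  obtain ⟨K, _, _, E, ι, hfp, ⟨hd⟩⟩ := exists_fp_cocone' N
  obtain ⟨k, a', b', rfl, rfl⟩ := exists_factor₂ hd P a b
  have := hfp k
  rw [← Preadditive.add_comp, F'.map_comp, F'.map_comp, F'.map_comp, map_add_fp F' P (E.obj k),
    Preadditive.add_comp]

include F' in
theorem map_add (M N : ModuleCat.{u} A) (f g : M ⟶ N) :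
    F'.map (f + g) = F'.map f + F'.map g := by
  obtain ⟨J, _, _, D, ι, hfp, ⟨hc⟩⟩ := exists_fp_cocone' M
  have : PreservesColimitsOfShape J F' :=
    PreservesFilteredColimitsOfSize.preserves_filtered_colimits J
  have h := isColimitOfPreserves F' hc
  apply h.hom_ext
  intro j
  have := hfp j
  have e1 : (F'.mapCocone (Cocone.mk M ι)).ι.app j = F'.map (ι.app j) := rfl
  rw [e1, Preadditive.comp_add, ← F'.map_comp, ← F'.map_comp, ← F'.map_comp,
    Preadditive.comp_add, map_add_of_fp F' (D.obj j) N]

include F' in
theorem additive : F'.Additive := ⟨fun {M N} {f g} => map_add F' M N f g⟩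

end Additive

section Coprod

variable {B : Type u'} [Category.{v'} B] [Preadditive B]
  (F' : ModuleCat.{u} A ⥤ B) [PreservesFilteredColimitsOfSize.{u, u} F'] [F'.Additive]

open CoproductsFromFiniteFiltered

include F' in
omit [PreservesFilteredColimitsOfSize.{u, u} F'] in
theorem fin_hom_ext {S : Type u} [Finite S] (g : S → ModuleCat.{u} A) {T : B}
    (a b : F'.obj (∐ g) ⟶ T)
    (h : ∀ x, F'.map (Sigma.ι g x) ≫ a = F'.map (Sigma.ι g x) ≫ b) : a = b := by
  have : PreservesColimitsOfShape (Discrete S) F' := inferInstance
  apply (isColimitOfPreserves F' (colimit.isColimit (Discrete.functor g))).hom_ext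
  rintro ⟨x⟩
  exact h x

include F' in
omit [PreservesFilteredColimitsOfSize.{u, u} F'] in
theorem fin_desc {S : Type u} [Finite S] (g : S → ModuleCat.{u} A) {T : B}
    (t : ∀ x, F'.obj (g x) ⟶ T) :
    ∃ a : F'.obj (∐ g) ⟶ T, ∀ x, F'.map (Sigma.ι g x) ≫ a = t x := by
  have : PreservesColimitsOfShape (Discrete S) F' := inferInstance
  let h := isColimitOfPreserves F' (colimit.isColimit (Discrete.functor g))
  let s : Cocone (Discrete.functor g ⋙ F') :=
    { pt := T, ι := Discrete.natTrans fun x => t x.as }
  exact ⟨h.desc s, fun x => h.fac s ⟨x⟩⟩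

include F' in
theorem preservesCoproduct (J : Type u) (f : J → ModuleCat.{u} A) :
    PreservesColimit (Discrete.functor f) F' := by
  have : PreservesColimitsOfShape (Finset (Discrete J)) F' :=
    PreservesFilteredColimitsOfSize.preserves_filtered_colimits _
  have H := isColimitOfPreserves F' (isColimitFiniteSubproductsCocone f)
  apply preservesColimit_of_preserves_colimit_cocone (colimit.isColimit (Discrete.functor f))
  apply IsColimit.ofExistsUnique
  intro s
  -- legs on finite subcoproducts
  have hleg : ∀ S : Finset (Discrete J), ∃ a : F'.obj (∐ fun x : S => (Discrete.functor f).obj x) ⟶ s.pt,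
      ∀ x : S, F'.map (Sigma.ι (fun x : S => (Discrete.functor f).obj x) x) ≫ a = s.ι.app x.1 :=
    fun S => fin_desc F' (fun x : S => (Discrete.functor f).obj x) (fun x => s.ι.app x.1)
  choose leg hlegs using hleg
  let s' : Cocone (liftToFinsetObj (Discrete.functor f) ⋙ F') :=
    { pt := s.pt
      ι :=
        { app := fun S => leg S
          naturality := by
            intro S S' h
            apply fin_hom_ext F' (fun x : S => (Discrete.functor f).obj x)
            intro x
            have e : Sigma.ι (fun x : S => (Discrete.functor f).obj x) x ≫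
                (liftToFinsetObj (Discrete.functor f)).map h =
                Sigma.ι (fun x : S' => (Discrete.functor f).obj x) ⟨x.1, h.down.down x.2⟩ := by
              simp [liftToFinsetObj]
            have e2 : (liftToFinsetObj (Discrete.functor f) ⋙ F').map h =
                F'.map ((liftToFinsetObj (Discrete.functor f)).map h) := rfl
            rw [e2, ← Category.assoc, ← F'.map_comp, e, hlegs S']
            simp only [Functor.const_obj_obj, Functor.const_obj_map, Category.comp_id]
            rw [hlegs S] } }
  have key : ∀ (S : Finset (Discrete J)) (x : S),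
      Sigma.ι (fun x : S => (Discrete.functor f).obj x) x ≫
        (finiteSubcoproductsCocone f).ι.app S = Sigma.ι f x.1.as := by
    intro S x
    simp [finiteSubcoproductsCocone]
  refine ⟨H.desc s', ?_, ?_⟩
  · rintro ⟨j⟩
    have hj : (⟨j⟩ : Discrete J) ∈ ({⟨j⟩} : Finset (Discrete J)) := Finset.mem_singleton_self _
    have e1 : (F'.mapCocone (colimit.cocone (Discrete.functor f))).ι.app ⟨j⟩ =
        F'.map (Sigma.ι f j) := rfl
    rw [e1, ← key {⟨j⟩} ⟨⟨j⟩, hj⟩, F'.map_comp, Category.assoc]
    have := H.fac s' {⟨j⟩}
    have e3 : (F'.mapCocone (finiteSubcoproductsCocone f)).ι.app {⟨j⟩} =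
        F'.map ((finiteSubcoproductsCocone f).ι.app {⟨j⟩}) := rfl
    rw [e3] at this
    rw [this]
    exact hlegs {⟨j⟩} ⟨⟨j⟩, hj⟩
  · intro d hd
    apply H.uniq s'
    intro S
    apply fin_hom_ext F' (fun x : S => (Discrete.functor f).obj x)
    intro x
    have e3 : (F'.mapCocone (finiteSubcoproductsCocone f)).ι.app S =
        F'.map ((finiteSubcoproductsCocone f).ι.app S) := rfl
    rw [e3, ← Category.assoc, ← F'.map_comp, key S x]
    have := hd x.1
    have e1 : (F'.mapCocone (colimit.cocone (Discrete.functor f))).ι.app x.1 =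
        F'.map (Sigma.ι f x.1.as) := rfl
    rw [e1] at this
    rw [this]
    exact (hlegs S x).symm

include F' in
theorem preservesCoproducts (J : Type u) : PreservesColimitsOfShape (Discrete J) F' := by
  have : ∀ f : J → ModuleCat.{u} A, PreservesColimit (Discrete.functor f) F' :=
    fun f => preservesCoproduct F' J f
  exact preservesColimitsOfShape_of_discrete F'

end Coprod

end Groth.Agent.H16.FPExt
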