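import Mathlib
import Groth.Agent.H16.FPExt

/-!
# Right exactness of functors on modules commuting with filtered colimits
-/

set_option autoImplicit false
set_option linter.unusedSectionVars false
set_option linter.unusedVariables false
set_option linter.style.haveILetI false
set_option backward.isDefEq.respectTransparency false
set_option backward.isDefEq.respectTransparency.types false

universe u v' u'

open CategoryTheory CategoryTheory.Limits

namespace Groth.Agent.H16.FPExt2

open Groth.Agent.H16.FPFun Groth.Agent.H16.FPExt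

variable {A : Type u} [CommRing A] {B : Type u'} [Category.{v'} B] [Preadditive B]
  (F' : ModuleCat.{u} A ⥤ B)

/-- `F'` sends the cokernel diagram `f, π` to a cokernel diagram (universal property form). -/
def PresCokerOf {M N C : ModuleCat.{u} A} (f : M ⟶ N) (π : N ⟶ C) : Prop :=
  ∀ (T : B) (t : F'.obj N ⟶ T), F'.map f ≫ t = 0 →
    ∃! t' : F'.obj C ⟶ T, F'.map π ≫ t' = t

variable {F'}

theorem PresCokerOf.of_iso {M N C C' : ModuleCat.{u} A} {f : M ⟶ N} {π : N ⟶ C} {π' : N ⟶ C'}
    (h : PresCokerOf F' f π) (e : C ≅ C') (he : π ≫ e.hom = π') : PresCokerOf F' f π' := by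
  intro T t ht
  obtain ⟨t', h1, h2⟩ := h T t ht
  refine ⟨F'.map e.inv ≫ t', ?_, ?_⟩
  · show F'.map π' ≫ F'.map e.inv ≫ t' = t
    simp only [← he, Functor.map_comp, Category.assoc, Iso.map_hom_inv_id_assoc, h1]
  · intro y hy
    have : F'.map e.hom ≫ y = t' := h2 _ (by
      show F'.map π ≫ F'.map e.hom ≫ y = t
      rw [← F'.map_comp_assoc, he, hy])
    rw [← this, Iso.map_inv_hom_id_assoc]

theorem PresCokerOf.of_isColimit {M N C C' : ModuleCat.{u} A} {f : M ⟶ N} {π : N ⟶ C}
    {π' : N ⟶ C'} (h : PresCokerOf F' f π) (w : f ≫ π = 0) (w' : f ≫ π' = 0)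
    (hc : IsColimit (CokernelCofork.ofπ π w)) (hc' : IsColimit (CokernelCofork.ofπ π' w')) :
    PresCokerOf F' f π' := by
  let e := IsColimit.coconePointUniqueUpToIso hc hc'
  refine h.of_iso e ?_
  exact IsColimit.comp_coconePointUniqueUpToIso_hom hc hc' WalkingParallelPair.one

theorem PresCokerOf.preserves [F'.PreservesZeroMorphisms] {M N : ModuleCat.{u} A} {f : M ⟶ N}
    (h : PresCokerOf F' f (cokernel.π f)) : PreservesColimit (parallelPair f 0) F' := by
  apply preservesColimit_of_preserves_colimit_cocone (cokernelIsCokernel f)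
  apply (isColimitMapCoconeCoforkEquiv' F' (cokernel.condition f)).symm _
  exact CokernelCofork.IsColimit.ofπ _ _
    (fun {T} t ht => (h T t ht).choose) (fun {T} t ht => (h T t ht).choose_spec.1)
    (fun {T} t ht m hm => (h T t ht).choose_spec.2 m hm)

theorem presCokerOf_of_preserves [F'.PreservesZeroMorphisms] {M N : ModuleCat.{u} A} (f : M ⟶ N)
    [PreservesColimit (parallelPair f 0) F'] : PresCokerOf F' f (cokernel.π f) := by
  intro T t ht
  have hc := isColimitOfHasCokernelOfPreservesColimit F' f
  obtain ⟨l, hl⟩ := Cofork.IsColimit.desc' hc t (by simpa using ht)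
  refine ⟨l, hl, fun y hy => ?_⟩
  apply Cofork.IsColimit.hom_ext hc
  rw [hl]
  exact hy

section Interchange

variable {I : Type u} [SmallCategory I] [IsFiltered I] {D₁ D₂ : I ⥤ ModuleCat.{u} A}
  (α : D₁ ⟶ D₂) {c₁ : Cocone D₁} {c₂ : Cocone D₂} (h₁ : IsColimit c₁) (h₂ : IsColimit c₂)
  (f : c₁.pt ⟶ c₂.pt) (hf : ∀ i, c₁.ι.app i ≫ f = α.app i ≫ c₂.ι.app i)

/-- the diagram of cokernels. -/
noncomputable def Ck : I ⥤ ModuleCat.{u} A where
  obj i := cokernel (α.app i)
  map {i j} u := cokernel.map (α.app i) (α.app j) (D₁.map u) (D₂.map u) (α.naturality u).symm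
  map_id i := by
    apply coequalizer.hom_ext
    simp
  map_comp u v := by
    apply coequalizer.hom_ext
    simp

include hf in
/-- the cocone of cokernels. -/
noncomputable def cK : Cocone (Ck α) where
  pt := cokernel f
  ι :=
    { app := fun i => cokernel.map (α.app i) f (c₁.ι.app i) (c₂.ι.app i) (hf i).symm
      naturality := by
        intro i j u
        apply coequalizer.hom_ext
        simp [Ck] }

include h₁ h₂ in
theorem isColimit_cK : Nonempty (IsColimit (cK α f hf)) := by
  refine ⟨IsColimit.ofExistsUnique ?_⟩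
  intro s
  let s₂ : Cocone D₂ :=
    { pt := s.pt
      ι :=
        { app := fun i => cokernel.π (α.app i) ≫ s.ι.app i
          naturality := by
            intro i j u
            have := s.w u
            simp only [Functor.const_obj_obj, Functor.const_obj_map, Category.comp_id]
            rw [← this]
            simp [Ck] } }
  let y : c₂.pt ⟶ s.pt := h₂.desc s₂
  have hy : ∀ i, c₂.ι.app i ≫ y = cokernel.π (α.app i) ≫ s.ι.app i := fun i => h₂.fac s₂ i
  have hfy : f ≫ y = 0 := by
    apply h₁.hom_ext
    intro i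
    rw [← Category.assoc, hf i, Category.assoc, hy, ← Category.assoc, cokernel.condition,
      zero_comp, comp_zero]
  refine ⟨cokernel.desc f y hfy, ?_, ?_⟩
  · intro i
    apply coequalizer.hom_ext
    simp only [cK]
    rw [← Category.assoc, cokernel.π_desc, Category.assoc, cokernel.π_desc, hy]
  · intro m hm
    apply coequalizer.hom_ext
    rw [cokernel.π_desc]
    apply h₂.hom_ext
    intro i
    rw [hy, ← hm i]
    simp only [cK]
    rw [← Category.assoc, ← Category.assoc, cokernel.π_desc, Category.assoc]

include h₁ h₂ hf in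
theorem presCokerOf_colim [PreservesFilteredColimitsOfSize.{u, u} F']
    (hα : ∀ i, PresCokerOf F' (α.app i) (cokernel.π (α.app i))) :
    PresCokerOf F' f (cokernel.π f) := by
  obtain ⟨hK⟩ := isColimit_cK α h₁ h₂ f hf
  have : PreservesColimitsOfShape I F' :=
    PreservesFilteredColimitsOfSize.preserves_filtered_colimits I
  have H := isColimitOfPreserves F' hK
  have H₂ := isColimitOfPreserves F' h₂
  have H₁ := isColimitOfPreserves F' h₁
  intro T t ht
  have ht' : ∀ i, F'.map (α.app i) ≫ (F'.map (c₂.ι.app i) ≫ t) = 0 := by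
    intro i
    rw [← F'.map_comp_assoc, ← hf i, F'.map_comp, Category.assoc, ht, comp_zero]
  choose tb htb using fun i => hα i T (F'.map (c₂.ι.app i) ≫ t) (ht' i)
  have eπ : ∀ i, cokernel.π (α.app i) ≫ (cK α f hf).ι.app i = c₂.ι.app i ≫ cokernel.π f := by
    intro i
    simp [cK]
  let s : Cocone (Ck α ⋙ F') :=
    { pt := T
      ι :=
        { app := fun i => tb i
          naturality := by
            intro i j u
            simp only [Functor.const_obj_obj, Functor.const_obj_map, Category.comp_id]
            apply (htb i).2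
            show F'.map (cokernel.π (α.app i)) ≫ F'.map ((Ck α).map u) ≫ tb j = _
            have e : cokernel.π (α.app i) ≫ (Ck α).map u = D₂.map u ≫ cokernel.π (α.app j) := by
              simp [Ck]
            rw [← F'.map_comp_assoc, e, F'.map_comp, Category.assoc, (htb j).1,
              ← F'.map_comp_assoc, c₂.w] } }
  refine ⟨H.desc s, ?_, ?_⟩
  · apply H₂.hom_ext
    intro i
    have e1 : (F'.mapCocone c₂).ι.app i = F'.map (c₂.ι.app i) := rfl
    rw [e1, ← F'.map_comp_assoc, ← eπ i, F'.map_comp, Category.assoc]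
    have := H.fac s i
    have e2 : (F'.mapCocone (cK α f hf)).ι.app i = F'.map ((cK α f hf).ι.app i) := rfl
    rw [e2] at this
    rw [this]
    exact (htb i).1
  · intro y hy
    apply H.uniq s
    intro i
    have e2 : (F'.mapCocone (cK α f hf)).ι.app i = F'.map ((cK α f hf).ι.app i) := rfl
    rw [e2]
    apply (htb i).2
    show F'.map (cokernel.π (α.app i)) ≫ F'.map ((cK α f hf).ι.app i) ≫ y = _
    rw [← F'.map_comp_assoc, eπ i, F'.map_comp, Category.assoc, hy]

end Interchange


section Main

variable [HasFiniteBiproducts B] [PreservesFilteredColimitsOfSize.{u, u} F']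
  [PreservesFiniteColimits
    (ObjectProperty.ι (fun M : ModuleCat.{u} A => Module.FinitePresentation A M) ⋙ F')]

include F' in
/-- Step 1: maps between finitely presented modules. -/
theorem presCokerOf_fp (P Q : ModuleCat.{u} A) [hP : Module.FinitePresentation A P]
    [hQ : Module.FinitePresentation A Q] (f : P ⟶ Q) : PresCokerOf F' f (cokernel.π f) := by
  let P' : FP A := ⟨P, hP⟩
  let Q' : FP A := ⟨Q, hQ⟩
  let f' : P' ⟶ Q' := ObjectProperty.homMk f
  let G := ObjectProperty.ι (fun M : ModuleCat.{u} A => Module.FinitePresentation A M) ⋙ F'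
  have : G.Additive := additive_of_preservesFiniteColimits G
  have hG : IsColimit (G.mapCocone (CokernelCofork.ofπ (cokerπ f') (comp_cokerπ f'))) :=
    isColimitOfPreserves G (cokerIsColimit f')
  have hG' := (isColimitMapCoconeCoforkEquiv' G (comp_cokerπ f')) hG
  let π₀ : Q ⟶ ModuleCat.of A (Q ⧸ LinearMap.range f.hom) :=
    ModuleCat.ofHom (LinearMap.range f.hom).mkQ
  have w₀ : f ≫ π₀ = 0 := by
    apply ModuleCat.hom_ext
    ext x
    show (LinearMap.range f.hom).mkQ (f.hom x) = 0
    rw [Submodule.mkQ_apply, Submodule.Quotient.mk_eq_zero]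
    exact ⟨x, rfl⟩
  have h₀ : PresCokerOf F' f π₀ := by
    intro T t ht
    obtain ⟨l, hl⟩ := Cofork.IsColimit.desc' hG' t (by
      show F'.map f ≫ t = 0 ≫ t
      rw [zero_comp, ht])
    refine ⟨l, hl, fun y hy => ?_⟩
    apply Cofork.IsColimit.hom_ext hG'
    rw [hl]
    exact hy
  have hc₀ : IsColimit (CokernelCofork.ofπ π₀ w₀) := ModuleCat.cokernelIsColimit f
  exact h₀.of_isColimit w₀ (cokernel.condition f) hc₀ (cokernelIsCokernel f)

include F' in
/-- Step 2: maps out of a finitely presented module. -/
theorem presCokerOf_of_fp (P N : ModuleCat.{u} A) [hP : Module.FinitePresentation A P]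
    (g : P ⟶ N) : PresCokerOf F' g (cokernel.π g) := by
  obtain ⟨K, _, _, E, ι, hfp, ⟨hd⟩⟩ := exists_fp_cocone' N
  obtain ⟨j0, g0, hg0⟩ := exists_factor hd P g
  haveI : IsFiltered (Under j0) := inferInstance
  haveI : IsConnected (Under j0) := IsFiltered.isConnected _
  let D₁ : Under j0 ⥤ ModuleCat.{u} A := (Functor.const (Under j0)).obj P
  let D₂ : Under j0 ⥤ ModuleCat.{u} A := Under.forget j0 ⋙ E
  let α : D₁ ⟶ D₂ :=
    { app := fun u => g0 ≫ E.map u.hom
      naturality := by
        intro u v φ
        simp only [D₁, D₂, Functor.const_obj_obj, Functor.const_obj_map, Category.id_comp,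
          Functor.comp_obj, Functor.comp_map, Under.forget_obj, Under.forget_map, Category.assoc]
        rw [← E.map_comp, Under.w] }
  let c₁ : Cocone D₁ := constCocone (Under j0) P
  have h₁ : IsColimit c₁ := isColimitConstCocone (Under j0) P
  let c₂ : Cocone D₂ := (Cocone.mk N ι).whisker (Under.forget j0)
  have h₂ : IsColimit c₂ := (Functor.Final.isColimitWhiskerEquiv (Under.forget j0) _).symm hd
  refine presCokerOf_colim (F' := F') α h₁ h₂ g ?_ ?_
  · intro u
    show 𝟙 P ≫ g = (g0 ≫ E.map u.hom) ≫ ι.app u.right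
    rw [Category.id_comp, Category.assoc]
    have := (Cocone.mk N ι).w u.hom
    rw [this]
    exact hg0.symm
  · intro u
    have := hfp u.right
    exact presCokerOf_fp P (E.obj u.right) (g0 ≫ E.map u.hom)

include F' in
/-- Step 3: arbitrary maps. -/
theorem presCokerOf_all (M N : ModuleCat.{u} A) (f : M ⟶ N) :
    PresCokerOf F' f (cokernel.π f) := by
  obtain ⟨J, _, _, D, ι, hfp, ⟨hc⟩⟩ := exists_fp_cocone' M
  haveI : IsConnected J := IsFiltered.isConnected _
  let D₂ : J ⥤ ModuleCat.{u} A := (Functor.const J).obj N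
  let α : D ⟶ D₂ :=
    { app := fun j => ι.app j ≫ f
      naturality := by
        intro i j φ
        simp only [D₂, Functor.const_obj_obj, Functor.const_obj_map, Category.comp_id]
        rw [← Category.assoc]
        congr 1
        simp }
  let c₂ : Cocone D₂ := constCocone J N
  have h₂ : IsColimit c₂ := isColimitConstCocone J N
  refine presCokerOf_colim (F' := F') α hc h₂ f ?_ ?_
  · intro j
    show ι.app j ≫ f = (ι.app j ≫ f) ≫ 𝟙 N
    rw [Category.comp_id]
  · intro j
    have := hfp j
    exact presCokerOf_of_fp (D.obj j) N (ι.app j ≫ f)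

include F' in
theorem main : F'.Additive ∧ PreservesFiniteColimits F' ∧
      ∀ J : Type u, PreservesColimitsOfShape (Discrete J) F' := by
  have hadd0 : (ObjectProperty.ι (fun M : ModuleCat.{u} A => Module.FinitePresentation A M)
      ⋙ F').Additive := additive_of_preservesFiniteColimits _
  have hadd : F'.Additive := additive F'
  refine ⟨hadd, ?_, fun J => preservesCoproducts F' J⟩
  haveI : HasZeroObject B := hasZeroObject_of_hasFiniteBiproducts B
  have : ∀ {M N : ModuleCat.{u} A} (f : M ⟶ N), PreservesColimit (parallelPair f 0) F' :=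
    fun f => (presCokerOf_all _ _ f).preserves
  exact Functor.preservesFiniteColimits_of_preservesCokernels F'

end Main

end Groth.Agent.H16.FPExt2
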