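import Mathlib
import Groth.Agent.H16.FPExt2
import Groth.Agent.H32.Coherent

/-!
# Left exactness of functors on modules commuting with filtered colimits (coherent rings)
-/

set_option autoImplicit false
set_option linter.unusedSectionVars false
set_option linter.unusedVariables false
set_option linter.style.haveILetI false
set_option backward.isDefEq.respectTransparency false
set_option backward.isDefEq.respectTransparency.types false

universe u v' u'

open CategoryTheory CategoryTheory.Limits

namespace Groth.Agent.H16.FPExt3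

open Groth.Agent.H16.FPFun Groth.Agent.H16.FPExt

section Abstract

variable {B : Type u'} [Category.{v'} B] [Preadditive B]
  {I : Type u} [SmallCategory I] [HasColimitsOfShape I B]

theorem colim_map_zero (E₁ E₂ : I ⥤ B) : (colim : (I ⥤ B) ⥤ B).map (0 : E₁ ⟶ E₂) = 0 := by
  apply colimit.hom_ext
  intro i
  simp

variable [PreservesLimitsOfShape WalkingParallelPair (colim : (I ⥤ B) ⥤ B)]

/-- Filtered colimits of kernels are kernels, in universal-property form. -/
theorem kernel_colim {L E₁ E₂ : I ⥤ B} (lam : L ⟶ E₁) (β : E₁ ⟶ E₂) (w : lam ≫ β = 0)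
    (hker : ∀ (i : I) (T : B) (t : T ⟶ E₁.obj i), t ≫ β.app i = 0 →
      ∃! t' : T ⟶ L.obj i, t' ≫ lam.app i = t)
    {dK : Cocone L} {d₁ : Cocone E₁} {d₂ : Cocone E₂} (hK : IsColimit dK) (h₁ : IsColimit d₁)
    (h₂ : IsColimit d₂) (ιY : dK.pt ⟶ d₁.pt) (g : d₁.pt ⟶ d₂.pt)
    (hι : ∀ i, dK.ι.app i ≫ ιY = lam.app i ≫ d₁.ι.app i)
    (hg : ∀ i, d₁.ι.app i ≫ g = β.app i ≫ d₂.ι.app i) :
    ∀ (T : B) (t : T ⟶ d₁.pt), t ≫ g = 0 → ∃! t' : T ⟶ dK.pt, t' ≫ ιY = t := by
  have w' : lam ≫ β = lam ≫ 0 := by rw [w, comp_zero]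
  -- the kernel fork in the functor category
  have hlim : IsLimit (Fork.ofι lam w') := by
    apply evaluationJointlyReflectsLimits
    intro i
    apply (isLimitMapConeForkEquiv ((evaluation I B).obj i) w').symm _
    refine Fork.IsLimit.mk' _ (fun s => ?_)
    have hs : s.ι ≫ β.app i = 0 := by
      have := s.condition
      simp only [evaluation_obj_map] at this
      rw [this]
      simp
    refine ⟨(hker i _ s.ι hs).choose, (hker i _ s.ι hs).choose_spec.1, ?_⟩
    intro m hm
    exact (hker i _ s.ι hs).choose_spec.2 m hm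
  have hlim2 := isLimitMapConeForkEquiv (colim : (I ⥤ B) ⥤ B) w' (isLimitOfPreserves _ hlim)
  -- comparison isomorphisms
  let e₁ := (colimit.isColimit E₁).coconePointUniqueUpToIso h₁
  let e₂ := (colimit.isColimit E₂).coconePointUniqueUpToIso h₂
  let eK := (colimit.isColimit L).coconePointUniqueUpToIso hK
  have he₁ : ∀ i, colimit.ι E₁ i ≫ e₁.hom = d₁.ι.app i := fun i =>
    IsColimit.comp_coconePointUniqueUpToIso_hom (colimit.isColimit E₁) h₁ i
  have he₂ : ∀ i, colimit.ι E₂ i ≫ e₂.hom = d₂.ι.app i := fun i =>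
    IsColimit.comp_coconePointUniqueUpToIso_hom (colimit.isColimit E₂) h₂ i
  have heK : ∀ i, colimit.ι L i ≫ eK.hom = dK.ι.app i := fun i =>
    IsColimit.comp_coconePointUniqueUpToIso_hom (colimit.isColimit L) hK i
  have C1 : colimMap β ≫ e₂.hom = e₁.hom ≫ g := by
    apply colimit.hom_ext
    intro i
    rw [ι_colimMap_assoc, he₂, ← Category.assoc, he₁, hg]
  have C2 : colimMap lam ≫ e₁.hom = eK.hom ≫ ιY := by
    apply colimit.hom_ext
    intro i
    rw [ι_colimMap_assoc, he₁, ← Category.assoc, heK, hι]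
  intro T t ht
  have hs : (t ≫ e₁.inv) ≫ (colim : (I ⥤ B) ⥤ B).map β =
      (t ≫ e₁.inv) ≫ (colim : (I ⥤ B) ⥤ B).map 0 := by
    rw [colim_map_zero, comp_zero]
    show (t ≫ e₁.inv) ≫ colimMap β = 0
    have : colimMap β = e₁.hom ≫ g ≫ e₂.inv := by
      rw [← Category.assoc, ← C1, Category.assoc, Iso.hom_inv_id, Category.comp_id]
    rw [this, Category.assoc, Iso.inv_hom_id_assoc, ← Category.assoc, ht, zero_comp]
  obtain ⟨l, hl⟩ := Fork.IsLimit.lift' hlim2 (t ≫ e₁.inv) hs
  have hl' : l ≫ colimMap lam = t ≫ e₁.inv := hl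
  refine ⟨l ≫ eK.hom, ?_, ?_⟩
  · show (l ≫ eK.hom) ≫ ιY = t
    rw [Category.assoc, ← C2, ← Category.assoc, hl', Category.assoc, Iso.inv_hom_id,
      Category.comp_id]
  · intro y hy
    have : y ≫ eK.inv = l := by
      apply Fork.IsLimit.hom_ext hlim2
      show (y ≫ eK.inv) ≫ colimMap lam = l ≫ colimMap lam
      rw [hl']
      have : colimMap lam = eK.hom ≫ ιY ≫ e₁.inv := by
        rw [← Category.assoc, ← C2, Category.assoc, Iso.hom_inv_id, Category.comp_id]
      rw [this, Category.assoc, Iso.inv_hom_id_assoc, ← Category.assoc, hy]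
    rw [← this, Category.assoc, Iso.inv_hom_id, Category.comp_id]

end Abstract

variable {A : Type u} [CommRing A] {B : Type u'} [Category.{v'} B] [Preadditive B]
  (F' : ModuleCat.{u} A ⥤ B)

/-- `F'` sends the kernel diagram `ι, f` to a kernel diagram (universal property form). -/
def PresKerOf {K M N : ModuleCat.{u} A} (ι : K ⟶ M) (f : M ⟶ N) : Prop :=
  ∀ (T : B) (t : T ⟶ F'.obj M), t ≫ F'.map f = 0 →
    ∃! t' : T ⟶ F'.obj K, t' ≫ F'.map ι = t

variable {F'}

theorem PresKerOf.of_iso {K K' M N : ModuleCat.{u} A} {f : M ⟶ N} {ι : K ⟶ M} {ι' : K' ⟶ M}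
    (h : PresKerOf F' ι f) (e : K ≅ K') (he : e.hom ≫ ι' = ι) : PresKerOf F' ι' f := by
  intro T t ht
  obtain ⟨t', h1, h2⟩ := h T t ht
  refine ⟨t' ≫ F'.map e.hom, ?_, ?_⟩
  · show (t' ≫ F'.map e.hom) ≫ F'.map ι' = t
    rw [Category.assoc, ← F'.map_comp, he, h1]
  · intro y hy
    have : y ≫ F'.map e.inv = t' := h2 _ (by
      show (y ≫ F'.map e.inv) ≫ F'.map ι = t
      rw [Category.assoc, ← F'.map_comp, ← he, Iso.inv_hom_id_assoc, hy])
    rw [← this, Category.assoc, ← F'.map_comp, Iso.inv_hom_id, F'.map_id, Category.comp_id]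

theorem PresKerOf.of_isLimit {K K' M N : ModuleCat.{u} A} {f : M ⟶ N} {ι : K ⟶ M}
    {ι' : K' ⟶ M} (h : PresKerOf F' ι f) (w : ι ≫ f = 0) (w' : ι' ≫ f = 0)
    (hc : IsLimit (KernelFork.ofι ι w)) (hc' : IsLimit (KernelFork.ofι ι' w')) :
    PresKerOf F' ι' f := by
  let e := IsLimit.conePointUniqueUpToIso hc hc'
  refine h.of_iso e ?_
  exact IsLimit.conePointUniqueUpToIso_hom_comp hc hc' WalkingParallelPair.zero

theorem PresKerOf.preserves [F'.PreservesZeroMorphisms] {M N : ModuleCat.{u} A} {f : M ⟶ N}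
    (h : PresKerOf F' (kernel.ι f) f) : PreservesLimit (parallelPair f 0) F' := by
  apply preservesLimit_of_preserves_limit_cone (kernelIsKernel f)
  apply (isLimitMapConeForkEquiv' F' (kernel.condition f)).symm _
  exact KernelFork.IsLimit.ofι _ _
    (fun {T} t ht => (h T t ht).choose) (fun {T} t ht => (h T t ht).choose_spec.1)
    (fun {T} t ht m hm => (h T t ht).choose_spec.2 m hm)

section Elements

theorem app_comp {X Y Z : ModuleCat.{u} A} (f : X ⟶ Y) (g : Y ⟶ Z) (x : X) :
    (f ≫ g) x = g (f x) := rfl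

theorem app_congr {X Y : ModuleCat.{u} A} {f g : X ⟶ Y} (h : f = g) (x : X) : f x = g x := by
  rw [h]

theorem kernel_ι_injective {M N : ModuleCat.{u} A} (f : M ⟶ N) :
    Function.Injective (kernel.ι f) :=
  (ModuleCat.mono_iff_injective _).1 inferInstance

theorem exists_kernel_lift {M N : ModuleCat.{u} A} (f : M ⟶ N) (x : M) (hx : f x = 0) :
    ∃ y : (kernel f : ModuleCat.{u} A), kernel.ι f y = x := by
  let x' : LinearMap.ker f.hom := ⟨x, hx⟩
  refine ⟨(ModuleCat.kernelIsoKer f).inv x', ?_⟩
  have := app_congr (ModuleCat.kernelIsoKer_inv_kernel_ι f) x'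
  rw [app_comp] at this
  exact this

end Elements

section Interchange

variable {I : Type u} [SmallCategory I] [IsFiltered I] {D₁ D₂ : I ⥤ ModuleCat.{u} A}
  (α : D₁ ⟶ D₂) {c₁ : Cocone D₁} {c₂ : Cocone D₂} (h₁ : IsColimit c₁) (h₂ : IsColimit c₂)
  (f : c₁.pt ⟶ c₂.pt) (hf : ∀ i, c₁.ι.app i ≫ f = α.app i ≫ c₂.ι.app i)

/-- the diagram of kernels. -/
noncomputable def Kk : I ⥤ ModuleCat.{u} A where
  obj i := kernel (α.app i)
  map {i j} u := kernel.map (α.app i) (α.app j) (D₁.map u) (D₂.map u) (α.naturality u).symm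
  map_id i := by
    apply equalizer.hom_ext
    simp
  map_comp u v := by
    apply equalizer.hom_ext
    simp

/-- the inclusion of the diagram of kernels. -/
noncomputable def kι : Kk α ⟶ D₁ where
  app i := kernel.ι (α.app i)
  naturality := by
    intro i j u
    simp [Kk]

theorem kι_comp : kι α ≫ α = 0 := by
  ext i : 2
  simp [kι]

include hf in
/-- the cocone of kernels. -/
noncomputable def kK : Cocone (Kk α) where
  pt := kernel f
  ι :=
    { app := fun i => kernel.map (α.app i) f (c₁.ι.app i) (c₂.ι.app i) (hf i).symm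
      naturality := by
        intro i j u
        apply equalizer.hom_ext
        simp [Kk] }

include h₁ h₂ in
theorem isColimit_kK : Nonempty (IsColimit (kK α f hf)) := by
  obtain ⟨hs₁, hi₁⟩ := Groth.Agent.H82.FiltColim.rep_of_isColimit h₁
  obtain ⟨hs₂, hi₂⟩ := Groth.Agent.H82.FiltColim.rep_of_isColimit h₂
  have eι : ∀ i, (kK α f hf).ι.app i ≫ kernel.ι f = kernel.ι (α.app i) ≫ c₁.ι.app i := by
    intro i
    simp [kK]
  apply Groth.Agent.H82.FiltColim.nonempty_isColimit_of_rep
  · intro x
    obtain ⟨i, y, hy⟩ := hs₁ (kernel.ι f x)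
    have h0 : c₂.ι.app i (α.app i y) = 0 := by
      have e1 : f (c₁.ι.app i y) = c₂.ι.app i (α.app i y) := app_congr (hf i) y
      have e2 : f (kernel.ι f x) = 0 := by
        have := app_congr (kernel.condition f) x
        exact this
      exact e1.symm.trans ((congrArg (fun t => f t) hy).trans e2)
    obtain ⟨k, u, hu⟩ := hi₂ i (α.app i y) h0
    have h1 : α.app k (D₁.map u y) = 0 := by
      have e1 : α.app k (D₁.map u y) = D₂.map u (α.app i y) := app_congr (α.naturality u) y
      exact e1.trans hu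
    obtain ⟨z, hz⟩ := exists_kernel_lift (α.app k) (D₁.map u y) h1
    refine ⟨k, z, ?_⟩
    apply kernel_ι_injective f
    have e3 : kernel.ι f ((kK α f hf).ι.app k z) = c₁.ι.app k (kernel.ι (α.app k) z) :=
      app_congr (eι k) z
    have e4 : c₁.ι.app k (D₁.map u y) = c₁.ι.app i y := app_congr (c₁.w u) y
    exact e3.trans ((congrArg (fun t => c₁.ι.app k t) hz).trans (e4.trans hy))
  · intro i z hz
    have h0 : c₁.ι.app i (kernel.ι (α.app i) z) = 0 := by
      have e3 : kernel.ι f ((kK α f hf).ι.app i z) = c₁.ι.app i (kernel.ι (α.app i) z) :=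
        app_congr (eι i) z
      exact e3.symm.trans ((congrArg (fun t => kernel.ι f t) hz).trans (map_zero _))
    obtain ⟨k, u, hu⟩ := hi₁ i _ h0
    refine ⟨k, u, ?_⟩
    apply kernel_ι_injective (α.app k)
    have e : (Kk α).map u ≫ kernel.ι (α.app k) = kernel.ι (α.app i) ≫ D₁.map u := by
      simp [Kk]
    have e5 : kernel.ι (α.app k) ((Kk α).map u z) = D₁.map u (kernel.ι (α.app i) z) :=
      app_congr e z
    exact e5.trans (hu.trans (map_zero _).symm)

include h₁ h₂ hf in
theorem presKerOf_colim [PreservesFilteredColimitsOfSize.{u, u} F'] [F'.PreservesZeroMorphisms]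
    [HasColimitsOfShape I B]
    [PreservesLimitsOfShape WalkingParallelPair (colim : (I ⥤ B) ⥤ B)]
    (hα : ∀ i, PresKerOf F' (kernel.ι (α.app i)) (α.app i)) :
    PresKerOf F' (kernel.ι f) f := by
  obtain ⟨hK⟩ := isColimit_kK α h₁ h₂ f hf
  have : PreservesColimitsOfShape I F' :=
    PreservesFilteredColimitsOfSize.preserves_filtered_colimits I
  have H := isColimitOfPreserves F' hK
  have H₂ := isColimitOfPreserves F' h₂
  have H₁ := isColimitOfPreserves F' h₁
  refine kernel_colim (Functor.whiskerRight (kι α) F') (Functor.whiskerRight α F') ?_ ?_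
    H H₁ H₂ (F'.map (kernel.ι f)) (F'.map f) ?_ ?_
  · rw [← Functor.whiskerRight_comp, kι_comp]
    ext i : 2
    simp
  · intro i T t ht
    exact hα i T t ht
  · intro i
    show F'.map ((kK α f hf).ι.app i) ≫ F'.map (kernel.ι f) =
      F'.map (kernel.ι (α.app i)) ≫ F'.map (c₁.ι.app i)
    rw [← F'.map_comp, ← F'.map_comp]
    congr 1
    simp [kK]
  · intro i
    show F'.map (c₁.ι.app i) ≫ F'.map f = F'.map (α.app i) ≫ F'.map (c₂.ι.app i)
    rw [← F'.map_comp, ← F'.map_comp, hf i]

end Interchange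

section Coherent

/-- over a coherent ring, the kernel of a map between finitely presented modules is finitely
presented. -/
theorem fp_ker (hcoh : ∀ I : Ideal A, I.FG → Module.FinitePresentation A I)
    {P Q : Type u} [AddCommGroup P] [Module A P] [AddCommGroup Q] [Module A Q]
    [Module.FinitePresentation A P] [Module.FinitePresentation A Q] (f : P →ₗ[A] Q) :
    Module.FinitePresentation A (LinearMap.ker f) := by
  have hA : Groth.Agent.H32.IsCoh A A := ⟨inferInstance, fun N hN => hcoh N hN⟩
  have hP := Groth.Agent.H32.isCoh_of_finitePresentation hA P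
  have hQ := Groth.Agent.H32.isCoh_of_finitePresentation hA Q
  have hr : (LinearMap.range f).FG := by
    rw [LinearMap.range_eq_map]
    exact Module.Finite.fg_top.map f
  haveI : Module.FinitePresentation A (LinearMap.range f) := hQ.2 _ hr
  have hk : (LinearMap.ker f).FG := by
    have h := Module.FinitePresentation.fg_ker f.rangeRestrict f.surjective_rangeRestrict
    rwa [LinearMap.ker_rangeRestrict] at h
  exact hP.2 _ hk

end Coherent

section Main

variable [HasFiniteBiproducts B] [HasFilteredColimitsOfSize.{u, u} B]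
  [PreservesFilteredColimitsOfSize.{u, u} F']
  [PreservesFiniteLimits
    (ObjectProperty.ι (fun M : ModuleCat.{u} A => Module.FinitePresentation A M) ⋙ F')]

include F' in
omit [PreservesFilteredColimitsOfSize.{u, u} F'] in
theorem additive_fp : (ObjectProperty.ι (fun M : ModuleCat.{u} A =>
    Module.FinitePresentation A M) ⋙ F').Additive := by
  let G := ObjectProperty.ι (fun M : ModuleCat.{u} A => Module.FinitePresentation A M) ⋙ F'
  haveI : HasZeroObject B := hasZeroObject_of_hasFiniteBiproducts B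
  have : G.PreservesZeroMorphisms := inferInstance
  have := preservesBinaryBiproducts_of_preservesBinaryProducts G
  exact Functor.additive_of_preservesBinaryBiproducts G

variable (hcoh : ∀ I : Ideal A, I.FG → Module.FinitePresentation A I)
  (hcomm : ∀ (J : Type u) [SmallCategory J] [IsFiltered J],
      PreservesLimitsOfShape WalkingParallelPair (colim : (J ⥤ B) ⥤ B))

include F' hcoh in
omit [PreservesFilteredColimitsOfSize.{u, u} F'] in
/-- Step 1: maps between finitely presented modules. -/
theorem presKerOf_fp (P Q : ModuleCat.{u} A) [hP : Module.FinitePresentation A P]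
    [hQ : Module.FinitePresentation A Q] (f : P ⟶ Q) : PresKerOf F' (kernel.ι f) f := by
  let P' : FP A := ⟨P, hP⟩
  let Q' : FP A := ⟨Q, hQ⟩
  let f' : P' ⟶ Q' := ObjectProperty.homMk f
  let G := ObjectProperty.ι (fun M : ModuleCat.{u} A => Module.FinitePresentation A M) ⋙ F'
  have : G.Additive := additive_fp (F' := F')
  have hK : Module.FinitePresentation A (LinearMap.ker f.hom) := fp_ker hcoh f.hom
  let K' : FP A := ⟨ModuleCat.of A (LinearMap.ker f.hom), hK⟩
  let ι₀ : ModuleCat.of A (LinearMap.ker f.hom) ⟶ P :=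
    ModuleCat.ofHom (LinearMap.ker f.hom).subtype
  have w₀ : ι₀ ≫ f = 0 := by
    apply ModuleCat.hom_ext
    ext x
    exact x.2
  let ι' : K' ⟶ P' := ObjectProperty.homMk ι₀
  have w' : ι' ≫ f' = 0 := by
    apply ObjectProperty.hom_ext
    exact w₀
  have hlim : IsLimit (KernelFork.ofι ι' w') :=
    KernelFork.IsLimit.ofι _ _
      (fun {Z} g hg => ObjectProperty.homMk (ModuleCat.ofHom
        (LinearMap.codRestrict (LinearMap.ker f.hom) g.hom.hom (fun x => by
          have := congrArg (fun t => t.hom.hom x) hg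
          exact this))))
      (fun {Z} g hg => by
        apply ObjectProperty.hom_ext
        apply ModuleCat.hom_ext
        ext x
        rfl)
      (fun {Z} g hg m hm => by
        apply ObjectProperty.hom_ext
        apply ModuleCat.hom_ext
        ext x
        have := congrArg (fun t => t.hom.hom x) hm
        exact this)
  have hG : IsLimit (G.mapCone (KernelFork.ofι ι' w')) := isLimitOfPreserves G hlim
  have hG' := (isLimitMapConeForkEquiv' G w') hG
  have h₀ : PresKerOf F' ι₀ f := by
    intro T t ht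
    obtain ⟨l, hl⟩ := Fork.IsLimit.lift' hG' t (by
      show t ≫ F'.map f = t ≫ 0
      rw [comp_zero, ht])
    refine ⟨l, hl, fun y hy => ?_⟩
    apply Fork.IsLimit.hom_ext hG'
    rw [hl]
    exact hy
  have hc₀ : IsLimit (KernelFork.ofι ι₀ w₀) := ModuleCat.kernelIsLimit f
  exact h₀.of_isLimit w₀ (kernel.condition f) hc₀ (kernelIsKernel f)

include F' hcoh hcomm in
/-- Step 2: maps out of a finitely presented module. -/
theorem presKerOf_of_fp [F'.PreservesZeroMorphisms] (P N : ModuleCat.{u} A)
    [hP : Module.FinitePresentation A P]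
    (g : P ⟶ N) : PresKerOf F' (kernel.ι g) g := by
  obtain ⟨K, _, _, E, ι, hfp, ⟨hd⟩⟩ := exists_fp_cocone' N
  obtain ⟨j0, g0, hg0⟩ := exists_factor hd P g
  haveI : IsFiltered (Under j0) := inferInstance
  haveI : IsConnected (Under j0) := IsFiltered.isConnected _
  let D₁ : Under j0 ⥤ ModuleCat.{u} A := (Functor.const (Under j0)).obj P
  let D₂ : Under j0 ⥤ ModuleCat.{u} A := Under.forget j0 ⋙ E
  let α : D₁ ⟶ D₂ :=
    { app := fun u => g0 ≫ E.map u.hom
      naturality := by
        intro u v φ
        simp only [D₁, D₂, Functor.const_obj_obj, Functor.const_obj_map, Category.id_comp,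
          Functor.comp_obj, Functor.comp_map, Under.forget_obj, Under.forget_map, Category.assoc]
        rw [← E.map_comp, Under.w] }
  let c₁ : Cocone D₁ := constCocone (Under j0) P
  have h₁ : IsColimit c₁ := isColimitConstCocone (Under j0) P
  let c₂ : Cocone D₂ := (Cocone.mk N ι).whisker (Under.forget j0)
  have h₂ : IsColimit c₂ := (Functor.Final.isColimitWhiskerEquiv (Under.forget j0) _).symm hd
  have := hcomm (Under j0)
  refine presKerOf_colim (F' := F') α h₁ h₂ g ?_ ?_
  · intro u
    show 𝟙 P ≫ g = (g0 ≫ E.map u.hom) ≫ ι.app u.right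
    rw [Category.id_comp, Category.assoc]
    have := (Cocone.mk N ι).w u.hom
    rw [this]
    exact hg0.symm
  · intro u
    have := hfp u.right
    exact presKerOf_fp hcoh P (E.obj u.right) (g0 ≫ E.map u.hom)

include F' hcoh hcomm in
/-- Step 3: arbitrary maps. -/
theorem presKerOf_all [F'.PreservesZeroMorphisms] (M N : ModuleCat.{u} A) (f : M ⟶ N) :
    PresKerOf F' (kernel.ι f) f := by
  obtain ⟨J, _, _, D, ι, hfp, ⟨hc⟩⟩ := exists_fp_cocone' M
  haveI : IsConnected J := IsFiltered.isConnected _
  let D₂ : J ⥤ ModuleCat.{u} A := (Functor.const J).obj N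
  let α : D ⟶ D₂ :=
    { app := fun j => ι.app j ≫ f
      naturality := by
        intro i j φ
        simp only [D₂, Functor.const_obj_obj, Functor.const_obj_map, Category.comp_id]
        rw [← Category.assoc]
        congr 1
        simp }
  let c₂ : Cocone D₂ := constCocone J N
  have h₂ : IsColimit c₂ := isColimitConstCocone J N
  have := hcomm J
  refine presKerOf_colim (F' := F') α hc h₂ f ?_ ?_
  · intro j
    show ι.app j ≫ f = (ι.app j ≫ f) ≫ 𝟙 N
    rw [Category.comp_id]
  · intro j
    have := hfp j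
    exact presKerOf_of_fp hcoh hcomm (D.obj j) N (ι.app j ≫ f)

include F' hcoh hcomm in
theorem main : F'.Additive ∧ PreservesFiniteLimits F' ∧
      ∀ J : Type u, PreservesColimitsOfShape (Discrete J) F' := by
  have hadd0 : (ObjectProperty.ι (fun M : ModuleCat.{u} A => Module.FinitePresentation A M)
      ⋙ F').Additive := additive_fp (F' := F')
  have hadd : F'.Additive := additive F'
  refine ⟨hadd, ?_, fun J => preservesCoproducts F' J⟩
  haveI : HasZeroObject B := hasZeroObject_of_hasFiniteBiproducts B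
  have : ∀ {M N : ModuleCat.{u} A} (f : M ⟶ N), PreservesLimit (parallelPair f 0) F' :=
    fun f => (presKerOf_all hcoh hcomm _ _ f).preserves
  exact Functor.preservesFiniteLimits_of_preservesKernels F'

end Main

end Groth.Agent.H16.FPExt3
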