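import Mathlib
import Groth.Agent.H16.FPExt

/-!
# Extension of functors from finitely presented modules to all modules
-/

set_option autoImplicit false
set_option linter.unusedSectionVars false
set_option linter.unusedVariables false
set_option linter.style.haveILetI false
set_option backward.isDefEq.respectTransparency false
set_option backward.isDefEq.respectTransparency.types false

universe u v' u'

open CategoryTheory CategoryTheory.Limits

namespace Groth.Agent.H16.FPExt4

open Groth.Agent.H16.FPFun Groth.Agent.H16.FPExt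

variable {A : Type u} [CommRing A]

/-- the inclusion of finitely presented modules. -/
abbrev incl (A : Type u) [CommRing A] : FP A ⥤ ModuleCat.{u} A :=
  ObjectProperty.ι (fun M : ModuleCat.{u} A => Module.FinitePresentation A M)

section Factor

variable {J : Type u} [SmallCategory J] [IsFiltered J] {D : J ⥤ ModuleCat.{u} A} {c : Cocone D}

theorem exists_eq (hc : IsColimit c) (P : ModuleCat.{u} A) [Module.FinitePresentation A P] {j : J}
    (a b : P ⟶ D.obj j) (h : a ≫ c.ι.app j = b ≫ c.ι.app j) :
    ∃ (k : J) (u : j ⟶ k), a ≫ D.map u = b ≫ D.map u := by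
  have := Groth.Agent.H12.ExtColim.preserves_homF P J
  have hh := isColimitOfPreserves (Groth.Agent.H12.ExtColim.homF P) hc
  obtain ⟨-, hb⟩ := Groth.Agent.H82.FiltColim.rep_of_isColimit hh
  obtain ⟨k, u, hu⟩ := hb j (a - b) (by
    show (a - b) ≫ c.ι.app j = 0
    rw [Preadditive.sub_comp, h, sub_self])
  refine ⟨k, u, ?_⟩
  have : (a - b) ≫ D.map u = 0 := hu
  rw [Preadditive.sub_comp, sub_eq_zero] at this
  exact this

theorem exists_eq₂ (hc : IsColimit c) (P : ModuleCat.{u} A) [Module.FinitePresentation A P]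
    {j₁ j₂ : J} (a : P ⟶ D.obj j₁) (b : P ⟶ D.obj j₂)
    (h : a ≫ c.ι.app j₁ = b ≫ c.ι.app j₂) :
    ∃ (k : J) (u : j₁ ⟶ k) (v : j₂ ⟶ k), a ≫ D.map u = b ≫ D.map v := by
  obtain ⟨k, w, hw⟩ := exists_eq hc P (a ≫ D.map (IsFiltered.leftToMax j₁ j₂))
    (b ≫ D.map (IsFiltered.rightToMax j₁ j₂)) (by
      rw [Category.assoc, Category.assoc, c.w, c.w, h])
  refine ⟨k, IsFiltered.leftToMax j₁ j₂ ≫ w, IsFiltered.rightToMax j₁ j₂ ≫ w, ?_⟩
  rw [D.map_comp, D.map_comp, ← Category.assoc, ← Category.assoc, hw]

end Factor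

variable {B : Type u'} [Category.{v'} B]

section Unique

variable (F₁ F₂ : ModuleCat.{u} A ⥤ B) [PreservesFilteredColimitsOfSize.{u, u} F₁]

include F₁ in
theorem jointly_epi (M : ModuleCat.{u} A) {T : B} (ψ ψ' : F₁.obj M ⟶ T)
    (h : ∀ (P : FP A) (a : P.obj ⟶ M), F₁.map a ≫ ψ = F₁.map a ≫ ψ') : ψ = ψ' := by
  obtain ⟨J, _, _, D, ι, hfp, ⟨hc⟩⟩ := exists_fp_cocone' M
  have : PreservesColimitsOfShape J F₁ :=
    PreservesFilteredColimitsOfSize.preserves_filtered_colimits J
  apply (isColimitOfPreserves F₁ hc).hom_ext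
  intro j
  exact h ⟨D.obj j, hfp j⟩ (ι.app j)

variable (θ : incl A ⋙ F₁ ⟶ incl A ⋙ F₂)

theorem exists_ext_app (M : ModuleCat.{u} A) :
    ∃ φ : F₁.obj M ⟶ F₂.obj M, ∀ (P : FP A) (a : P.obj ⟶ M),
      F₁.map a ≫ φ = θ.app P ≫ F₂.map a := by
  obtain ⟨J, _, _, D, ι, hfp, ⟨hc⟩⟩ := exists_fp_cocone' M
  have : PreservesColimitsOfShape J F₁ :=
    PreservesFilteredColimitsOfSize.preserves_filtered_colimits J
  have H := isColimitOfPreserves F₁ hc
  let D' : J → FP A := fun j => ⟨D.obj j, hfp j⟩
  let s : Cocone (D ⋙ F₁) :=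
    { pt := F₂.obj M
      ι :=
        { app := fun j => θ.app (D' j) ≫ F₂.map (ι.app j)
          naturality := by
            intro j k u
            let u' : D' j ⟶ D' k := ObjectProperty.homMk (D.map u)
            have h1 := θ.naturality u'
            have h2 : F₁.map (D.map u) ≫ θ.app (D' k) = θ.app (D' j) ≫ F₂.map (D.map u) := h1
            have h3 : D.map u ≫ ι.app k = ι.app j := by
              simp
            simp only [Functor.comp_obj, Functor.comp_map, Functor.const_obj_obj,
              Functor.const_obj_map, Category.comp_id]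
            rw [← Category.assoc, h2, Category.assoc, ← F₂.map_comp, h3] } }
  refine ⟨H.desc s, ?_⟩
  intro P a
  have := P.property
  obtain ⟨k, a', ha'⟩ := exists_factor hc P.obj a
  have hk : F₁.map (ι.app k) ≫ H.desc s = θ.app (D' k) ≫ F₂.map (ι.app k) := H.fac s k
  let a'' : P ⟶ D' k := ObjectProperty.homMk a'
  have h1 : F₁.map a' ≫ θ.app (D' k) = θ.app P ≫ F₂.map a' := θ.naturality a''
  have e : a = a' ≫ ι.app k := ha'.symm
  rw [e, F₁.map_comp, Category.assoc, hk, ← Category.assoc, h1, Category.assoc, ← F₂.map_comp]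

/-- the extension of a natural transformation. -/
noncomputable def ext : F₁ ⟶ F₂ where
  app M := (exists_ext_app F₁ F₂ θ M).choose
  naturality := by
    intro M N f
    apply jointly_epi F₁ M
    intro P a
    have h1 := (exists_ext_app F₁ F₂ θ M).choose_spec P a
    have h2 := (exists_ext_app F₁ F₂ θ N).choose_spec P (a ≫ f)
    rw [← Category.assoc, ← F₁.map_comp, h2, ← Category.assoc, h1, Category.assoc,
      ← F₂.map_comp]

theorem ext_spec (M : ModuleCat.{u} A) (P : FP A) (a : P.obj ⟶ M) :
    F₁.map a ≫ (ext F₁ F₂ θ).app M = θ.app P ≫ F₂.map a :=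
  (exists_ext_app F₁ F₂ θ M).choose_spec P a

end Unique

theorem unique_ext (F₁ F₂ : ModuleCat.{u} A ⥤ B) [PreservesFilteredColimitsOfSize.{u, u} F₁]
    [PreservesFilteredColimitsOfSize.{u, u} F₂] (e : incl A ⋙ F₁ ≅ incl A ⋙ F₂) :
    Nonempty (F₁ ≅ F₂) := by
  refine ⟨⟨ext F₁ F₂ e.hom, ext F₂ F₁ e.inv, ?_, ?_⟩⟩
  · ext M : 2
    apply jointly_epi F₁ M
    intro P a
    rw [NatTrans.comp_app, ← Category.assoc, ext_spec, Category.assoc, ext_spec,
      ← Category.assoc]
    have : e.hom.app P ≫ e.inv.app P = 𝟙 _ := by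
      rw [← NatTrans.comp_app, e.hom_inv_id]
      rfl
    rw [this]
    exact (Category.id_comp _).trans (Category.comp_id _).symm
  · ext M : 2
    apply jointly_epi F₂ M
    intro P a
    rw [NatTrans.comp_app, ← Category.assoc, ext_spec, Category.assoc, ext_spec,
      ← Category.assoc]
    have : e.inv.app P ≫ e.hom.app P = 𝟙 _ := by
      rw [← NatTrans.comp_app, e.inv_hom_id]
      rfl
    rw [this]
    exact (Category.id_comp _).trans (Category.comp_id _).symm

section Exist

/-- the functor to the costructured arrow category attached to a presentation. -/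
def toCA {J : Type u} [SmallCategory J] {D : J ⥤ ModuleCat.{u} A} {M : ModuleCat.{u} A}
    (ι : D ⟶ (Functor.const J).obj M) (hfp : ∀ j, Module.FinitePresentation A (D.obj j)) :
    J ⥤ CostructuredArrow (incl A) M where
  obj j := CostructuredArrow.mk (Y := (⟨D.obj j, hfp j⟩ : FP A)) (ι.app j)
  map {j k} u := CostructuredArrow.homMk
    (ObjectProperty.homMk (D.map u) : (⟨D.obj j, hfp j⟩ : FP A) ⟶ ⟨D.obj k, hfp k⟩) (by
      show D.map u ≫ ι.app k = ι.app j
      simp)
  map_id j := by
    apply CostructuredArrow.hom_ext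
    apply ObjectProperty.hom_ext
    exact D.map_id j
  map_comp u v := by
    apply CostructuredArrow.hom_ext
    apply ObjectProperty.hom_ext
    exact D.map_comp u v

theorem final_toCA {J : Type u} [SmallCategory J] [IsFiltered J] {D : J ⥤ ModuleCat.{u} A}
    {M : ModuleCat.{u} A} (ι : D ⟶ (Functor.const J).obj M)
    (hfp : ∀ j, Module.FinitePresentation A (D.obj j)) (hc : IsColimit (Cocone.mk M ι)) :
    (toCA ι hfp).Final := by
  apply Functor.final_of_exists_of_isFiltered
  · intro d
    have := d.left.property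
    obtain ⟨j, a', ha'⟩ := exists_factor hc d.left.obj d.hom
    exact ⟨j, ⟨CostructuredArrow.homMk
      (ObjectProperty.homMk a' : d.left ⟶ (⟨D.obj j, hfp j⟩ : FP A)) ha'⟩⟩
  · intro d j s s'
    have := d.left.property
    obtain ⟨k, u, hu⟩ := exists_eq hc d.left.obj s.left.hom s'.left.hom (by
      have h1 := CostructuredArrow.w s
      have h2 := CostructuredArrow.w s'
      exact h1.trans h2.symm)
    refine ⟨k, u, ?_⟩
    apply CostructuredArrow.hom_ext
    apply ObjectProperty.hom_ext
    exact hu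

variable [HasFilteredColimitsOfSize.{u, u} B] (F : FP A ⥤ B)

theorem hasPLKE : (incl A).HasPointwiseLeftKanExtension F := by
  intro M
  obtain ⟨J, _, _, D, ι, hfp, ⟨hc⟩⟩ := exists_fp_cocone' M
  have := final_toCA ι hfp hc
  have : HasColimitsOfShape J B := HasFilteredColimitsOfSize.HasColimitsOfShape J
  exact Functor.Final.hasColimit_of_comp (toCA ι hfp)

omit [HasFilteredColimitsOfSize.{u, u} B] in
theorem preserves_of_pointwise (F' : ModuleCat.{u} A ⥤ B) (η : F ⟶ incl A ⋙ F')
    (hE : (Functor.LeftExtension.mk F' η).IsPointwiseLeftKanExtension) :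
    PreservesFilteredColimitsOfSize.{u, u} F' := by
  refine ⟨fun I _ _ => ⟨fun {K} => ⟨fun {c} hc => ⟨?_⟩⟩⟩⟩
  -- jointly epi for `F' M`
  have jepi : ∀ (M : ModuleCat.{u} A) {T : B} (ψ ψ' : F'.obj M ⟶ T),
      (∀ (P : FP A) (a : P.obj ⟶ M), η.app P ≫ F'.map a ≫ ψ = η.app P ≫ F'.map a ≫ ψ') →
        ψ = ψ' := by
    intro M T ψ ψ' h
    apply (hE M).hom_ext
    intro g
    have := h g.left g.hom
    simp only [Functor.LeftExtension.coconeAt_ι_app, Category.assoc]
    exact this
  apply IsColimit.ofExistsUnique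
  intro s
  have hex : ∀ (P : FP A) (a : P.obj ⟶ c.pt), ∃ t : F.obj P ⟶ s.pt,
      ∀ (i : I) (a' : P.obj ⟶ K.obj i), a' ≫ c.ι.app i = a →
        t = η.app P ≫ F'.map a' ≫ s.ι.app i := by
    intro P a
    have := P.property
    obtain ⟨i, a', ha'⟩ := exists_factor hc P.obj a
    refine ⟨η.app P ≫ F'.map a' ≫ s.ι.app i, ?_⟩
    intro i₂ a₂ ha₂
    obtain ⟨k, u, v, huv⟩ := exists_eq₂ hc P.obj a' a₂ (ha'.trans ha₂.symm)
    have w1 : s.ι.app i = F'.map (K.map u) ≫ s.ι.app k := (s.w u).symm
    have w2 : s.ι.app i₂ = F'.map (K.map v) ≫ s.ι.app k := (s.w v).symm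
    rw [w1, w2, ← F'.map_comp_assoc, ← F'.map_comp_assoc, huv]
  choose t ht using hex
  let s' : Cocone (CostructuredArrow.proj (incl A) c.pt ⋙ F) :=
    { pt := s.pt
      ι :=
        { app := fun g => t g.left g.hom
          naturality := by
            intro g g' φ
            have := g'.left.property
            obtain ⟨i, b', hb'⟩ := exists_factor hc g'.left.obj g'.hom
            have e1 := ht g'.left g'.hom i b' hb'
            have e2 := ht g.left g.hom i (φ.left.hom ≫ b') (by
              rw [Category.assoc, hb']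
              exact CostructuredArrow.w φ)
            have e3 : F.map φ.left ≫ η.app g'.left = η.app g.left ≫ F'.map φ.left.hom :=
              η.naturality φ.left
            simp only [Functor.comp_obj, Functor.comp_map,
              CostructuredArrow.proj_map, Functor.const_obj_obj, Functor.const_obj_map,
              Category.comp_id]
            rw [e1, e2, F'.map_comp, Category.assoc, ← Category.assoc (η.app g.left), ← e3,
              Category.assoc] } }
  have hfac : ∀ (P : FP A) (a : P.obj ⟶ c.pt),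
      η.app P ≫ F'.map a ≫ (hE c.pt).desc s' = t P a := by
    intro P a
    have := (hE c.pt).fac s' (CostructuredArrow.mk a)
    simp only [Functor.LeftExtension.coconeAt_ι_app, Category.assoc] at this
    exact this
  refine ⟨(hE c.pt).desc s', ?_, ?_⟩
  · intro i
    apply jepi (K.obj i)
    intro P a'
    show η.app P ≫ F'.map a' ≫ F'.map (c.ι.app i) ≫ (hE c.pt).desc s' = _
    rw [← F'.map_comp_assoc, hfac, ht P (a' ≫ c.ι.app i) i a' rfl]
  · intro m hm
    apply jepi c.pt
    intro P a
    rw [hfac]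
    have := P.property
    obtain ⟨i, a', ha'⟩ := exists_factor hc P.obj a
    rw [ht P a i a' ha', ← ha', F'.map_comp, Category.assoc]
    have := hm i
    have e : (F'.mapCocone c).ι.app i = F'.map (c.ι.app i) := rfl
    rw [e] at this
    rw [this]

theorem exists_ext : ∃ F' : ModuleCat.{u} A ⥤ B, PreservesFilteredColimitsOfSize.{u, u} F' ∧
    Nonempty (incl A ⋙ F' ≅ F) := by
  have := hasPLKE F
  let F' := (incl A).pointwiseLeftKanExtension F
  let η := (incl A).pointwiseLeftKanExtensionUnit F
  have hE := (incl A).pointwiseLeftKanExtensionIsPointwiseLeftKanExtension F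
  refine ⟨F', preserves_of_pointwise F F' η hE, ?_⟩
  have : IsIso η := hE.isIso_hom
  exact ⟨(asIso η).symm⟩

end Exist

end Groth.Agent.H16.FPExt4
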