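import Mathlib
import Groth.Prelude.Def_FibCat2
import Groth.Prelude.Def_W4stkcategoriessitesFib

/-!
# Factorization of a morphism of fibred categories (helper16)

For `F : 𝒳 ⥤ᵇ 𝒴` we build the category `𝒳'` of triples `(x, y, f : y ⟶ F x)` with `f` over an identity,
and the functors `u : 𝒳 ⥤ 𝒳'`, `v : 𝒳' ⥤ 𝒴`, `w : 𝒳' ⥤ 𝒳`.
-/

set_option autoImplicit false
universe v u
open CategoryTheory CategoryTheory.Functor

namespace Groth.Agent.H16.FibFactor

section Aux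

variable {𝒮 : Type*} [Category 𝒮] {𝒵 : Type*} [Category 𝒵] (q : 𝒵 ⥤ 𝒮)

/-- if `φ ≫ ψ` lifts `f` and `ψ` lifts an identity then `φ` lifts `f` -/
lemma lift_of_comp {a b c : 𝒵} (φ : a ⟶ b) (ψ : b ⟶ c) {R S T : 𝒮} (f : R ⟶ S)
    [q.IsHomLift (𝟙 T) ψ] [q.IsHomLift f (φ ≫ ψ)] : q.IsHomLift f φ := by
  have hS : S = T := by
    rw [← IsHomLift.codomain_eq q f (φ ≫ ψ), IsHomLift.codomain_eq q (𝟙 T) ψ]
  subst hS
  have hb : q.obj b = S := IsHomLift.domain_eq q (𝟙 S) ψ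
  apply IsHomLift.of_fac' q f φ (IsHomLift.domain_eq q f (φ ≫ ψ)) hb
  have h1 := IsHomLift.fac' q f (φ ≫ ψ)
  have h2 := IsHomLift.fac' q (𝟙 S) ψ
  rw [q.map_comp, h2] at h1
  simp only [Category.id_comp] at h1
  rw [← cancel_mono (eqToHom hb), ← cancel_mono (eqToHom (IsHomLift.codomain_eq q (𝟙 S) ψ).symm)]
  simpa using h1

end Aux

variable {C : Type u} [Category.{v} C] {𝒳 𝒴 : BasedCategory.{v, max u v} C} (F : 𝒳 ⥤ᵇ 𝒴)

/-- objects of `𝒳'` -/
structure Obj where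
  x : 𝒳.obj
  y : 𝒴.obj
  f : y ⟶ F.obj x
  hf : 𝒴.p.IsHomLift (𝟙 (𝒳.p.obj x)) f

variable {F}

/-- morphisms of `𝒳'` -/
@[ext]
structure Hom (A B : Obj F) where
  a : A.x ⟶ B.x
  b : A.y ⟶ B.y
  comm : b ≫ B.f = A.f ≫ F.map a

instance : Category (Obj F) where
  Hom := Hom
  id A := ⟨𝟙 _, 𝟙 _, by simp⟩
  comp m n := ⟨m.a ≫ n.a, m.b ≫ n.b, by
    rw [Category.assoc, n.comm, ← Category.assoc, m.comm, Category.assoc, F.map_comp]⟩
  id_comp m := by ext <;> simp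
  comp_id m := by ext <;> simp
  assoc m n k := by ext <;> simp

@[ext]
lemma hom_ext {A B : Obj F} (m n : A ⟶ B) (ha : m.a = n.a) (hb : m.b = n.b) : m = n :=
  Hom.ext ha hb

@[simp] lemma id_a (A : Obj F) : (𝟙 A : A ⟶ A).a = 𝟙 A.x := rfl
@[simp] lemma id_b (A : Obj F) : (𝟙 A : A ⟶ A).b = 𝟙 A.y := rfl
@[simp] lemma comp_a {A B D : Obj F} (m : A ⟶ B) (n : B ⟶ D) : (m ≫ n).a = m.a ≫ n.a := rfl
@[simp] lemma comp_b {A B D : Obj F} (m : A ⟶ B) (n : B ⟶ D) : (m ≫ n).b = m.b ≫ n.b := rfl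

variable (F)

/-- the functor `w : 𝒳' ⥤ 𝒳` -/
@[simps]
def wF : Obj F ⥤ 𝒳.obj where
  obj A := A.x
  map m := m.a

/-- the functor `v : 𝒳' ⥤ 𝒴` -/
@[simps]
def vF : Obj F ⥤ 𝒴.obj where
  obj A := A.y
  map m := m.b

/-- the functor `u : 𝒳 ⥤ 𝒳'` -/
@[simps]
def uF : 𝒳.obj ⥤ Obj F where
  obj x := ⟨x, F.obj x, 𝟙 _, inferInstance⟩
  map a := ⟨a, F.map a, by simp⟩

/-- the structure functor of `𝒳'` -/
abbrev P : Obj F ⥤ C := wF F ⋙ 𝒳.p

variable {F}

lemma obj_y_eq (A : Obj F) : 𝒴.p.obj A.y = 𝒳.p.obj A.x :=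
  haveI := A.hf
  IsHomLift.domain_eq 𝒴.p (𝟙 (𝒳.p.obj A.x)) A.f

instance (A : Obj F) : 𝒴.p.IsHomLift (𝟙 (𝒳.p.obj A.x)) A.f := A.hf

/-- the `𝒴`-component of a morphism lifts whatever the `𝒳`-component lifts -/
lemma lift_b {A B : Obj F} (m : A ⟶ B) {R S : C} (g : R ⟶ S) [𝒳.p.IsHomLift g m.a] :
    𝒴.p.IsHomLift g m.b := by
  have h1 : 𝒴.p.IsHomLift g (F.map m.a) := inferInstance
  have hR : 𝒳.p.obj A.x = R := IsHomLift.domain_eq 𝒳.p g m.a
  have hS : 𝒳.p.obj B.x = S := IsHomLift.codomain_eq 𝒳.p g m.a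
  subst hR
  subst hS
  have h2 : 𝒴.p.IsHomLift g (A.f ≫ F.map m.a) := inferInstance
  rw [← m.comm] at h2
  exact lift_of_comp 𝒴.p m.b B.f g (T := 𝒳.p.obj B.x)

lemma lift_P_iff {A B : Obj F} (m : A ⟶ B) {R S : C} (g : R ⟶ S) :
    (P F).IsHomLift g m ↔ 𝒳.p.IsHomLift g m.a := by
  constructor
  · intro h
    exact IsHomLift.of_fac' 𝒳.p g m.a (IsHomLift.domain_eq (P F) g m)
      (IsHomLift.codomain_eq (P F) g m) (IsHomLift.fac' (P F) g m)
  · intro h
    have h1 := IsHomLift.domain_eq 𝒳.p g m.a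
    have h2 := IsHomLift.codomain_eq 𝒳.p g m.a
    have h3 := IsHomLift.fac' 𝒳.p g m.a
    exact IsHomLift.of_fac' (P F) g m h1 h2 h3

instance lift_a_of_P {A B : Obj F} (m : A ⟶ B) {R S : C} (g : R ⟶ S) [h : (P F).IsHomLift g m] :
    𝒳.p.IsHomLift g m.a := (lift_P_iff m g).mp h

lemma lift_b_of_P {A B : Obj F} (m : A ⟶ B) {R S : C} (g : R ⟶ S) [h : (P F).IsHomLift g m] :
    𝒴.p.IsHomLift g m.b := lift_b m g

/-- smart constructor of objects -/
abbrev Obj.mk' (x : 𝒳.obj) (y : 𝒴.obj) (f : y ⟶ F.obj x) {R : C} (hR : 𝒳.p.obj x = R)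
    [h : 𝒴.p.IsHomLift (𝟙 R) f] : Obj F where
  x := x
  y := y
  f := f
  hf := by subst hR; exact h

section LemmaA

variable (hF : FibCat.PreservesStronglyCartesian F)
include hF

/-- **Lemma A** : a morphism with both components strongly cartesian is strongly cartesian. -/
lemma isStronglyCartesian_of_components {A B : Obj F} (m : A ⟶ B) {R S : C} (g : R ⟶ S)
    [𝒳.p.IsStronglyCartesian g m.a] [𝒴.p.IsStronglyCartesian g m.b] :
    (P F).IsStronglyCartesian g m := by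
  have hFa : 𝒴.p.IsStronglyCartesian g (F.map m.a) := hF g m.a inferInstance
  have hm : (P F).IsHomLift g m := (lift_P_iff m g).mpr inferInstance
  have hR : 𝒳.p.obj A.x = R := IsHomLift.domain_eq 𝒳.p g m.a
  refine { toIsHomLift := hm, universal_property' := ?_ }
  intro A' h m' hm'
  have ha' : 𝒳.p.IsHomLift (h ≫ g) m'.a := inferInstance
  have hb' : 𝒴.p.IsHomLift (h ≫ g) m'.b := lift_b m' _
  let a' : A'.x ⟶ A.x := IsStronglyCartesian.map 𝒳.p g m.a (rfl : h ≫ g = h ≫ g) m'.a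
  let b' : A'.y ⟶ A.y := IsStronglyCartesian.map 𝒴.p g m.b (rfl : h ≫ g = h ≫ g) m'.b
  have ha'l : 𝒳.p.IsHomLift h a' := inferInstance
  have hb'l : 𝒴.p.IsHomLift h b' := inferInstance
  have haf : a' ≫ m.a = m'.a := IsStronglyCartesian.fac _ _ _ _ _
  have hbf : b' ≫ m.b = m'.b := IsStronglyCartesian.fac _ _ _ _ _
  have hAf : 𝒴.p.IsHomLift (𝟙 R) A.f := by subst hR; exact A.hf
  have l1 : 𝒴.p.IsHomLift h (b' ≫ A.f) := IsHomLift.comp_lift_id_right' 𝒴.p h b' R A.f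
  have l2 : 𝒴.p.IsHomLift h (A'.f ≫ F.map a') :=
    IsHomLift.comp_lift_id_left' 𝒴.p (𝒳.p.obj A'.x) A'.f h (F.map a')
  have hcomm : b' ≫ A.f = A'.f ≫ F.map a' := by
    apply IsStronglyCartesian.ext 𝒴.p g (F.map m.a) h
    rw [Category.assoc, ← m.comm, ← Category.assoc, hbf, m'.comm, Category.assoc, ← F.map_comp,
      haf]
  refine ⟨⟨a', b', hcomm⟩, ⟨(lift_P_iff _ h).mpr ha'l, ?_⟩, ?_⟩
  · ext
    · exact haf
    · exact hbf
  · rintro n ⟨hn, hnm⟩
    have hna : 𝒳.p.IsHomLift h n.a := inferInstance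
    have hnb : 𝒴.p.IsHomLift h n.b := lift_b n h
    ext
    · exact IsStronglyCartesian.map_uniq 𝒳.p g m.a rfl m'.a n.a (by rw [← hnm]; rfl)
    · exact IsStronglyCartesian.map_uniq 𝒴.p g m.b rfl m'.b n.b (by rw [← hnm]; rfl)

end LemmaA

section LemmaB

variable [𝒳.p.IsFibered] [𝒴.p.IsFibered] (hF : FibCat.PreservesStronglyCartesian F)
include hF

/-- **Lemma B** : existence of morphisms with strongly cartesian components over a given `g`. -/
lemma exists_lift (B : Obj F) {R : C} (g : R ⟶ 𝒳.p.obj B.x) :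
    ∃ (A : Obj F) (m : A ⟶ B), 𝒳.p.IsStronglyCartesian g m.a ∧ 𝒴.p.IsStronglyCartesian g m.b := by
  let x' : 𝒳.obj := IsPreFibered.pullbackObj (p := 𝒳.p) (rfl : 𝒳.p.obj B.x = 𝒳.p.obj B.x) g
  let φx : x' ⟶ B.x := IsPreFibered.pullbackMap (p := 𝒳.p) rfl g
  have hφx : 𝒳.p.IsStronglyCartesian g φx := inferInstance
  let y' : 𝒴.obj := IsPreFibered.pullbackObj (p := 𝒴.p) (obj_y_eq B) g
  let φy : y' ⟶ B.y := IsPreFibered.pullbackMap (p := 𝒴.p) (obj_y_eq B) g
  have hφy : 𝒴.p.IsStronglyCartesian g φy := inferInstance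
  have hFφ : 𝒴.p.IsStronglyCartesian g (F.map φx) := hF g φx hφx
  have hl : 𝒴.p.IsHomLift g (φy ≫ B.f) := inferInstance
  let f' : y' ⟶ F.obj x' :=
    IsStronglyCartesian.map 𝒴.p g (F.map φx) (Category.id_comp g).symm (φy ≫ B.f)
  have hf'l : 𝒴.p.IsHomLift (𝟙 R) f' := inferInstance
  have hf' : f' ≫ F.map φx = φy ≫ B.f := IsStronglyCartesian.fac _ _ _ _ _
  have hx' : 𝒳.p.obj x' = R := IsPreFibered.pullbackObj_proj _ _
  exact ⟨Obj.mk' x' y' f' hx', ⟨φx, φy, hf'.symm⟩, hφx, hφy⟩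

lemma isFibered_P : (P F).IsFibered := by
  apply IsFibered.of_exists_isStronglyCartesian
  intro B R g
  change R ⟶ 𝒳.p.obj B.x at g
  obtain ⟨A, m, h1, h2⟩ := exists_lift hF B g
  have := h1
  have := h2
  exact ⟨A, m, isStronglyCartesian_of_components hF m g⟩

/-- **Lemma C** : strongly cartesian morphisms of `𝒳'` have strongly cartesian components. -/
lemma components_of_isStronglyCartesian {A B : Obj F} (m : A ⟶ B) {R S : C} (g : R ⟶ S)
    [hm : (P F).IsStronglyCartesian g m] :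
    𝒳.p.IsStronglyCartesian g m.a ∧ 𝒴.p.IsStronglyCartesian g m.b := by
  have hS : 𝒳.p.obj B.x = S := IsHomLift.codomain_eq (P F) g m
  subst hS
  obtain ⟨A₀, m₀, h1, h2⟩ := exists_lift hF B g
  have := h1
  have := h2
  have hm₀ : (P F).IsStronglyCartesian g m₀ := isStronglyCartesian_of_components hF m₀ g
  let e : A ≅ A₀ := IsCartesian.domainUniqueUpToIso (P F) g m₀ m
  have he : e.hom ≫ m₀ = m := IsCartesian.fac (P F) g m₀ m
  have hel : (P F).IsHomLift (𝟙 R) e.hom := inferInstance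
  have hea : 𝒳.p.IsHomLift (𝟙 R) e.hom.a := inferInstance
  have heb : 𝒴.p.IsHomLift (𝟙 R) e.hom.b := lift_b e.hom _
  have hia : IsIso e.hom.a := by
    have : IsIso ((wF F).map e.hom) := inferInstance
    exact this
  have hib : IsIso e.hom.b := by
    have : IsIso ((vF F).map e.hom) := inferInstance
    exact this
  have ha : m.a = e.hom.a ≫ m₀.a := by rw [← he]; rfl
  have hb : m.b = e.hom.b ≫ m₀.b := by rw [← he]; rfl
  have sa : 𝒳.p.IsStronglyCartesian (𝟙 R) e.hom.a := IsStronglyCartesian.of_isIso _ _ _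
  have sb : 𝒴.p.IsStronglyCartesian (𝟙 R) e.hom.b := IsStronglyCartesian.of_isIso _ _ _
  constructor
  · rw [ha]
    have : 𝒳.p.IsStronglyCartesian (𝟙 R ≫ g) (e.hom.a ≫ m₀.a) := inferInstance
    simpa using this
  · rw [hb]
    have : 𝒴.p.IsStronglyCartesian (𝟙 R ≫ g) (e.hom.b ≫ m₀.b) := inferInstance
    simpa using this

end LemmaB

variable (F)

/-- the based category `𝒳'` -/
def X' : BasedCategory.{v, max u v} C where
  obj := Obj F
  category := inferInstance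
  p := P F

/-- `w` as a based functor -/
def wB : X' F ⥤ᵇ 𝒳 where
  toFunctor := wF F
  w := rfl

/-- `u` as a based functor -/
def uB : 𝒳 ⥤ᵇ X' F where
  toFunctor := uF F
  w := rfl

/-- `v` as a based functor -/
def vB : X' F ⥤ᵇ 𝒴 where
  toFunctor := vF F
  w := by
    refine CategoryTheory.Functor.ext (fun (A : Obj F) => obj_y_eq A) (fun (A B : Obj F) (m : A ⟶ B) => ?_)
    have : 𝒴.p.IsHomLift (𝒳.p.map m.a) m.b := lift_b m _
    exact IsHomLift.fac' 𝒴.p (𝒳.p.map m.a) m.b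

lemma comp_uB_vB : BasedFunctor.comp (uB F) (vB F) = F := by
  cases F
  rfl

instance : (uF F).Faithful where
  map_injective h := congrArg Hom.a h

instance : (uF F).Full where
  map_surjective {x x'} m := by
    refine ⟨m.a, ?_⟩
    ext
    · rfl
    · exact ((Category.comp_id _).symm.trans (m.comm.trans (Category.id_comp _))).symm

/-- the adjunction `w ⊣ u` -/
def adj : wF F ⊣ uF F :=
  Adjunction.mkOfHomEquiv
    { homEquiv := fun A x =>
        { toFun := fun a => ⟨a, A.f ≫ F.map a, Category.comp_id _⟩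
          invFun := fun m => m.a
          left_inv := fun a => rfl
          right_inv := fun m => by
            ext
            · rfl
            · exact ((Category.comp_id _).symm.trans m.comm).symm }
      homEquiv_naturality_left_symm := fun m n => rfl
      homEquiv_naturality_right := fun a a' => by
        ext
        · rfl
        · exact (congrArg (fun t => _ ≫ t) (F.map_comp a a')).trans (Category.assoc _ _ _).symm }

section Pres

variable {F}
variable [𝒳.p.IsFibered] [𝒴.p.IsFibered] (hF : FibCat.PreservesStronglyCartesian F)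
include hF

lemma pres_wB : FibCat.PreservesStronglyCartesian (wB F) := by
  intro R S f A B φ h
  exact (components_of_isStronglyCartesian hF (A := A) (B := B) φ f (hm := h)).1

lemma pres_vB : FibCat.PreservesStronglyCartesian (vB F) := by
  intro R S f A B φ h
  exact (components_of_isStronglyCartesian hF (A := A) (B := B) φ f (hm := h)).2

omit [𝒳.p.IsFibered] [𝒴.p.IsFibered] in
lemma pres_uB : FibCat.PreservesStronglyCartesian (uB F) := by
  intro R S f a b φ h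
  have h1 : 𝒳.p.IsStronglyCartesian f ((uF F).map φ).a := h
  have h2 : 𝒴.p.IsStronglyCartesian f ((uF F).map φ).b := hF f φ h
  exact isStronglyCartesian_of_components hF ((uF F).map φ) f

omit [𝒴.p.IsFibered] in
lemma isFibered_vF : (vF F).IsFibered := by
  apply IsFibered.of_exists_isStronglyCartesian
  intro B R β
  change R ⟶ B.y at β
  -- the base morphism
  let g' : 𝒴.p.obj R ⟶ 𝒳.p.obj B.x := 𝒴.p.map β ≫ eqToHom (obj_y_eq B)
  let x' : 𝒳.obj := IsPreFibered.pullbackObj (p := 𝒳.p) (rfl : 𝒳.p.obj B.x = 𝒳.p.obj B.x) g'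
  let φx : x' ⟶ B.x := IsPreFibered.pullbackMap (p := 𝒳.p) rfl g'
  have hφx : 𝒳.p.IsStronglyCartesian g' φx := inferInstance
  have hFφ : 𝒴.p.IsStronglyCartesian g' (F.map φx) := hF g' φx hφx
  have hβ : 𝒴.p.IsHomLift g' β := inferInstance
  have hl : 𝒴.p.IsHomLift g' (β ≫ B.f) := inferInstance
  let f' : R ⟶ F.obj x' :=
    IsStronglyCartesian.map 𝒴.p g' (F.map φx) (Category.id_comp g').symm (β ≫ B.f)
  have hf'l : 𝒴.p.IsHomLift (𝟙 (𝒴.p.obj R)) f' := inferInstance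
  have hf' : f' ≫ F.map φx = β ≫ B.f := IsStronglyCartesian.fac _ _ _ _ _
  have hx' : 𝒳.p.obj x' = 𝒴.p.obj R := IsPreFibered.pullbackObj_proj _ _
  let A : Obj F := Obj.mk' x' R f' hx'
  let m : A ⟶ B := ⟨φx, β, hf'.symm⟩
  refine ⟨A, m, ?_⟩
  have hm : (vF F).IsHomLift β m := IsHomLift.map (vF F) m
  refine { toIsHomLift := hm, universal_property' := ?_ }
  intro A'' γ m'' hm''
  change A''.y ⟶ R at γ
  have hb'' : γ ≫ β = m''.b := IsHomLift.eq_of_isHomLift (vF F) (γ ≫ β) m''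
  -- the base morphism of the factorization
  let h : 𝒳.p.obj A''.x ⟶ 𝒴.p.obj R := eqToHom (obj_y_eq A'').symm ≫ 𝒴.p.map γ
  have hk : 𝒳.p.map m''.a = h ≫ g' := by
    have h0 : 𝒴.p.IsHomLift (𝒳.p.map m''.a) m''.b := lift_b m'' _
    have : 𝒴.p.IsHomLift (𝒳.p.map m''.a) (γ ≫ β) := by rw [hb'']; exact h0
    have e := IsHomLift.fac 𝒴.p (𝒳.p.map m''.a) (γ ≫ β)
    rw [e]
    simp only [h, g', Category.assoc, Functor.map_comp]
  have hγ : 𝒴.p.IsHomLift h γ := inferInstance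
  let a' : A''.x ⟶ x' := IsStronglyCartesian.map 𝒳.p g' φx hk m''.a
  have ha'l : 𝒳.p.IsHomLift h a' := inferInstance
  have haf : a' ≫ φx = m''.a := IsStronglyCartesian.fac _ _ _ _ _
  have l1 : 𝒴.p.IsHomLift h (γ ≫ f') := inferInstance
  have l2 : 𝒴.p.IsHomLift h (A''.f ≫ F.map a') := inferInstance
  have hcomm : γ ≫ f' = A''.f ≫ F.map a' := by
    apply IsStronglyCartesian.ext 𝒴.p g' (F.map φx) h
    rw [Category.assoc, hf', ← Category.assoc, hb'', m''.comm, Category.assoc, ← F.map_comp, haf]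
  let n : A'' ⟶ A := ⟨a', γ, hcomm⟩
  refine ⟨n, ⟨IsHomLift.map (vF F) n, ?_⟩, ?_⟩
  · ext
    · exact haf
    · exact hb''
  · rintro n' ⟨hn', hn'm⟩
    have hb' : γ = n'.b := @IsHomLift.eq_of_isHomLift _ _ _ _ (vF F) A'' A γ n' hn'
    have hn'b : 𝒴.p.IsHomLift (𝒳.p.map n'.a) n'.b := lift_b n' _
    have hn'a : 𝒳.p.IsHomLift h (n'.a : A''.x ⟶ x') := by
      apply IsHomLift.of_fac' 𝒳.p h n'.a rfl hx'
      have : 𝒴.p.IsHomLift (𝒳.p.map n'.a) γ := by rw [hb']; exact hn'b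
      have e := IsHomLift.fac 𝒴.p (𝒳.p.map n'.a) γ
      rw [e]
      simp [h]
    ext
    · exact IsStronglyCartesian.map_uniq 𝒳.p g' φx hk m''.a (n'.a : A''.x ⟶ x')
        (by rw [← hn'm]; rfl)
    · exact hb'.symm

end Pres

end Groth.Agent.H16.FibFactor
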