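import Groth.Agent.H86.FrobSL
import Mathlib.FieldTheory.IsSepClosed
import Mathlib.RingTheory.Artinian.Module
import Mathlib.LinearAlgebra.Projection
import Mathlib.LinearAlgebra.Basis.VectorSpace
import Mathlib.Tactic.Abel
import Mathlib.LinearAlgebra.Dimension.OrzechProperty

/-!
# Frobenius-semilinear maps over a separably closed field (helper16)

Adaptation of helper86's `H86/FrobSL*` (algebraically closed case) to separably closed fields.
-/

namespace Groth.Agent.H16.FrobSep

open Polynomial Groth.Agent.H86.FrobSL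

universe u v

section Poly
variable {k : Type u} [Field k]

lemma exists_root_ne_zero_sep [IsSepClosed k] {q : ℕ} (hq : 2 ≤ q) (hqk : (q : k) = 0)
    (R : k[X]) (hR : R ≠ 0) (hX : X ∣ R) : ∃ z : k, z ≠ 0 ∧ (R.eval z) ^ q = z := by
  classical
  set G : k[X] := R ^ q - X with hG
  have hRdeg : 1 ≤ R.natDegree := by
    obtain ⟨S, rfl⟩ := hX
    have hS : S ≠ 0 := by rintro rfl; simp at hR
    rw [natDegree_X_mul hS]; omega
  have hdegpow : (R ^ q).natDegree = q * R.natDegree := natDegree_pow R q
  have hlt : (X : k[X]).natDegree < (R ^ q).natDegree := by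
    rw [natDegree_X, hdegpow]; nlinarith
  have hGdeg : G.natDegree = q * R.natDegree := by
    rw [hG, natDegree_sub_eq_left_of_natDegree_lt hlt, hdegpow]
  have hGdeg2 : 2 ≤ G.natDegree := by rw [hGdeg]; nlinarith
  have hder : derivative G = -1 := by
    rw [hG, derivative_sub, derivative_X, derivative_pow, hqk, map_zero, zero_mul, zero_mul,
      zero_sub]
  have hsep : G.Separable := by
    rw [separable_def, hder]
    exact isCoprime_one_right.neg_right
  have hsplit : G.Splits := IsSepClosed.splits_of_separable G hsep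
  have hcard : G.roots.card = G.natDegree := hsplit.natDegree_eq_card_roots.symm
  have hnodup : G.roots.Nodup := nodup_roots hsep
  have hfin : 1 < G.roots.toFinset.card := by
    rw [Multiset.toFinset_card_of_nodup hnodup, hcard]; omega
  obtain ⟨z, hz, hz0⟩ := Finset.exists_mem_ne hfin 0
  refine ⟨z, hz0, ?_⟩
  have hG0 : G ≠ 0 := by
    intro h0; rw [h0, derivative_zero] at hder
    exact (by norm_num : (0 : k[X]) ≠ -1) hder
  have := (mem_roots hG0).mp (Multiset.mem_toFinset.mp hz)
  rw [IsRoot, hG, eval_sub, eval_pow, eval_X, sub_eq_zero] at this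
  exact this


lemma exists_AS_sep [IsSepClosed k] {q : ℕ} (hq : 2 ≤ q) (hqk : (q : k) = 0) (c : k) :
    ∃ b : k, b - b ^ q = c := by
  have hdeg : (X ^ q - (X - C c) : k[X]).degree = q := by
    rw [degree_sub_eq_left_of_degree_lt, degree_X_pow]
    rw [degree_X_sub_C, degree_X_pow]
    exact_mod_cast (by omega : 1 < q)
  have hder : derivative (X ^ q - (X - C c) : k[X]) = -1 := by
    rw [derivative_sub, derivative_sub, derivative_X, derivative_C, derivative_X_pow, hqk, map_zero,
      zero_mul, sub_zero, zero_sub]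
  have hsep : (X ^ q - (X - C c) : k[X]).Separable := by
    rw [separable_def, hder]
    exact isCoprime_one_right.neg_right
  obtain ⟨b, hb⟩ := IsSepClosed.exists_root (X ^ q - (X - C c) : k[X]) (by
    rw [hdeg]; exact_mod_cast (by omega : q ≠ 0)) hsep
  refine ⟨b, ?_⟩
  rw [IsRoot, eval_sub, eval_pow, eval_X, eval_sub, eval_X, eval_C] at hb
  linear_combination -hb

end Poly

section FixedVector

variable {k : Type u} [Field k] [IsSepClosed k] {V : Type v} [AddCommGroup V] [Module k V]

theorem exists_fixed_ne_zero_sep [FiniteDimensional k V] {q : ℕ} (hq : 2 ≤ q) (hqk : (q : k) = 0)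
    (φ : V →+ V) (hφ : ∀ (a : k) (v : V), φ (a • v) = a ^ q • φ v)
    (hinj : Function.Injective φ) (v : V) (hv : v ≠ 0) : ∃ w : V, w ≠ 0 ∧ φ w = w := by
  classical
  -- the minimal dependent length
  let P : ℕ → Prop := fun n => ¬ LinearIndependent k (fun i : Fin (n + 1) => (⇑φ)^[(i : ℕ)] v)
  have hex : ∃ n, P n := by
    refine ⟨Module.finrank k V, fun hli => ?_⟩
    have := hli.fintype_card_le_finrank
    simp at this
  have hP0 : ¬ P 0 := by
    intro h
    apply h
    have : (fun i : Fin 1 => (⇑φ)^[(i : ℕ)] v) = fun _ => v := by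
      funext i; fin_cases i; rfl
    rw [this]
    haveI : Subsingleton (Fin (0 + 1)) := (inferInstance : Subsingleton (Fin 1))
    exact LinearIndependent.of_subsingleton (0 : Fin (0 + 1)) hv
  have hn0 : Nat.find hex ≠ 0 := fun h => hP0 (h ▸ Nat.find_spec hex)
  obtain ⟨m, hm⟩ := Nat.exists_eq_succ_of_ne_zero hn0
  have hind : LinearIndependent k (fun i : Fin (m + 1) => (⇑φ)^[(i : ℕ)] v) := by
    have := Nat.find_min hex (m := m) (by omega)
    exact not_not.mp this
  have hdep : ¬ LinearIndependent k (fun i : Fin (m + 2) => (⇑φ)^[(i : ℕ)] v) := by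
    have := Nat.find_spec hex
    rw [hm] at this
    exact this
  have hmem : (⇑φ)^[m + 1] v ∈ Submodule.span k (Set.range fun i : Fin (m + 1) => (⇑φ)^[(i : ℕ)] v) := by
    by_contra hnot
    apply hdep
    have hinit : Fin.init (fun i : Fin (m + 2) => (⇑φ)^[(i : ℕ)] v) =
        fun i : Fin (m + 1) => (⇑φ)^[(i : ℕ)] v := by
      funext i; simp [Fin.init]
    rw [linearIndependent_finSucc', hinit]
    exact ⟨hind, by simpa using hnot⟩
  obtain ⟨c, hc⟩ := (Submodule.mem_span_range_iff_exists_fun k).mp hmem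
  let a : ℕ → k := fun i => if h : i < m + 1 then c ⟨i, h⟩ else 0
  have hsum : ∑ i ∈ Finset.range (m + 1), a i • (⇑φ)^[i] v = (⇑φ)^[m + 1] v := by
    rw [← hc, ← Fin.sum_univ_eq_sum_range (fun i => a i • (⇑φ)^[i] v) (m + 1)]
    refine Finset.sum_congr rfl fun i _ => ?_
    show (if h : (i : ℕ) < m + 1 then c ⟨i, h⟩ else 0) • _ = c i • _
    rw [dif_pos i.2]
  -- `R m ≠ 0`
  have hRm : auxR q a m ≠ 0 := by
    intro h0
    have ha := auxR_eq_zero hq a m h0
    have : (⇑φ)^[m + 1] v = 0 := by
      rw [← hsum]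
      refine Finset.sum_eq_zero fun i hi => ?_
      rw [ha i (by have := Finset.mem_range.mp hi; omega), zero_smul]
    have hinj' := hinj.iterate (m + 1)
    exact hv (hinj' (this.trans (iterate_zero φ (m + 1)).symm))
  obtain ⟨z, hz0, hz⟩ := exists_root_ne_zero_sep hq hqk (auxR q a m) hRm (X_dvd_auxR (by omega) a m)
  let x : ℕ → k := fun i => (auxR q a i).eval z
  have hx0 : x 0 = a 0 * z := eval_auxR_zero q a z
  have hxs : ∀ i, x (i + 1) = (x i) ^ q + a (i + 1) * z := fun i => eval_auxR_succ q a i z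
  have hxm : (x m) ^ q = z := hz
  refine ⟨∑ i ∈ Finset.range (m + 1), x i • (⇑φ)^[i] v, ?_, ?_⟩
  · intro hw0
    have h1 : ∑ i : Fin (m + 1), x i • (⇑φ)^[(i : ℕ)] v = 0 := by
      rw [Fin.sum_univ_eq_sum_range (fun i => x i • (⇑φ)^[i] v) (m + 1)]; exact hw0
    have h2 := Fintype.linearIndependent_iff.mp hind (fun i => x i) h1 ⟨m, by omega⟩
    apply hz0
    rw [← hxm]
    have h3 : x m = 0 := h2
    rw [h3, zero_pow (by omega)]
  · rw [map_sum_smul φ hφ]
    have e1 : ∑ i ∈ Finset.range (m + 1), (x i) ^ q • φ ((⇑φ)^[i] v) =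
        ∑ i ∈ Finset.range m, (x i) ^ q • (⇑φ)^[i + 1] v + z • ∑ i ∈ Finset.range (m + 1), a i • (⇑φ)^[i] v := by
      rw [Finset.sum_range_succ, hxm, hsum, Function.iterate_succ_apply']
      congr 1
      refine Finset.sum_congr rfl fun i _ => ?_
      rw [Function.iterate_succ_apply']
    have e2 : ∑ i ∈ Finset.range (m + 1), x i • (⇑φ)^[i] v =
        ∑ i ∈ Finset.range m, (x i) ^ q • (⇑φ)^[i + 1] v + z • ∑ i ∈ Finset.range (m + 1), a i • (⇑φ)^[i] v := by
      rw [Finset.sum_range_succ' (fun i => x i • (⇑φ)^[i] v), Finset.sum_range_succ' (fun i => a i • (⇑φ)^[i] v),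
        smul_add, Finset.smul_sum, hx0, ← add_assoc, ← Finset.sum_add_distrib]
      congr 1
      · refine Finset.sum_congr rfl fun i _ => ?_
        rw [hxs, add_smul, smul_smul, mul_comm z]
      · rw [smul_smul, mul_comm z]
    rw [e1, e2]


end FixedVector

section Span

variable {k : Type u} [Field k] {V : Type v} [AddCommGroup V] [Module k V]
variable {q : ℕ} (φ : V →+ V) (hφ : ∀ (a : k) (v : V), φ (a • v) = a ^ q • φ v)

include hφ in
/-- a `q`-semilinear endomorphism whose image spans is injective -/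
theorem injective_of_span_range [FiniteDimensional k V] (hq : 0 < q)
    (hspan : Submodule.span k (Set.range φ) = ⊤) : Function.Injective φ := by
  classical
  let b := Module.finBasis k V
  let w : Fin (Module.finrank k V) → V := fun i => φ (b i)
  have hφsum : ∀ u : V, φ u = ∑ i, (b.repr u i) ^ q • w i := by
    intro u
    conv_lhs => rw [← b.sum_repr u]
    exact map_sum_smul φ hφ _ _ _
  have hspan' : ⊤ ≤ Submodule.span k (Set.range w) := by
    rw [← hspan, Submodule.span_le]
    rintro _ ⟨u, rfl⟩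
    rw [hφsum]
    exact Submodule.sum_mem _ fun i _ =>
      Submodule.smul_mem _ _ (Submodule.subset_span ⟨i, rfl⟩)
  have hli : LinearIndependent k w :=
    linearIndependent_of_top_le_span_of_card_eq_finrank hspan' (Fintype.card_fin _)
  rw [injective_iff_map_eq_zero]
  intro u hu
  have h0 : ∑ i, (b.repr u i) ^ q • w i = ∑ i, (0 : k) • w i := by
    rw [← hφsum, hu]; simp
  have hc : ∀ i, b.repr u i = 0 := fun i => by
    have := hli.eq_coords_of_eq (f := fun i => (b.repr u i) ^ q) (g := fun _ => (0 : k)) h0 i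
    exact pow_eq_zero_iff hq.ne' |>.mp this
  rw [← b.sum_repr u]
  exact Finset.sum_eq_zero fun i _ => by rw [hc i, zero_smul]

include hφ in
lemma map_mem_span_fixed : ∀ c ∈ Submodule.span k {v : V | φ v = v},
    φ c ∈ Submodule.span k {v : V | φ v = v} := by
  intro c hc
  induction hc using Submodule.span_induction with
  | mem w hw =>
    have hw' : φ w = w := hw
    rw [hw']
    exact Submodule.subset_span hw
  | zero => rw [map_zero]; exact Submodule.zero_mem _
  | add x y _ _ hx hy => rw [map_add]; exact Submodule.add_mem _ hx hy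
  | smul r x _ hx => rw [hφ]; exact Submodule.smul_mem _ _ hx

include hφ in
lemma span_fixed_AS_sep [IsSepClosed k] (hq : 2 ≤ q) (hqk : (q : k) = 0) :
    ∀ c ∈ Submodule.span k {v : V | φ v = v}, ∀ a : k,
      ∃ u ∈ Submodule.span k {v : V | φ v = v}, u - φ u = a • c := by
  intro c hc
  induction hc using Submodule.span_induction with
  | mem w hw =>
    intro a
    obtain ⟨b, hb⟩ := exists_AS_sep hq hqk a
    refine ⟨b • w, Submodule.smul_mem _ b (Submodule.subset_span hw), ?_⟩
    have hw' : φ w = w := hw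
    rw [hφ, hw', ← sub_smul, hb]
  | zero => intro a; exact ⟨0, Submodule.zero_mem _, by simp⟩
  | add x y _ _ hx hy =>
    intro a
    obtain ⟨u, hu, hu'⟩ := hx a
    obtain ⟨u2, hu2, hu2'⟩ := hy a
    refine ⟨u + u2, Submodule.add_mem _ hu hu2, ?_⟩
    rw [map_add, smul_add, ← hu', ← hu2']; abel
  | smul r x _ hx =>
    intro a
    obtain ⟨u, hu, hu'⟩ := hx (a * r)
    exact ⟨u, hu, by rw [hu', mul_smul]⟩

include hφ in
/-- if the image of `φ` spans `V`, the fixed vectors span `V` (separably closed field) -/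
theorem span_fixed_eq_top_sep [IsSepClosed k] [FiniteDimensional k V] (hq : 2 ≤ q)
    (hqk : (q : k) = 0) (hspan : Submodule.span k (Set.range φ) = ⊤) :
    Submodule.span k {v : V | φ v = v} = ⊤ := by
  classical
  set U := Submodule.span k {v : V | φ v = v} with hU
  have U1 := span_fixed_AS_sep φ hφ hq hqk
  have Ustab := map_mem_span_fixed φ hφ
  by_contra hne
  obtain ⟨U', hc⟩ := Submodule.exists_isCompl U
  have hU'ne : U' ≠ ⊥ := by
    intro h
    rw [h] at hc
    exact hne (eq_top_of_isCompl_bot hc)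
  let π : V →ₗ[k] U' := Submodule.projectionOnto U' U hc.symm
  have hπker : ∀ y : V, π y = 0 → y ∈ U := by
    intro y hy
    exact (Submodule.projectionOnto_apply_eq_zero_iff hc.symm).mp hy
  have hπU : ∀ y : V, y ∈ U → π y = 0 := by
    intro y hy
    exact (Submodule.projectionOnto_apply_eq_zero_iff hc.symm).mpr hy
  let ψ : U' →+ U' := π.toAddMonoidHom.comp (φ.comp U'.subtype.toAddMonoidHom)
  have hψapp : ∀ x : U', ψ x = π (φ (x : V)) := fun x => rfl
  have hψ : ∀ (a : k) (x : U'), ψ (a • x) = a ^ q • ψ x := by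
    intro a x
    rw [hψapp, hψapp, Submodule.coe_smul, hφ, map_smul]
  have hdisj : ∀ y : V, y ∈ U → y ∈ U' → y = 0 := by
    intro y h1 h2
    have : y ∈ U ⊓ U' := ⟨h1, h2⟩
    rw [hc.inf_eq_bot] at this
    exact (Submodule.mem_bot k).mp this
  -- `π ∘ φ` factors through `ψ ∘ π`
  have hπφ : ∀ v : V, π (φ v) = ψ (π v) := by
    intro v
    have h1 : v - (π v : V) ∈ U := by
      apply hπker
      rw [map_sub, Submodule.projectionOnto_apply_left, sub_self]
    have h2 : φ v = φ (v - (π v : V)) + φ (π v : V) := by rw [← map_add, sub_add_cancel]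
    rw [h2, map_add, hπU _ (Ustab _ h1), zero_add, hψapp]
  have hψspan : Submodule.span k (Set.range ψ) = ⊤ := by
    rw [eq_top_iff]
    intro y _
    have hy : (y : V) ∈ Submodule.span k (Set.range φ) := by rw [hspan]; trivial
    have h1 : π (y : V) ∈ Submodule.map π (Submodule.span k (Set.range φ)) :=
      Submodule.mem_map_of_mem hy
    rw [Submodule.map_span, Submodule.projectionOnto_apply_left] at h1
    refine Submodule.span_mono ?_ h1
    rintro _ ⟨_, ⟨v, rfl⟩, rfl⟩
    exact ⟨π v, (hπφ v).symm⟩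
  have hψinj : Function.Injective ψ := injective_of_span_range ψ hψ (by omega) hψspan
  obtain ⟨x0, hx0mem, hx0⟩ := Submodule.exists_mem_ne_zero_of_ne_bot hU'ne
  have hx0' : (⟨x0, hx0mem⟩ : U') ≠ 0 := fun h => hx0 (congrArg Subtype.val h)
  obtain ⟨x, hxne, hxfix⟩ := exists_fixed_ne_zero_sep hq hqk ψ hψ hψinj _ hx0'
  have h2 : φ (x : V) - x ∈ U := by
    apply hπker
    rw [map_sub, Submodule.projectionOnto_apply_left, ← hψapp, hxfix, sub_self]
  obtain ⟨u, hu, hu'⟩ := U1 _ h2 1
  rw [one_smul] at hu'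
  have h3 : φ ((x : V) + u) = (x : V) + u := by
    have e : φ u = u - (φ (x : V) - x) := by rw [← hu']; abel
    rw [map_add, e]; abel
  have h4 : (x : V) + u ∈ U := Submodule.subset_span h3
  have h5 : (x : V) ∈ U := by
    have := Submodule.sub_mem _ h4 hu
    simpa using this
  exact hxne (Subtype.ext (hdisj _ h5 x.2))

include hφ in
/-- Existence of a basis of fixed vectors when the image of `φ` spans. -/
theorem exists_basis_fixed_sep [IsSepClosed k] [FiniteDimensional k V] (hq : 2 ≤ q)
    (hqk : (q : k) = 0) (hspan : Submodule.span k (Set.range φ) = ⊤) :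
    ∃ (b : Set V) (B : Module.Basis b k V), (∀ i : b, B i = (i : V)) ∧ ∀ i : b, φ (i : V) = i := by
  obtain ⟨b, hbs, hspan', hli⟩ := exists_linearIndependent k {v : V | φ v = v}
  have htop : ⊤ ≤ Submodule.span k (Set.range ((↑) : b → V)) := by
    rw [Subtype.range_coe, hspan', span_fixed_eq_top_sep φ hφ hq hqk hspan]
  refine ⟨b, Module.Basis.mk hli htop, fun i => by simp, fun i => hbs i.2⟩

include hφ in
/-- a basis of fixed vectors indexed by `Fin (finrank)` -/
theorem exists_finBasis_fixed_sep [IsSepClosed k] [FiniteDimensional k V] (hq : 2 ≤ q)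
    (hqk : (q : k) = 0) (hspan : Submodule.span k (Set.range φ) = ⊤) :
    ∃ B : Module.Basis (Fin (Module.finrank k V)) k V, ∀ i, φ (B i) = B i := by
  obtain ⟨b, B, hB, hfix⟩ := exists_basis_fixed_sep φ hφ hq hqk hspan
  have : Fintype b := FiniteDimensional.fintypeBasisIndex B
  have hcard : Fintype.card b = Module.finrank k V := (Module.finrank_eq_card_basis B).symm
  refine ⟨B.reindex (Fintype.equivFinOfCardEq hcard), fun i => ?_⟩
  rw [Module.Basis.reindex_apply, hB]
  exact hfix _

include hφ in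
/-- coordinates of `φ v` in a basis of fixed vectors -/
theorem repr_map_of_fixed {ι : Type*} [Fintype ι] (B : Module.Basis ι k V)
    (hB : ∀ i, φ (B i) = B i) (v : V) (i : ι) : B.repr (φ v) i = (B.repr v i) ^ q := by
  classical
  have h1 : φ v = ∑ j, (B.repr v j) ^ q • B j := by
    conv_lhs => rw [← B.sum_repr v]
    rw [map_sum_smul φ hφ]
    exact Finset.sum_congr rfl fun j _ => by rw [hB j]
  rw [h1, Module.Basis.repr_sum_self]

end Span

section Surj

variable {k : Type u} [Field k] {V : Type v} [AddCommGroup V] [Module k V]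
variable {q : ℕ} (φ : V →+ V) (hφ : ∀ (a : k) (v : V), φ (a • v) = a ^ q • φ v)

/-- the `k`-span of the image of the `n`-th iterate -/
def spanIter (n : ℕ) : Submodule k V := Submodule.span k (Set.range (⇑φ)^[n])

lemma spanIter_succ_le (n : ℕ) : spanIter (k := k) φ (n + 1) ≤ spanIter φ n := by
  apply Submodule.span_mono
  rintro _ ⟨v, rfl⟩
  exact ⟨φ v, (Function.iterate_succ_apply _ _ _).symm⟩

lemma exists_stable [FiniteDimensional k V] :
    ∃ M : ℕ, spanIter (k := k) φ (M + 1) = spanIter φ M := by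
  have hanti : Antitone (spanIter (k := k) φ) := antitone_nat_of_succ_le (spanIter_succ_le φ)
  obtain ⟨M, hM⟩ := IsArtinian.monotone_stabilizes
    (⟨fun n => OrderDual.toDual (spanIter (k := k) φ n), fun a b h => hanti h⟩ :
      ℕ →o (Submodule k V)ᵒᵈ)
  exact ⟨M, (congrArg OrderDual.ofDual (hM (M + 1) (Nat.le_succ M))).symm⟩

include hφ in
lemma map_spanIter (n : ℕ) : ∀ c ∈ spanIter (k := k) φ n, φ c ∈ spanIter (k := k) φ (n + 1) := by
  intro c hc
  induction hc using Submodule.span_induction with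
  | mem w hw =>
    obtain ⟨v, rfl⟩ := hw
    exact Submodule.subset_span ⟨v, Function.iterate_succ_apply' _ _ _⟩
  | zero => rw [map_zero]; exact Submodule.zero_mem _
  | add x y _ _ hx hy => rw [map_add]; exact Submodule.add_mem _ hx hy
  | smul r x _ hx => rw [hφ]; exact Submodule.smul_mem _ _ hx

lemma spanIter_succ_le_span_image (n : ℕ) :
    spanIter (k := k) φ (n + 1) ≤ Submodule.span k (φ '' (spanIter (k := k) φ n : Set V)) := by
  apply Submodule.span_mono
  rintro _ ⟨v, rfl⟩
  exact ⟨(⇑φ)^[n] v, Submodule.subset_span ⟨v, rfl⟩, (Function.iterate_succ_apply' _ _ _).symm⟩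

include hφ in
/-- `v ↦ v - φ v` is surjective on a finite-dimensional space over a separably closed field -/
theorem sub_map_surjective [IsSepClosed k] [FiniteDimensional k V] (hq : 2 ≤ q)
    (hqk : (q : k) = 0) (v : V) : ∃ w : V, w - φ w = v := by
  classical
  obtain ⟨M, hM⟩ := exists_stable (k := k) φ
  obtain ⟨W, hWdef⟩ : ∃ W : Submodule k V, W = spanIter (k := k) φ M := ⟨_, rfl⟩
  have hWstab : ∀ c ∈ W, φ c ∈ W := by
    intro c hc
    rw [hWdef] at hc ⊢
    exact spanIter_succ_le φ M (map_spanIter φ hφ M c hc)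
  let φW : W →+ W :=
    { toFun := fun x => ⟨φ x, hWstab x x.2⟩
      map_zero' := by ext; simp
      map_add' := by intro x y; ext; simp }
  have hφWapp : ∀ x : W, ((φW x : W) : V) = φ (x : V) := fun x => rfl
  have hφW : ∀ (a : k) (x : W), φW (a • x) = a ^ q • φW x := by
    intro a x
    ext
    rw [hφWapp, Submodule.coe_smul, hφ, Submodule.coe_smul, hφWapp]
  have hspanW : Submodule.span k (Set.range φW) = ⊤ := by
    rw [eq_top_iff]
    intro y _
    have hle : ∀ z ∈ W, z ∈ Submodule.span k (φ '' (W : Set V)) := by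
      intro z hz
      rw [hWdef] at hz ⊢
      apply spanIter_succ_le_span_image φ M
      rw [hM]
      exact hz
    have hy : (y : V) ∈ Submodule.span k (φ '' (W : Set V)) := hle _ y.2
    have key : ∀ z ∈ Submodule.span k (φ '' (W : Set V)), ∀ hz : z ∈ W,
        (⟨z, hz⟩ : W) ∈ Submodule.span k (Set.range φW) := by
      intro z hz
      induction hz using Submodule.span_induction with
      | mem w hw =>
        intro hz
        obtain ⟨x, hx, rfl⟩ := hw
        exact Submodule.subset_span ⟨⟨x, hx⟩, rfl⟩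
      | zero => intro hz; exact Submodule.zero_mem _
      | add a b ha hb iha ihb =>
        intro hz
        have ha' : a ∈ W := Submodule.span_le.mpr (by rintro _ ⟨x, hx, rfl⟩; exact hWstab x hx) ha
        have hb' : b ∈ W := Submodule.span_le.mpr (by rintro _ ⟨x, hx, rfl⟩; exact hWstab x hx) hb
        have : (⟨a + b, hz⟩ : W) = ⟨a, ha'⟩ + ⟨b, hb'⟩ := rfl
        rw [this]
        exact Submodule.add_mem _ (iha ha') (ihb hb')
      | smul r a ha iha =>
        intro hz
        have ha' : a ∈ W := Submodule.span_le.mpr (by rintro _ ⟨x, hx, rfl⟩; exact hWstab x hx) ha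
        have : (⟨r • a, hz⟩ : W) = r • ⟨a, ha'⟩ := rfl
        rw [this]
        exact Submodule.smul_mem _ _ (iha ha')
    exact key _ hy y.2
  obtain ⟨B, hB⟩ := exists_finBasis_fixed_sep φW hφW hq hqk hspanW
  have hsolveW : ∀ w : W, ∃ w' : W, w' - φW w' = w := by
    intro w
    choose c hc using fun i => exists_AS_sep hq hqk (B.repr w i)
    refine ⟨∑ i, c i • B i, ?_⟩
    rw [map_sum_smul φW hφW, ← Finset.sum_sub_distrib]
    conv_rhs => rw [← B.sum_repr w]
    refine Finset.sum_congr rfl fun i _ => ?_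
    rw [hB, ← sub_smul, hc]
  have h2 : (⇑φ)^[M] v ∈ W := by
    rw [hWdef]
    exact Submodule.subset_span ⟨v, rfl⟩
  obtain ⟨w', hw'⟩ := hsolveW ⟨(⇑φ)^[M] v, h2⟩
  have hw'' : (w' : V) - φ (w' : V) = (⇑φ)^[M] v := by
    have := congrArg Subtype.val hw'
    simpa [hφWapp] using this
  have h1 : (∑ i ∈ Finset.range M, (⇑φ)^[i] v) - φ (∑ i ∈ Finset.range M, (⇑φ)^[i] v)
      = v - (⇑φ)^[M] v := by
    rw [map_sum, ← Finset.sum_sub_distrib]
    have : ∀ i ∈ Finset.range M, (⇑φ)^[i] v - φ ((⇑φ)^[i] v) = (⇑φ)^[i] v - (⇑φ)^[i + 1] v := by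
      intro i _
      rw [Function.iterate_succ_apply']
    rw [Finset.sum_congr rfl this, Finset.sum_range_sub']
    rfl
  refine ⟨(∑ i ∈ Finset.range M, (⇑φ)^[i] v) + w', ?_⟩
  rw [map_add, add_sub_add_comm, h1, hw'']
  abel

end Surj

end Groth.Agent.H16.FrobSep
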