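import Mathlib
import Groth.Prelude.Def_W4c5qcohlocdualityLoc

/-!
# Closed objects for the localizing closure (helper16)

`closedFor_locClosure` : in a Grothendieck abelian category, if `P` is closed under subobjects and
quotients and `M` is `P`-closed, then `M` is closed for the localizing closure of `P`.
-/

set_option autoImplicit false
open CategoryTheory CategoryTheory.Limits
universe w v u

namespace Groth.Agent.H16.GabLocT

set_option linter.unusedVariables false
set_option linter.unusedSectionVars false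

variable {C : Type u} [Category.{v} C] [Abelian C]

/-- `M` is closed with respect to the single object `Y`. -/
def ClosedObj (M Y : C) : Prop :=
  (∀ f : Y ⟶ M, f = 0) ∧
    ∀ ⦃N : C⦄ (i : M ⟶ N) (p : N ⟶ Y) (hp : i ≫ p = 0),
      (ShortComplex.mk i p hp).ShortExact → IsSplitMono i

lemma isClosedFor_iff (P : ObjectProperty C) (M : C) :
    GabLoc.IsClosedFor P M ↔ ∀ Y, P Y → ClosedObj M Y := by
  constructor
  · intro h Y hY
    exact ⟨fun f => h.1 hY f, fun N i p hp hS => h.2 i p hp hY hS⟩
  · intro h
    exact ⟨fun Y hY f => (h Y hY).1 f, fun N Y i p hp hY hS => (h Y hY).2 i p hp hS⟩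

/-- hereditary closedness : `M` is closed for every subquotient of `X`. -/
def Hered (M : C) : ObjectProperty C := fun X =>
  ∀ ⦃B Y : C⦄ (i : B ⟶ X) (p : B ⟶ Y), Mono i → Epi p → ClosedObj M Y

section Sec

variable {M N B : C} (a : M ⟶ N) (b : N ⟶ B) (hab : a ≫ b = 0)
  (hS : (ShortComplex.mk a b hab).ShortExact)

include hS

/-- lifting along an extension of `B` by `M`, from an object for which `M` is closed -/
lemma exists_lift {Y' : C} (hY : ClosedObj M Y') (β : Y' ⟶ B) : ∃ s : Y' ⟶ N, s ≫ b = β := by
  have hm : Mono a := hS.mono_f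
  have he : Epi b := hS.epi_g
  let a' : M ⟶ pullback b β := pullback.lift a 0 (by rw [hab, zero_comp])
  have ha'1 : a' ≫ pullback.fst b β = a := pullback.lift_fst _ _ _
  have ha'2 : a' ≫ pullback.snd b β = 0 := pullback.lift_snd _ _ _
  have : Mono a' := mono_of_mono_fac ha'1
  have : Epi (pullback.snd b β) := Abelian.epi_pullback_of_epi_f b β
  have hex : (ShortComplex.mk a' (pullback.snd b β) ha'2).Exact := by
    rw [ShortComplex.exact_iff_exact_up_to_refinements]
    intro T z hz
    dsimp at z hz ⊢
    have h1 : (z ≫ pullback.fst b β) ≫ b = 0 := by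
      rw [Category.assoc, pullback.condition, ← Category.assoc, hz, zero_comp]
    obtain ⟨T', π, hπ, m, hm⟩ := hS.exact.exact_up_to_refinements _ h1
    dsimp at m hm
    refine ⟨T', π, hπ, m, ?_⟩
    apply pullback.hom_ext
    · rw [Category.assoc, Category.assoc, ha'1, ← hm]
    · rw [Category.assoc, Category.assoc, ha'2, hz, comp_zero, comp_zero]
  have hS' : (ShortComplex.mk a' (pullback.snd b β) ha'2).ShortExact := { exact := hex }
  obtain ⟨⟨ρ, hρ⟩⟩ := hY.2 a' (pullback.snd b β) ha'2 hS'
  let σ := ShortComplex.Splitting.ofExactOfRetraction _ hex ρ hρ inferInstance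
  refine ⟨σ.s ≫ pullback.fst b β, ?_⟩
  have := σ.s_g
  dsimp at this
  rw [Category.assoc, pullback.condition, ← Category.assoc, this, Category.id_comp]

lemma lift_unique {Y' : C} (hY : ClosedObj M Y') (s s' : Y' ⟶ N) (h : s ≫ b = s' ≫ b) : s = s' := by
  have hm : Mono a := hS.mono_f
  have h1 : (s - s') ≫ b = 0 := by rw [Preadditive.sub_comp, h, sub_self]
  have h2 : s - s' = hS.exact.lift (s - s') h1 ≫ a := (hS.exact.lift_f _ h1).symm
  rw [hY.1 (hS.exact.lift (s - s') h1), zero_comp] at h2
  exact sub_eq_zero.mp h2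

end Sec

/-- closedness is stable under extensions -/
lemma closedObj_of_shortExact {M : C} (S : ShortComplex C) (hS : S.ShortExact)
    (h₁ : ClosedObj M S.X₁) (h₃ : ClosedObj M S.X₃) : ClosedObj M S.X₂ := by
  have := hS.mono_f
  have := hS.epi_g
  constructor
  · intro f
    have h1 : S.f ≫ f = 0 := h₁.1 _
    have h2 : f = S.g ≫ hS.exact.desc f h1 := (hS.exact.g_desc f h1).symm
    rw [h2, h₃.1 (hS.exact.desc f h1), comp_zero]
  · intro N a b hab hT
    have hm : Mono a := hT.mono_f
    have he : Epi b := hT.epi_g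
    obtain ⟨s₁, hs₁⟩ := exists_lift a b hab hT h₁ S.f
    have : Mono s₁ := mono_of_mono_fac hs₁
    let π := cokernel.π s₁
    let b₃ : cokernel s₁ ⟶ S.X₃ := cokernel.desc s₁ (b ≫ S.g) (by
      rw [← Category.assoc, hs₁, S.zero])
    have hπb : π ≫ b₃ = b ≫ S.g := cokernel.π_desc _ _ _
    have hab₃ : (a ≫ π) ≫ b₃ = 0 := by
      rw [Category.assoc, hπb, ← Category.assoc, hab, zero_comp]
    have hcok : (ShortComplex.mk s₁ π (cokernel.condition s₁)).Exact :=
      ShortComplex.exact_cokernel s₁
    have hmono : Mono (a ≫ π) := by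
      apply Preadditive.mono_of_cancel_zero
      intro T x hx
      have hx' : (x ≫ a) ≫ π = 0 := by rw [Category.assoc, hx]
      obtain ⟨T', π', hπ', y, hy⟩ := hcok.exact_up_to_refinements _ hx'
      dsimp at y hy
      have hy0 : y = 0 := by
        rw [← cancel_mono S.f, zero_comp, ← hs₁, ← Category.assoc, ← hy, Category.assoc,
          Category.assoc, hab, comp_zero, comp_zero]
      rw [hy0, zero_comp] at hy
      rw [← cancel_epi π', ← cancel_mono a, comp_zero, zero_comp, Category.assoc, hy]
    have hepi : Epi b₃ := by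
      have : Epi (π ≫ b₃) := by rw [hπb]; exact epi_comp _ _
      exact epi_of_epi π b₃
    have hex : (ShortComplex.mk (a ≫ π) b₃ hab₃).Exact := by
      rw [ShortComplex.exact_iff_exact_up_to_refinements]
      intro T z hz
      dsimp at z hz ⊢
      obtain ⟨T₁, π₁, hπ₁, n, hn⟩ := surjective_up_to_refinements_of_epi π z
      have h1 : (n ≫ b) ≫ S.g = 0 := by
        rw [Category.assoc, ← hπb, ← Category.assoc, ← hn, Category.assoc, hz, comp_zero]
      obtain ⟨T₂, π₂, hπ₂, y, hy⟩ := hS.exact.exact_up_to_refinements _ h1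
      have h2 : (π₂ ≫ n - y ≫ s₁) ≫ b = 0 := by
        rw [Preadditive.sub_comp, Category.assoc, Category.assoc, hs₁, hy, sub_self]
      obtain ⟨T₃, π₃, hπ₃, m, hm⟩ := hT.exact.exact_up_to_refinements _ h2
      dsimp at m hm
      refine ⟨T₃, π₃ ≫ π₂ ≫ π₁, inferInstance, m, ?_⟩
      rw [Category.assoc, Category.assoc, hn, ← Category.assoc m, ← hm, Category.assoc,
        Preadditive.sub_comp, Category.assoc, Category.assoc, cokernel.condition, comp_zero,
        sub_zero]
    have hT₃ : (ShortComplex.mk (a ≫ π) b₃ hab₃).ShortExact := { exact := hex }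
    obtain ⟨⟨r₃, hr₃⟩⟩ := h₃.2 (a ≫ π) b₃ hab₃ hT₃
    exact ⟨⟨π ≫ r₃, by rw [← Category.assoc]; exact hr₃⟩⟩

section Serre

variable (M : C)

lemma closedObj_of_isZero {Y : C} (hY : IsZero Y) : ClosedObj M Y := by
  refine ⟨fun f => hY.eq_of_src _ _, fun N i p hp hS => ?_⟩
  have := hS.mono_f
  have hepi : Epi i := by
    have h := hS.exact
    rw [ShortComplex.exact_iff_epi _ (hY.eq_of_tgt _ _)] at h
    exact h
  have : IsIso i := isIso_of_mono_of_epi i
  exact IsSplitMono.of_iso i

lemma hered_of_isZero {X : C} (hX : IsZero X) : Hered M X := by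
  intro B Y i p hi hp
  have hB : IsZero B := by
    rw [IsZero.iff_id_eq_zero, ← cancel_mono i]
    exact hX.eq_of_tgt _ _
  have hY : IsZero Y := by
    rw [IsZero.iff_id_eq_zero, ← cancel_epi p]
    exact hB.eq_of_src _ _
  exact closedObj_of_isZero M hY

lemma hered_of_mono {X X' : C} (f : X' ⟶ X) [Mono f] (hX : Hered M X) : Hered M X' := by
  intro B Y i p hi hp
  exact hX (i ≫ f) p (mono_comp _ _) hp

lemma hered_of_epi {X X' : C} (f : X ⟶ X') [Epi f] (hX : Hered M X) : Hered M X' := by
  intro B' Y i p hi hp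
  have : Epi (pullback.fst i f) := Abelian.epi_pullback_of_epi_g i f
  have : Mono (pullback.snd i f) := inferInstance
  exact hX (pullback.snd i f) (pullback.fst i f ≫ p) inferInstance (epi_comp _ _)

lemma hered_of_shortExact (S : ShortComplex C) (hS : S.ShortExact) (h₁ : Hered M S.X₁)
    (h₃ : Hered M S.X₃) : Hered M S.X₂ := by
  have := hS.mono_f
  have := hS.epi_g
  intro B Y i p hi hp
  -- `B₁ = B ∩ X₁`
  have hu : Mono (pullback.fst i S.f) := inferInstance
  have hu' : Mono (pullback.snd i S.f) := inferInstance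
  -- `Y₁`
  obtain ⟨Y₁, e₁, m₁, he₁, hm₁, hem₁⟩ : ∃ (Y₁ : C) (e₁ : pullback i S.f ⟶ Y₁) (m₁ : Y₁ ⟶ Y),
      Epi e₁ ∧ Mono m₁ ∧ e₁ ≫ m₁ = pullback.fst i S.f ≫ p :=
    ⟨Abelian.image _, Abelian.factorThruImage _, Abelian.image.ι _, inferInstance, inferInstance,
      Abelian.image.fac _⟩
  have hY₁ : ClosedObj M Y₁ := h₁ (pullback.snd i S.f) e₁ inferInstance he₁
  -- `B₃`
  obtain ⟨B₃, e₃, m₃, he₃, hm₃, hem₃⟩ : ∃ (B₃ : C) (e₃ : B ⟶ B₃) (m₃ : B₃ ⟶ S.X₃),
      Epi e₃ ∧ Mono m₃ ∧ e₃ ≫ m₃ = i ≫ S.g :=
    ⟨Abelian.image _, Abelian.factorThruImage _, Abelian.image.ι _, inferInstance, inferInstance,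
      Abelian.image.fac _⟩
  have hkill : kernel.ι e₃ ≫ (p ≫ cokernel.π m₁) = 0 := by
    have h1 : (kernel.ι e₃ ≫ i) ≫ S.g = 0 := by
      rw [Category.assoc, ← hem₃, ← Category.assoc, kernel.condition, zero_comp]
    have hl : hS.exact.lift _ h1 ≫ S.f = kernel.ι e₃ ≫ i := hS.exact.lift_f _ h1
    have hv : pullback.lift (kernel.ι e₃) (hS.exact.lift _ h1) hl.symm ≫ pullback.fst i S.f =
        kernel.ι e₃ := pullback.lift_fst _ _ _
    rw [← hv, Category.assoc, ← Category.assoc (pullback.fst i S.f), ← hem₁, Category.assoc,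
      cokernel.condition, comp_zero, comp_zero]
  have hg₃ : e₃ ≫ Abelian.epiDesc e₃ (p ≫ cokernel.π m₁) hkill = p ≫ cokernel.π m₁ :=
    Abelian.comp_epiDesc _ _ _
  have : Epi (Abelian.epiDesc e₃ (p ≫ cokernel.π m₁) hkill) := by
    have : Epi (e₃ ≫ Abelian.epiDesc e₃ (p ≫ cokernel.π m₁) hkill) := by
      rw [hg₃]; exact epi_comp _ _
    exact epi_of_epi e₃ _
  have hY₃ : ClosedObj M (cokernel m₁) := h₃ m₃ _ hm₃ this
  have hSES : (ShortComplex.mk m₁ (cokernel.π m₁) (cokernel.condition m₁)).ShortExact :=
    { exact := ShortComplex.exact_cokernel m₁ }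
  exact closedObj_of_shortExact _ hSES hY₁ hY₃

/-- the "K trick": to check hereditary closedness it is enough to check subobjects -/
lemma hered_of_sub {X : C} (h : ∀ ⦃B : C⦄ (i : B ⟶ X), Mono i → ClosedObj M B) : Hered M X := by
  intro B Y i p hi hp
  have hB : ClosedObj M B := h i hi
  constructor
  · intro f
    rw [← cancel_epi p, comp_zero]
    exact hB.1 _
  · intro N a b hab hT
    have hm : Mono a := hT.mono_f
    have he : Epi b := hT.epi_g
    let a' : M ⟶ pullback b p := pullback.lift a 0 (by rw [hab, zero_comp])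
    have ha'1 : a' ≫ pullback.fst b p = a := pullback.lift_fst _ _ _
    have ha'2 : a' ≫ pullback.snd b p = 0 := pullback.lift_snd _ _ _
    have : Mono a' := mono_of_mono_fac ha'1
    have : Epi (pullback.snd b p) := Abelian.epi_pullback_of_epi_f b p
    have : Epi (pullback.fst b p) := Abelian.epi_pullback_of_epi_g b p
    have hex : (ShortComplex.mk a' (pullback.snd b p) ha'2).Exact := by
      rw [ShortComplex.exact_iff_exact_up_to_refinements]
      intro T z hz
      dsimp at z hz ⊢
      have h1 : (z ≫ pullback.fst b p) ≫ b = 0 := by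
        rw [Category.assoc, pullback.condition, ← Category.assoc, hz, zero_comp]
      obtain ⟨T', π, hπ, m, hm⟩ := hT.exact.exact_up_to_refinements _ h1
      dsimp at m hm
      refine ⟨T', π, hπ, m, ?_⟩
      apply pullback.hom_ext
      · rw [Category.assoc, Category.assoc, ha'1, ← hm]
      · rw [Category.assoc, Category.assoc, ha'2, hz, comp_zero, comp_zero]
    have hS' : (ShortComplex.mk a' (pullback.snd b p) ha'2).ShortExact := { exact := hex }
    obtain ⟨⟨ρ, hρ⟩⟩ := hB.2 a' (pullback.snd b p) ha'2 hS'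
    -- the kernel of `pullback.fst` is a subobject of `B`
    have hkm : Mono (kernel.ι (pullback.fst b p) ≫ pullback.snd b p) := by
      apply Preadditive.mono_of_cancel_zero
      intro T x hx
      rw [← cancel_mono (kernel.ι (pullback.fst b p)), zero_comp]
      apply pullback.hom_ext
      · rw [Category.assoc, kernel.condition, comp_zero, zero_comp]
      · rw [Category.assoc, hx, zero_comp]
    have hK : ClosedObj M (kernel (pullback.fst b p)) :=
      h ((kernel.ι (pullback.fst b p) ≫ pullback.snd b p) ≫ i) (mono_comp _ _)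
    have hkρ : kernel.ι (pullback.fst b p) ≫ ρ = 0 := hK.1 _
    refine ⟨⟨Abelian.epiDesc (pullback.fst b p) ρ hkρ, ?_⟩⟩
    rw [← ha'1, Category.assoc, Abelian.comp_epiDesc, hρ]

end Serre

section Filt

variable (M : C) {J : Type w} [SmallCategory J] [IsFiltered J] [HasColimitsOfShape J C]
  [HasExactColimitsOfShape J C]

attribute [local instance] IsFiltered.isConnected

/-- hereditary closedness passes to exact filtered colimits -/
lemma hered_of_isColimit {D : J ⥤ C} {c : Cocone D} (hc : IsColimit c)
    (hD : ∀ j, Hered M (D.obj j)) : Hered M c.pt := by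
  apply hered_of_sub
  intro B i hi
  let PB : J ⥤ C := pullback c.ι ((Functor.const J).map i)
  let π₁ : PB ⟶ D := pullback.fst _ _
  let π₂ : PB ⟶ (Functor.const J).obj B := pullback.snd _ _
  have hcB : IsColimit (Cocone.mk B π₂) := hc.pullbackOfHasExactColimitsOfShape i
  have hmono : ∀ j, Mono (π₁.app j) := by
    intro j
    have h1 : (pullbackObjIso c.ι ((Functor.const J).map i) j).hom ≫
        pullback.fst (c.ι.app j) (((Functor.const J).map i).app j) = π₁.app j :=
      pullbackObjIso_hom_comp_fst _ _ _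
    have : Mono (pullback.fst (c.ι.app j) (((Functor.const J).map i).app j)) := by
      dsimp
      infer_instance
    rw [← h1]
    exact mono_comp _ _
  have hPB : ∀ j, ClosedObj M (PB.obj j) :=
    fun j => hD j (π₁.app j) (𝟙 _) (hmono j) inferInstance
  constructor
  · intro f
    apply hcB.hom_ext
    intro j
    dsimp
    rw [comp_zero]
    exact (hPB j).1 _
  · intro N a b hab hT
    have hm : Mono a := hT.mono_f
    have he : Epi b := hT.epi_g
    choose s hs using fun j => exists_lift a b hab hT (hPB j) (π₂.app j)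
    have hcompat : ∀ {j j' : J} (φ : j ⟶ j'), PB.map φ ≫ s j' = s j := by
      intro j j' φ
      apply lift_unique a b hab hT (hPB j)
      rw [Category.assoc, hs, hs]
      have := π₂.naturality φ
      dsimp at this
      rw [this, Category.comp_id]
    let cN : Cocone PB :=
      { pt := N
        ι := { app := s
               naturality := by
                 intro j j' φ
                 dsimp
                 rw [hcompat φ, Category.comp_id] } }
    let σ : B ⟶ N := hcB.desc cN
    have hσ : ∀ j, π₂.app j ≫ σ = s j := fun j => hcB.fac cN j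
    have hσb : σ ≫ b = 𝟙 B := by
      apply hcB.hom_ext
      intro j
      dsimp
      rw [← Category.assoc, hσ, hs, Category.comp_id]
    let spl := ShortComplex.Splitting.ofExactOfSection _ hT.exact σ hσb hm
    exact ⟨⟨spl.r, spl.f_r⟩⟩

end Filt

section Loc

variable (M : C)

instance instSerreHered : (Hered M).IsSerreClass where
  exists_zero := ⟨_, isZero_zero C, hered_of_isZero M (isZero_zero C)⟩
  prop_of_mono f _ h := hered_of_mono M f h
  prop_of_epi f _ h := hered_of_epi M f h
  prop_X₂_of_shortExact hS h₁ h₃ := hered_of_shortExact M _ hS h₁ h₃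

instance instBinHered : (Hered M).IsClosedUnderBinaryCoproducts := by
  constructor
  rintro X ⟨p⟩
  let e : X ≅ p.diag.obj ⟨.left⟩ ⨿ p.diag.obj ⟨.right⟩ :=
    IsColimit.coconePointsIsoOfNatIso p.isColimit (colimit.isColimit _) (diagramIsoPair p.diag)
  have h := (Hered M).prop_biprod (p.prop_diag_obj ⟨.left⟩) (p.prop_diag_obj ⟨.right⟩)
  exact (Hered M).prop_of_iso ((biprod.isoCoprod _ _).trans e.symm) h

instance instFinHered : (Hered M).IsClosedUnderFiniteCoproducts :=
  ObjectProperty.IsClosedUnderFiniteCoproducts.mk'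

variable [IsGrothendieckAbelian.{w} C]

lemma hered_coproduct {α : Type w} (f : α → C) (hf : ∀ a, Hered M (f a)) : Hered M (∐ f) := by
  have key : ∀ S, Hered M
      ((CoproductsFromFiniteFiltered.liftToFinsetObj (Discrete.functor f)).obj S) := by
    intro S
    dsimp [CoproductsFromFiniteFiltered.liftToFinsetObj]
    exact (Hered M).prop_coproduct (fun x => hf _)
  have h := hered_of_isColimit M (c := CoproductsFromFiniteFiltered.finiteSubcoproductsCocone f)
    (CoproductsFromFiniteFiltered.isColimitFiniteSubproductsCocone f) key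
  exact h

theorem isLocalizing_hered : GabLoc.IsLocalizing.{w} (Hered M) where
  isSerreClass := inferInstance
  isClosedUnderCoproducts J := by
    constructor
    rintro X ⟨p⟩
    let e : X ≅ ∐ (fun j : J => p.diag.obj ⟨j⟩) :=
      IsColimit.coconePointsIsoOfNatIso p.isColimit (colimit.isColimit _)
        (Discrete.natIsoFunctor)
    exact (Hered M).prop_of_iso e.symm (hered_coproduct M _ (fun j => p.prop_diag_obj ⟨j⟩))

/-- **Theorem T** : closedness for a class closed under subobjects and quotients propagates to its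
localizing closure. -/
theorem closedFor_locClosure (P : ObjectProperty C) [P.IsClosedUnderSubobjects]
    [P.IsClosedUnderQuotients] (h : GabLoc.IsClosedFor P M) :
    GabLoc.IsClosedFor (GabLoc.locClosure.{w} P) M := by
  rw [isClosedFor_iff] at h ⊢
  intro Y hY
  have hle : P ≤ Hered M := by
    intro X hX B Y i p hi hp
    exact h Y (P.prop_of_epi p (P.prop_of_mono i hX))
  have := hY (Hered M) (isLocalizing_hered M) hle
  exact this (𝟙 Y) (𝟙 Y) inferInstance inferInstance

end Loc

end Groth.Agent.H16.GabLocT
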