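import Mathlib

/-!
# Uniformity of indecomposable injectives in Grothendieck abelian categories (helper16)
-/

set_option autoImplicit false
universe w v u
open CategoryTheory CategoryTheory.Limits

namespace Groth.Agent.H16.Uniform

variable {C : Type u} [Category.{v} C] [Abelian C]

section basic

variable {E : C}

omit [Abelian C] in
lemma factors_of_comp_eq {T : C} (X : Subobject E) (f : T ⟶ E) (g : T ⟶ (X : C))
    (h : g ≫ X.arrow = f) : X.Factors f :=
  (Subobject.factors_iff _ _).mpr ⟨g, h⟩

lemma eq_bot_of_arrow_eq_zero (X : Subobject E) (h : X.arrow = 0) : X = ⊥ := by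
  rw [← Subobject.mk_arrow X]
  exact Subobject.mk_eq_bot_iff_zero.mpr h

lemma eq_zero_of_factors_of_inf_eq_bot {T : C} (X B : Subobject E) (h : X ⊓ B = ⊥) (f : T ⟶ E)
    (hX : X.Factors f) (hB : B.Factors f) : f = 0 := by
  have : (X ⊓ B).Factors f := (Subobject.inf_factors _).mpr ⟨hX, hB⟩
  rwa [h, Subobject.bot_factors_iff_zero] at this

lemma inf_eq_bot_of_forall {X B : Subobject E}
    (h : ∀ {T : C} (f : T ⟶ E), X.Factors f → B.Factors f → f = 0) : X ⊓ B = ⊥ := by
  apply eq_bot_of_arrow_eq_zero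
  apply h
  · exact Subobject.factors_of_le _ inf_le_left (Subobject.factors_self _)
  · exact Subobject.factors_of_le _ inf_le_right (Subobject.factors_self _)

lemma mono_comp_cokernel_of_inf_eq_bot (X B : Subobject E) (h : X ⊓ B = ⊥) :
    Mono (B.arrow ≫ cokernel.π X.arrow) := by
  apply Preadditive.mono_of_cancel_zero
  intro T t ht
  have hX : X.Factors (t ≫ B.arrow) :=
    factors_of_comp_eq X _ (Abelian.monoLift X.arrow (t ≫ B.arrow)
      (by rw [Category.assoc]; exact ht)) (Abelian.monoLift_comp _ _ _)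
  have h0 := eq_zero_of_factors_of_inf_eq_bot X B h _ hX (Subobject.factors_comp_arrow t)
  exact (cancel_mono B.arrow).mp (by rw [h0, zero_comp])

lemma inf_eq_bot_of_mono_comp_cokernel (X B : Subobject E)
    (hm : Mono (B.arrow ≫ cokernel.π X.arrow)) : X ⊓ B = ⊥ := by
  have h1 : (X ⊓ B).arrow ≫ cokernel.π X.arrow = 0 := by
    rw [← Subobject.ofLE_arrow (inf_le_left : X ⊓ B ≤ X), Category.assoc, cokernel.condition,
      comp_zero]
  have h2 : Subobject.ofLE (X ⊓ B) B inf_le_right ≫ (B.arrow ≫ cokernel.π X.arrow) = 0 := by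
    rw [← Category.assoc, Subobject.ofLE_arrow, h1]
  have h3 : Subobject.ofLE (X ⊓ B) B inf_le_right = 0 := by
    rw [← cancel_mono (B.arrow ≫ cokernel.π X.arrow), h2, zero_comp]
  apply eq_bot_of_arrow_eq_zero
  rw [← Subobject.ofLE_arrow (inf_le_right : X ⊓ B ≤ B), h3, zero_comp]

lemma arrow_comp_eq_zero_of_le_kernelSubobject {Z : C} (X : Subobject E) (g : E ⟶ Z)
    (h : X ≤ kernelSubobject g) : X.arrow ≫ g = 0 := by
  rw [← Subobject.ofLE_arrow h, Category.assoc, kernelSubobject_arrow_comp, comp_zero]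

end basic

section UC

attribute [local instance] IsFiltered.isConnected

variable [IsGrothendieckAbelian.{w} C] {E : C}

/-- a small index type for a set of subobjects. -/
structure Idx (c : Set (Subobject E)) : Type w where
  /-- the underlying element -/
  val : Shrink.{w} c

/-- the subobject indexed by an index. -/
noncomputable def Idx.sub {c : Set (Subobject E)} (j : Idx.{w} c) : Subobject E :=
  ((equivShrink c).symm j.val).1

noncomputable instance (c : Set (Subobject E)) : Preorder (Idx.{w} c) := Preorder.lift Idx.sub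

/-- upper continuity of the lattice of subobjects along chains (AB5). -/
lemma sSup_inf_eq_bot (c : Set (Subobject E)) (hc : IsChain (· ≤ ·) c) (hne : c.Nonempty)
    (B : Subobject E) (h : ∀ X ∈ c, X ⊓ B = ⊥) : sSup c ⊓ B = ⊥ := by
  let J := Idx.{w} c
  let Xs : J → Subobject E := fun j => j.sub
  have hXs : ∀ j, Xs j ∈ c := fun j => ((equivShrink c).symm j.val).2
  have hmono : ∀ {j j' : J}, j ≤ j' → Xs j ≤ Xs j' := fun {j j'} hjj' => hjj'
  have hsurj : ∀ X ∈ c, ∃ j, Xs j = X := fun X hX =>
    ⟨⟨equivShrink c ⟨X, hX⟩⟩, by simp [Xs, Idx.sub]⟩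
  have : Nonempty J := by
    obtain ⟨X, hX⟩ := hne
    exact ⟨⟨equivShrink c ⟨X, hX⟩⟩⟩
  have : IsDirected J (· ≤ ·) := by
    refine ⟨fun j j' => ?_⟩
    rcases hc.total (hXs j) (hXs j') with h1 | h1
    · exact ⟨j', h1, le_rfl⟩
    · exact ⟨j, le_rfl, h1⟩
  have : IsFiltered J := isFiltered_of_directed_le_nonempty J
  let S : Subobject E := sSup c
  have hle : ∀ j, Xs j ≤ S := fun j => le_sSup (hXs j)
  let Q : J ⥤ C :=
    { obj := fun j => cokernel (Xs j).arrow
      map := fun {j j'} f => cokernel.map (Xs j).arrow (Xs j').arrow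
        (Subobject.ofLE _ _ (hmono (leOfHom f))) (𝟙 E) (by simp)
      map_id := fun j => by
        apply coequalizer.hom_ext
        simp
      map_comp := fun f g => by
        apply coequalizer.hom_ext
        simp }
  let α : (Functor.const J).obj (B : C) ⟶ Q :=
    { app := fun j => B.arrow ≫ cokernel.π (Xs j).arrow
      naturality := fun j j' f => by
        simp [Q] }
  have hα : ∀ j, Mono (α.app j) := fun j =>
    mono_comp_cokernel_of_inf_eq_bot (Xs j) B (h _ (hXs j))
  have : Mono α := NatTrans.mono_of_mono_app α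
  let c₂ : Cocone Q :=
    { pt := cokernel S.arrow
      ι :=
        { app := fun j => cokernel.map (Xs j).arrow S.arrow
            (Subobject.ofLE _ _ (hle j)) (𝟙 E) (by simp)
          naturality := fun j j' f => by
            apply coequalizer.hom_ext
            simp [Q] } }
  have hc₂ : IsColimit c₂ := by
    have key : ∀ (s : Cocone Q) (j j' : J),
        cokernel.π (Xs j).arrow ≫ s.ι.app j = cokernel.π (Xs j').arrow ≫ s.ι.app j' := by
      intro s j j'
      obtain ⟨k, hjk, hj'k⟩ := exists_ge_ge j j'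
      have e1 : cokernel.π (Xs j).arrow ≫ s.ι.app j = cokernel.π (Xs k).arrow ≫ s.ι.app k := by
        rw [← s.w (homOfLE hjk)]
        simp [Q]
      have e2 : cokernel.π (Xs j').arrow ≫ s.ι.app j' =
          cokernel.π (Xs k).arrow ≫ s.ι.app k := by
        rw [← s.w (homOfLE hj'k)]
        simp [Q]
      rw [e1, e2]
    let j₀ : J := Classical.arbitrary J
    have hS : ∀ s : Cocone Q, S.arrow ≫ (cokernel.π (Xs j₀).arrow ≫ s.ι.app j₀) = 0 := by
      intro s
      apply arrow_comp_eq_zero_of_le_kernelSubobject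
      apply sSup_le
      intro X hX
      obtain ⟨j, rfl⟩ := hsurj X hX
      apply le_kernelSubobject
      rw [key s j₀ j, cokernel.condition_assoc, zero_comp]
    refine
      { desc := fun s => cokernel.desc S.arrow (cokernel.π (Xs j₀).arrow ≫ s.ι.app j₀) (hS s)
        fac := fun s j => ?_
        uniq := fun s m hm => ?_ }
    · apply coequalizer.hom_ext
      simp only [c₂, cokernel.π_desc_assoc, Category.id_comp, cokernel.π_desc]
      exact key s j₀ j
    · apply coequalizer.hom_ext
      rw [cokernel.π_desc, ← hm j₀]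
      simp [c₂]
  have hm : Mono (B.arrow ≫ cokernel.π S.arrow) :=
    colim.map_mono' α (isColimitConstCocone J (B : C)) hc₂ (B.arrow ≫ cokernel.π S.arrow)
      (fun j => by
        simp only [α, c₂, constCocone_ι, NatTrans.id_app, Functor.const_obj_obj, Category.assoc,
          cokernel.π_desc, Category.id_comp]
        exact Category.id_comp _)
  exact inf_eq_bot_of_mono_comp_cokernel S B hm

end UC

section Zorn

variable [IsGrothendieckAbelian.{w} C] {E : C}

lemma exists_maximal_inf_eq_bot (A B : Subobject E) (h : A ⊓ B = ⊥) :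
    ∃ A', A ≤ A' ∧ A' ⊓ B = ⊥ ∧ ∀ Y, A' ≤ Y → Y ⊓ B = ⊥ → Y = A' := by
  have hchain : ∀ c ⊆ {X : Subobject E | X ⊓ B = ⊥}, IsChain (· ≤ ·) c → ∀ y ∈ c,
      ∃ ub ∈ {X : Subobject E | X ⊓ B = ⊥}, ∀ z ∈ c, z ≤ ub := by
    intro c hcS hc y hy
    exact ⟨sSup c, sSup_inf_eq_bot.{w} c hc ⟨y, hy⟩ B (fun X hX => hcS hX), fun z hz => le_sSup hz⟩
  obtain ⟨m, hAm, hmax⟩ := zorn_le_nonempty₀ {X : Subobject E | X ⊓ B = ⊥} hchain A h
  exact ⟨m, hAm, hmax.1, fun Y hY hYB => le_antisymm (hmax.2 hYB hY) hY⟩

/-- an indecomposable injective object of a Grothendieck abelian category is uniform. -/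
theorem inf_ne_bot_of_indecomposable (E : C) [Injective E]
    (hind : ∀ (A B : C), Nonempty (E ≅ A ⊞ B) → IsZero A ∨ IsZero B)
    (U V : Subobject E) (hU : U ≠ ⊥) (hV : V ≠ ⊥) : U ⊓ V ≠ ⊥ := by
  intro hUV
  obtain ⟨W, hVW, hWU, hWmax⟩ := exists_maximal_inf_eq_bot.{w} V U (by rwa [inf_comm])
  obtain ⟨U', hUU', hU'W, hU'max⟩ := exists_maximal_inf_eq_bot.{w} U W (by rwa [inf_comm])
  have hWmax' : ∀ Y, W ≤ Y → Y ⊓ U' = ⊥ → Y = W := fun Y hY hYU' =>
    hWmax Y hY (le_bot_iff.mp (hYU' ▸ inf_le_inf_left Y hUU'))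
  let s : (U' : C) ⊞ (W : C) ⟶ E := biprod.desc U'.arrow W.arrow
  have hs : Mono s := by
    apply Preadditive.mono_of_cancel_zero
    intro T t ht
    have e : (t ≫ biprod.fst) ≫ U'.arrow = - ((t ≫ biprod.snd) ≫ W.arrow) := by
      have : t ≫ s = (t ≫ biprod.fst) ≫ U'.arrow + (t ≫ biprod.snd) ≫ W.arrow := by
        simp [s, biprod.desc_eq]
      rw [ht] at this
      exact eq_neg_of_add_eq_zero_left this.symm
    have h0 : (t ≫ biprod.fst) ≫ U'.arrow = 0 :=
      eq_zero_of_factors_of_inf_eq_bot U' W hU'W _ (Subobject.factors_comp_arrow _)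
        (by rw [e]; exact factors_of_comp_eq W _ (-(t ≫ biprod.snd)) (by simp))
    have h1 : t ≫ biprod.fst = 0 := (cancel_mono U'.arrow).mp (by rw [h0, zero_comp])
    have h2 : (t ≫ biprod.snd) ≫ W.arrow = 0 := by
      rw [h0] at e
      exact neg_eq_zero.mp e.symm
    have h3 : t ≫ biprod.snd = 0 := (cancel_mono W.arrow).mp (by rw [h2, zero_comp])
    apply biprod.hom_ext
    · rw [h1, zero_comp]
    · rw [h3, zero_comp]
  let φ : E ⟶ E := Injective.factorThru (biprod.fst ≫ U'.arrow) s
  have hφs : s ≫ φ = biprod.fst ≫ U'.arrow := Injective.comp_factorThru _ _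
  have hφU : U'.arrow ≫ φ = U'.arrow := by
    have := congrArg (fun t => biprod.inl ≫ t) hφs
    simpa [s] using this
  have hφW : W.arrow ≫ φ = 0 := by
    have := congrArg (fun t => biprod.inr ≫ t) hφs
    simpa [s] using this
  have hker : kernelSubobject φ = W := by
    apply hWmax'
    · exact le_kernelSubobject _ _ hφW
    · apply inf_eq_bot_of_forall
      intro T f hK hU'
      have h1 : f ≫ φ = 0 := by
        rw [← Subobject.factorThru_arrow _ _ hK, Category.assoc, kernelSubobject_arrow_comp,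
          comp_zero]
      rw [← Subobject.factorThru_arrow _ _ hU', Category.assoc, hφU,
        Subobject.factorThru_arrow] at h1
      exact h1
  have hP : kernelSubobject (φ ≫ cokernel.π W.arrow) = W := by
    apply hWmax'
    · apply le_kernelSubobject
      rw [← Category.assoc, hφW, zero_comp]
    · apply inf_eq_bot_of_forall
      intro T f hK hU'
      have h1 : f ≫ φ ≫ cokernel.π W.arrow = 0 := by
        rw [← Subobject.factorThru_arrow _ _ hK, Category.assoc, kernelSubobject_arrow_comp,
          comp_zero]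
      have h2 : f ≫ φ = f := by
        rw [← Subobject.factorThru_arrow _ _ hU', Category.assoc, hφU]
      rw [← Category.assoc, h2] at h1
      exact eq_zero_of_factors_of_inf_eq_bot U' W hU'W f hU'
        (factors_of_comp_eq W f (Abelian.monoLift W.arrow f h1) (Abelian.monoLift_comp _ _ _))
  have hI : imageSubobject φ = U' := by
    apply hU'max
    · exact Subobject.le_of_comm (U'.arrow ≫ factorThruImageSubobject φ)
        (by rw [Category.assoc, imageSubobject_arrow_comp, hφU])
    · apply inf_eq_bot_of_forall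
      intro T f hIf hWf
      let b := Subobject.factorThru _ f hIf
      have hb : b ≫ (imageSubobject φ).arrow = f := Subobject.factorThru_arrow _ _ hIf
      let p : pullback b (factorThruImageSubobject φ) ⟶ T := pullback.fst _ _
      let e : pullback b (factorThruImageSubobject φ) ⟶ E := pullback.snd _ _
      have hp : Epi p := Abelian.epi_pullback_of_epi_g _ _
      have hpe : e ≫ φ = p ≫ f := by
        rw [← hb, ← Category.assoc, pullback.condition, Category.assoc,
          imageSubobject_arrow_comp]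
      have hfW : f ≫ cokernel.π W.arrow = 0 := by
        rw [← Subobject.factorThru_arrow _ _ hWf, Category.assoc, cokernel.condition, comp_zero]
      have heP : (kernelSubobject (φ ≫ cokernel.π W.arrow)).Factors e := by
        rw [kernelSubobject_factors_iff, ← Category.assoc, hpe, Category.assoc, hfW, comp_zero]
      rw [hP] at heP
      have he0 : e ≫ φ = 0 := by
        rw [← Subobject.factorThru_arrow _ _ heP, Category.assoc, hφW, comp_zero]
      rw [hpe] at he0
      exact (cancel_epi p).mp (by rw [he0, comp_zero])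
  let e' : E ⟶ (U' : C) := factorThruImageSubobject φ ≫ Subobject.ofLE _ _ hI.le
  have he' : e' ≫ U'.arrow = φ := by
    rw [Category.assoc, Subobject.ofLE_arrow, imageSubobject_arrow_comp]
  have hφφ : φ ≫ φ = φ := by
    calc φ ≫ φ = (e' ≫ U'.arrow) ≫ φ := by rw [he']
      _ = e' ≫ U'.arrow := by rw [Category.assoc, hφU]
      _ = φ := he'
  have hk0 : (𝟙 E - φ) ≫ φ = 0 := by
    rw [Preadditive.sub_comp, Category.id_comp, hφφ, sub_self]
  let k : E ⟶ (W : C) := factorThruKernelSubobject φ (𝟙 E - φ) hk0 ≫ Subobject.ofLE _ _ hker.le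
  have hk : k ≫ W.arrow = 𝟙 E - φ := by
    rw [Category.assoc, Subobject.ofLE_arrow, factorThruKernelSubobject_comp_arrow]
  have hsplit : biprod.lift e' k ≫ s = 𝟙 E := by
    have : biprod.lift e' k ≫ s = e' ≫ U'.arrow + k ≫ W.arrow := by
      simp [s, biprod.desc_eq]
    rw [this, he', hk]
    abel
  have : IsSplitEpi s := IsSplitEpi.mk' ⟨biprod.lift e' k, hsplit⟩
  have : IsIso s := isIso_of_mono_of_isSplitEpi s
  rcases hind _ _ ⟨(asIso s).symm⟩ with h0 | h0
  · apply hU
    have : U' = ⊥ := eq_bot_of_arrow_eq_zero U' (h0.eq_of_src _ _)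
    exact le_bot_iff.mp (this ▸ hUU')
  · apply hV
    have : W = ⊥ := eq_bot_of_arrow_eq_zero W (h0.eq_of_src _ _)
    exact le_bot_iff.mp (this ▸ hVW)

end Zorn

end Groth.Agent.H16.Uniform
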