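import Mathlib
import Groth.Prelude.Def_W4c5qcohlocdualityLoc
import Groth.Agent.H16.Uniform

/-!
# Subquotients of coproducts and the class of objects all of whose nonzero quotients contain a
nonzero such subquotient (helper16)
-/

set_option autoImplicit false
open CategoryTheory CategoryTheory.Limits
universe w v u

namespace Groth.Agent.H16.GabSQ

set_option linter.unusedVariables false
set_option linter.unusedSectionVars false

variable {C : Type u} [Category.{v} C] [Abelian C]

section SQ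

variable [HasCoproducts.{w} C] (P : ObjectProperty C)

lemma sq_of_mono {A A' : C} (f : A' ⟶ A) [Mono f] (h : GabLoc.subquotCoprod.{w} P A) :
    GabLoc.subquotCoprod.{w} P A' := by
  obtain ⟨J, X, hX, B, i, p, hi, hp⟩ := h
  refine ⟨J, X, hX, pullback p f, pullback.fst p f ≫ i, pullback.snd p f, ?_, ?_⟩
  · exact mono_comp _ _
  · exact Abelian.epi_pullback_of_epi_f p f

lemma sq_of_epi {A A' : C} (f : A ⟶ A') [Epi f] (h : GabLoc.subquotCoprod.{w} P A) :
    GabLoc.subquotCoprod.{w} P A' := by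
  obtain ⟨J, X, hX, B, i, p, hi, hp⟩ := h
  exact ⟨J, X, hX, B, i, p ≫ f, hi, epi_comp _ _⟩

lemma sq_of_prop {A : C} (h : P A) : GabLoc.subquotCoprod.{w} P A := by
  refine ⟨PUnit, fun _ => A, fun _ => h, ∐ (fun _ : PUnit.{w+1} => A), 𝟙 _,
    Sigma.desc (fun _ => 𝟙 A), inferInstance, ?_⟩
  have : Sigma.ι (fun _ : PUnit.{w+1} => A) PUnit.unit ≫ Sigma.desc (fun _ => 𝟙 A) = 𝟙 A := by
    simp
  exact epi_of_epi_fac this

lemma sq_of_isZero {A : C} (h : IsZero A) : GabLoc.subquotCoprod.{w} P A := by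
  refine ⟨PEmpty, PEmpty.elim, fun j => j.elim, A, 0, 𝟙 A, ?_, inferInstance⟩
  exact ⟨fun g g' _ => h.eq_of_tgt _ _⟩

lemma sq_le (Q : ObjectProperty C) (hQ : GabLoc.IsLocalizing.{w} Q) (hPQ : P ≤ Q) :
    GabLoc.subquotCoprod.{w} P ≤ Q := by
  rintro A ⟨J, X, hX, B, i, p, hi, hp⟩
  have := hQ.isSerreClass
  have := hQ.isClosedUnderCoproducts J
  have h1 : Q (∐ X) := Q.prop_colimit _ (fun j => hPQ _ (hX j.as))
  exact Q.prop_of_epi p (Q.prop_of_mono i h1)

end SQ

section QQ

variable [HasCoproducts.{w} C] (P : ObjectProperty C)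

/-- every nonzero quotient contains a nonzero subquotient of a coproduct of objects of `P`. -/
def QQ : ObjectProperty C := fun X =>
  ∀ ⦃Z : C⦄ (π : X ⟶ Z), Epi π → ¬ IsZero Z →
    ∃ (S : C) (s : S ⟶ Z), Mono s ∧ ¬ IsZero S ∧ GabLoc.subquotCoprod.{w} P S

lemma qq_of_prop {X : C} (h : P X) : QQ.{w} P X := by
  intro Z π hπ hZ
  exact ⟨Z, 𝟙 Z, inferInstance, hZ, sq_of_epi P π (sq_of_prop P h)⟩

lemma qq_of_isZero {X : C} (h : IsZero X) : QQ.{w} P X := by
  intro Z π hπ hZ
  exfalso
  apply hZ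
  rw [IsZero.iff_id_eq_zero]
  rw [← cancel_epi π]
  exact h.eq_of_src _ _

lemma qq_of_epi {X X' : C} (f : X ⟶ X') [Epi f] (h : QQ.{w} P X) : QQ.{w} P X' := by
  intro Z π hπ hZ
  exact h (f ≫ π) (epi_comp _ _) hZ

/-- a nonzero image. -/
lemma qq_image {X Z : C} (h : QQ.{w} P X) (φ : X ⟶ Z) (hφ : φ ≠ 0) :
    ∃ (S : C) (s : S ⟶ Z), Mono s ∧ ¬ IsZero S ∧ GabLoc.subquotCoprod.{w} P S := by
  have hI : ¬ IsZero (Abelian.image φ) := by
    intro h0
    apply hφ
    rw [← Abelian.image.fac φ, h0.eq_of_tgt (Abelian.factorThruImage φ) 0, zero_comp]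
  obtain ⟨S, s, hs, hS, hSQ⟩ := h (Abelian.factorThruImage φ) inferInstance hI
  exact ⟨S, s ≫ Abelian.image.ι φ, mono_comp _ _, hS, hSQ⟩

lemma qq_of_shortExact (S : ShortComplex C) (hS : S.ShortExact) (h₁ : QQ.{w} P S.X₁)
    (h₃ : QQ.{w} P S.X₃) : QQ.{w} P S.X₂ := by
  intro Z π hπ hZ
  by_cases h0 : S.f ≫ π = 0
  · have := hS.epi_g
    let π' : S.X₃ ⟶ Z := hS.exact.desc π h0
    have hπ' : S.g ≫ π' = π := hS.exact.g_desc π h0
    have : Epi π' := epi_of_epi_fac hπ'
    exact h₃ π' this hZ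
  · exact qq_image P h₁ (S.f ≫ π) h0

end QQ

section Sub

variable [IsGrothendieckAbelian.{w} C] (P : ObjectProperty C)

open Groth.Agent.H16.Uniform

lemma qq_of_mono {Y X : C} (f : Y ⟶ X) [Mono f] (h : QQ.{w} P X) : QQ.{w} P Y := by
  intro Z π hπ hZ
  let E := pushout f π
  let ix : X ⟶ E := pushout.inl f π
  let iz : Z ⟶ E := pushout.inr f π
  have hix : Epi ix := inferInstanceAs (Epi (pushout.inl f π))
  have hiz : Mono iz := Abelian.mono_pushout_of_mono_f f π
  let B : Subobject E := Subobject.mk iz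
  obtain ⟨M, -, hMB, hMmax⟩ := exists_maximal_inf_eq_bot.{w} (⊥ : Subobject E) B (bot_inf_eq B)
  let q : E ⟶ cokernel M.arrow := cokernel.π M.arrow
  have hζ' : Mono (B.arrow ≫ q) := mono_comp_cokernel_of_inf_eq_bot M B hMB
  let ζ : Z ⟶ cokernel M.arrow := iz ≫ q
  have hζ : Mono ζ := by
    have e : (Subobject.underlyingIso iz).inv ≫ (B.arrow ≫ q) = ζ := by
      rw [← Category.assoc]
      congr 1
      simp [B]
    rw [← e]
    exact mono_comp _ _
  have hEM : ¬ IsZero (cokernel M.arrow) := by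
    intro h0
    apply hZ
    rw [IsZero.iff_id_eq_zero, ← cancel_mono ζ]
    exact h0.eq_of_tgt _ _
  obtain ⟨S, s, hs, hS, hSQ⟩ := h (ix ≫ q) (epi_comp _ _) hEM
  refine ⟨pullback s ζ, pullback.snd s ζ, inferInstance, ?_, sq_of_mono P (pullback.fst s ζ) hSQ⟩
  intro hS'
  -- the preimage of `S` in `E`
  let M' : Subobject E := kernelSubobject (q ≫ cokernel.π s)
  have hMM' : M ≤ M' := by
    apply le_kernelSubobject
    rw [cokernel.condition_assoc, zero_comp]
  have hM'B : M' ⊓ B = ⊥ := by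
    apply inf_eq_bot_of_forall
    intro T t htM' htB
    have h1 : t ≫ q ≫ cokernel.π s = 0 := by
      rw [← Subobject.factorThru_arrow _ _ htM', Category.assoc, kernelSubobject_arrow_comp,
        comp_zero]
    let t' : T ⟶ Z := Subobject.factorThru _ t htB ≫ (Subobject.underlyingIso iz).hom
    have ht' : t' ≫ iz = t := by
      simp only [t', Category.assoc, Subobject.underlyingIso_hom_comp_eq_mk]
      exact Subobject.factorThru_arrow _ _ htB
    let u : T ⟶ S := Abelian.monoLift s (t ≫ q) (by rw [Category.assoc]; exact h1)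
    have hu : u ≫ s = t ≫ q := Abelian.monoLift_comp _ _ _
    have hut : u ≫ s = t' ≫ ζ := by
      rw [hu, ← ht', Category.assoc]
    have hu0 : u = 0 := by
      rw [← pullback.lift_fst u t' hut]
      rw [hS'.eq_of_tgt (pullback.lift u t' hut) 0, zero_comp]
    have h2 : t ≫ q = 0 := by rw [← hu, hu0, zero_comp]
    have htM : M.Factors t :=
      factors_of_comp_eq M t (Abelian.monoLift M.arrow t h2) (Abelian.monoLift_comp _ _ _)
    exact eq_zero_of_factors_of_inf_eq_bot M B hMB t htM htB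
  have hM'M : M' = M := hMmax M' hMM' hM'B
  apply hS
  let p₁ : pullback s q ⟶ S := pullback.fst s q
  let p₂ : pullback s q ⟶ E := pullback.snd s q
  have hp₁ : Epi p₁ := Abelian.epi_pullback_of_epi_g s q
  have hp : p₁ ≫ s = p₂ ≫ q := pullback.condition
  have h3 : p₂ ≫ q ≫ cokernel.π s = 0 := by
    rw [← Category.assoc, ← hp, Category.assoc, cokernel.condition, comp_zero]
  have h4 : M'.Factors p₂ := by
    rw [kernelSubobject_factors_iff]
    exact h3
  rw [hM'M] at h4
  have h5 : p₂ ≫ q = 0 := by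
    rw [← Subobject.factorThru_arrow _ _ h4, Category.assoc, cokernel.condition, comp_zero]
  have h6 : p₁ = 0 := by
    rw [← cancel_mono s, hp, h5, zero_comp]
  rw [IsZero.iff_id_eq_zero, ← cancel_epi p₁, h6, zero_comp, zero_comp]

instance instSerreQQ : (QQ.{w} P).IsSerreClass where
  exists_zero := ⟨_, isZero_zero C, qq_of_isZero P (isZero_zero C)⟩
  prop_of_mono f _ h := qq_of_mono P f h
  prop_of_epi f _ h := qq_of_epi P f h
  prop_X₂_of_shortExact hS h₁ h₃ := qq_of_shortExact P _ hS h₁ h₃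

theorem isLocalizing_qq : GabLoc.IsLocalizing.{w} (QQ.{w} P) where
  isSerreClass := inferInstance
  isClosedUnderCoproducts J := by
    constructor
    rintro X ⟨p⟩
    intro Z π hπ hZ
    by_cases h0 : ∀ j, p.ι.app j ≫ π = 0
    · exfalso
      apply hZ
      have : π = 0 := by
        apply p.isColimit.hom_ext
        intro j
        rw [h0 j, comp_zero]
      rw [IsZero.iff_id_eq_zero, ← cancel_epi π, this, zero_comp, zero_comp]
    · rw [not_forall] at h0
      obtain ⟨j, hj⟩ := h0
      exact qq_image P (p.prop_diag_obj j) _ hj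

/-- the step: a proper subobject can be enlarged with a quotient which is a subquotient of a
coproduct. -/
theorem exists_larger {X : C} (hX : QQ.{w} P X) (A : Subobject X) (hA : A ≠ ⊤) :
    ∃ (A' : Subobject X) (h : A < A'),
      GabLoc.subquotCoprod.{w} P (cokernel (Subobject.ofLE A A' h.le)) := by
  let π : X ⟶ cokernel A.arrow := cokernel.π A.arrow
  have hZ : ¬ IsZero (cokernel A.arrow) := by
    intro h0
    apply hA
    rw [← Subobject.isIso_arrow_iff_eq_top]
    have : Epi A.arrow := Preadditive.epi_of_isZero_cokernel _ h0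
    exact isIso_of_mono_of_epi _
  obtain ⟨S, s, hs, hS, hSQ⟩ := hX π inferInstance hZ
  let A' : Subobject X := kernelSubobject (π ≫ cokernel.π s)
  have hAA' : A ≤ A' := by
    apply le_kernelSubobject
    rw [cokernel.condition_assoc, zero_comp]
  have hq0 : (A'.arrow ≫ π) ≫ cokernel.π s = 0 := by
    rw [Category.assoc, kernelSubobject_arrow_comp]
  let q : (A' : C) ⟶ S := Abelian.monoLift s (A'.arrow ≫ π) hq0
  have hq : q ≫ s = A'.arrow ≫ π := Abelian.monoLift_comp _ _ _
  have hne : A ≠ A' := by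
    intro hEq
    apply hS
    let p₁ : pullback s π ⟶ S := pullback.fst s π
    let p₂ : pullback s π ⟶ X := pullback.snd s π
    have hp₁ : Epi p₁ := Abelian.epi_pullback_of_epi_g s π
    have hp : p₁ ≫ s = p₂ ≫ π := pullback.condition
    have h3 : p₂ ≫ π ≫ cokernel.π s = 0 := by
      rw [← Category.assoc, ← hp, Category.assoc, cokernel.condition, comp_zero]
    have h4 : A'.Factors p₂ := by
      rw [kernelSubobject_factors_iff]
      exact h3
    rw [← hEq] at h4
    have h5 : p₂ ≫ π = 0 := by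
      rw [← Subobject.factorThru_arrow _ _ h4, Category.assoc, cokernel.condition, comp_zero]
    have h6 : p₁ = 0 := by
      rw [← cancel_mono s, hp, h5, zero_comp]
    rw [IsZero.iff_id_eq_zero, ← cancel_epi p₁, h6, zero_comp, zero_comp]
  refine ⟨A', lt_of_le_of_ne hAA' hne, ?_⟩
  have hd0 : Subobject.ofLE A A' hAA' ≫ q = 0 := by
    rw [← cancel_mono s, Category.assoc, hq, ← Category.assoc, Subobject.ofLE_arrow,
      cokernel.condition, zero_comp]
  let d : cokernel (Subobject.ofLE A A' hAA') ⟶ S := cokernel.desc _ q hd0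
  have hd : Mono d := by
    apply Preadditive.mono_of_cancel_zero
    intro T t ht
    let e : pullback t (cokernel.π (Subobject.ofLE A A' hAA')) ⟶ T := pullback.fst _ _
    let t' : pullback t (cokernel.π (Subobject.ofLE A A' hAA')) ⟶ (A' : C) := pullback.snd _ _
    have he : Epi e := Abelian.epi_pullback_of_epi_g _ _
    have hc : e ≫ t = t' ≫ cokernel.π (Subobject.ofLE A A' hAA') := pullback.condition
    have h1 : t' ≫ q = 0 := by
      have : t' ≫ cokernel.π (Subobject.ofLE A A' hAA') ≫ d = t' ≫ q := by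
        rw [cokernel.π_desc]
      rw [← this, ← Category.assoc, ← hc, Category.assoc, ht, comp_zero]
    have h2 : (t' ≫ A'.arrow) ≫ π = 0 := by
      rw [Category.assoc, ← hq, ← Category.assoc, h1, zero_comp]
    let u := Abelian.monoLift A.arrow (t' ≫ A'.arrow) h2
    have hu : u ≫ A.arrow = t' ≫ A'.arrow := Abelian.monoLift_comp _ _ _
    have h3 : t' = u ≫ Subobject.ofLE A A' hAA' := by
      rw [← cancel_mono A'.arrow, Category.assoc, Subobject.ofLE_arrow, hu]
    have h4 : e ≫ t = 0 := by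
      rw [hc, h3, Category.assoc, cokernel.condition, comp_zero]
    rw [← cancel_epi e, h4, comp_zero]
  exact sq_of_mono P d hSQ

end Sub

end Groth.Agent.H16.GabSQ
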