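import Mathlib.CategoryTheory.Abelian.Refinements
import Mathlib.CategoryTheory.Subobject.Limits
import Mathlib.CategoryTheory.Abelian.Basic

/-!
# Generalized elements and subobjects in abelian categories (helper16)

`x ∈ im f` is phrased as `x ≫ cokernel.π f = 0`; this is equivalent to the existence of a lift of
`x` along `f` after refinement, and to `(imageSubobject f).Factors x`.
-/

set_option autoImplicit false
universe v u

namespace Groth.Agent.H16.GenElem

open CategoryTheory CategoryTheory.Limits

variable {V : Type u} [Category.{v} V] [Abelian V]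

theorem factors_iff_comp_cokernel {A T : V} (S : Subobject A) (x : T ⟶ A) :
    S.Factors x ↔ x ≫ cokernel.π S.arrow = 0 := by
  constructor
  · intro h
    rw [← S.factorThru_arrow x h, Category.assoc, cokernel.condition, comp_zero]
  · intro h
    rw [Subobject.factors_iff]
    have : Mono S.arrow := inferInstance
    exact ⟨Abelian.monoLift S.arrow x h, Abelian.monoLift_comp S.arrow x h⟩

theorem factors_of_epi_comp {A T T' : V} (S : Subobject A) (π : T' ⟶ T) [Epi π] (x : T ⟶ A)
    (h : S.Factors (π ≫ x)) : S.Factors x := by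
  rw [factors_iff_comp_cokernel] at h ⊢
  rw [Category.assoc] at h
  exact (cancel_epi π).mp (h.trans comp_zero.symm)

/-- `x ∈ im f` iff `x` lifts along `f` after a refinement. -/
theorem comp_cokernel_eq_zero_iff {A B T : V} (f : B ⟶ A) (x : T ⟶ A) :
    x ≫ cokernel.π f = 0 ↔
      ∃ (T' : V) (π : T' ⟶ T) (_ : Epi π) (b : T' ⟶ B), π ≫ x = b ≫ f :=
  CokernelCofork.IsColimit.comp_π_eq_zero_iff_up_to_refinements (cokernelIsCokernel f) x

theorem comp_cokernel_eq_zero_of_lift {A B T T' : V} (f : B ⟶ A) (x : T ⟶ A) (π : T' ⟶ T) [Epi π]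
    (b : T' ⟶ B) (h : π ≫ x = b ≫ f) : x ≫ cokernel.π f = 0 :=
  (comp_cokernel_eq_zero_iff f x).mpr ⟨T', π, inferInstance, b, h⟩

theorem image_factors_iff {A B T : V} (f : B ⟶ A) (x : T ⟶ A) :
    (imageSubobject f).Factors x ↔ x ≫ cokernel.π f = 0 := by
  constructor
  · intro h
    obtain ⟨T', π, hπ, b, hb⟩ := surjective_up_to_refinements_of_epi
      (factorThruImageSubobject f) ((imageSubobject f).factorThru x h)
    refine comp_cokernel_eq_zero_of_lift f x π b ?_
    rw [← (imageSubobject f).factorThru_arrow x h, ← Category.assoc, hb, Category.assoc,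
      imageSubobject_arrow_comp]
  · intro h
    obtain ⟨T', π, hπ, b, hb⟩ := (comp_cokernel_eq_zero_iff f x).mp h
    apply factors_of_epi_comp _ π
    have h2 : π ≫ x = (b ≫ factorThruImageSubobject f) ≫ (imageSubobject f).arrow := by
      rw [hb, Category.assoc, imageSubobject_arrow_comp]
    rw [h2]
    exact Subobject.factors_comp_arrow (b ≫ factorThruImageSubobject f)

theorem image_le_iff {A B B' : V} (f : B ⟶ A) (g : B' ⟶ A) :
    imageSubobject f ≤ imageSubobject g ↔ f ≫ cokernel.π g = 0 := by
  rw [← image_factors_iff]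
  constructor
  · intro h
    have := Subobject.factors_of_le (imageSubobject f).arrow h (Subobject.factors_self _)
    rw [← imageSubobject_arrow_comp f]
    exact Subobject.factors_of_factors_right (factorThruImageSubobject f) this
  · intro h
    apply Subobject.le_of_factors
    have h2 : (imageSubobject g).Factors
        (factorThruImageSubobject f ≫ (imageSubobject f).arrow) := by
      rw [imageSubobject_arrow_comp]; exact h
    exact factors_of_epi_comp _ (factorThruImageSubobject f) _ h2

theorem image_le_iff_subobject {A B : V} (f : B ⟶ A) (S : Subobject A) :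
    imageSubobject f ≤ S ↔ S.Factors f := by
  constructor
  · intro h
    rw [← imageSubobject_arrow_comp f]
    exact Subobject.factors_of_factors_right (factorThruImageSubobject f)
      (Subobject.factors_of_le _ h (Subobject.factors_self _))
  · intro h
    exact imageSubobject_le f (S.factorThru f h) (S.factorThru_arrow f h)

theorem image_eq_iff {A B B' : V} (f : B ⟶ A) (g : B' ⟶ A) :
    imageSubobject f = imageSubobject g ↔ f ≫ cokernel.π g = 0 ∧ g ≫ cokernel.π f = 0 := by
  rw [← image_le_iff, ← image_le_iff]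
  exact ⟨fun h => ⟨h.le, h.ge⟩, fun h => le_antisymm h.1 h.2⟩

/-- a morphism is epi iff its cokernel projection kills everything -/
theorem epi_iff_forall_comp_cokernel {X Y : V} (f : X ⟶ Y) :
    Epi f ↔ ∀ ⦃T : V⦄ (y : T ⟶ Y), y ≫ cokernel.π f = 0 := by
  rw [epi_iff_surjective_up_to_refinements]
  constructor
  · intro h T y
    exact (comp_cokernel_eq_zero_iff f y).mpr (h y)
  · intro h T y
    exact (comp_cokernel_eq_zero_iff f y).mp (h y)

theorem nsmul_id_comp {X Y : V} (t : ℕ) (f : X ⟶ Y) : (t • 𝟙 X) ≫ f = t • f := by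
  rw [Preadditive.nsmul_comp, Category.id_comp]

theorem comp_nsmul_id {X Y : V} (t : ℕ) (f : X ⟶ Y) : f ≫ (t • 𝟙 Y) = t • f := by
  rw [Preadditive.comp_nsmul, Category.comp_id]

theorem nsmul_id_comm {X Y : V} (t : ℕ) (f : X ⟶ Y) : (t • 𝟙 X) ≫ f = f ≫ (t • 𝟙 Y) := by
  rw [nsmul_id_comp, comp_nsmul_id]

theorem nsmul_id_comp_nsmul_id {X : V} (s t : ℕ) : (s • 𝟙 X) ≫ (t • 𝟙 X) = (s * t) • 𝟙 X := by
  rw [nsmul_id_comp, mul_smul]

theorem pow_nsmul_id_comp {X : V} (p a b : ℕ) :
    ((p ^ a) • 𝟙 X) ≫ ((p ^ b) • 𝟙 X) = (p ^ (a + b)) • 𝟙 X := by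
  rw [nsmul_id_comp_nsmul_id, pow_add]

end Groth.Agent.H16.GenElem
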