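import Groth.Agent.H16.GenElem
import Mathlib.CategoryTheory.Abelian.Indization
import Mathlib.CategoryTheory.Generator.Indization
import Mathlib.CategoryTheory.Subobject.ArtinianObject
import Mathlib.CategoryTheory.Preadditive.Biproducts
import Mathlib.CategoryTheory.Limits.Preserves.Shapes.Biproducts
import Mathlib.CategoryTheory.Preadditive.AdditiveFunctor
import Mathlib.RingTheory.Coprime.Lemmas
import Mathlib.Tactic.Linarith

/-!
# Ind-objects of cofinite type (helper16)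
-/

set_option autoImplicit false
universe v

namespace Groth.Agent.H16.IndCof

open CategoryTheory CategoryTheory.Limits Groth.Agent.H16.GenElem

variable {C : Type v} [SmallCategory C] [Abelian C]

attribute [local instance] preservesBinaryBiproducts_of_preservesBinaryProducts in
instance yoneda_additive : (Ind.yoneda (C := C)).Additive :=
  Functor.additive_of_preservesBinaryBiproducts _

/-- two maps out of an ind-object agreeing on all maps from objects of `C` are equal -/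
theorem hom_ext_yoneda {A Y : Ind C} (f g : A ⟶ Y)
    (h : ∀ (X : C) (t : Ind.yoneda.obj X ⟶ A), t ≫ f = t ≫ g) : f = g := by
  apply Ind.isSeparating_range_yoneda
  rintro G ⟨X⟩ t
  exact h X t

theorem yoneda_map_nsmul_id (X : C) (m : ℕ) :
    (Ind.yoneda (C := C)).map (m • 𝟙 X) = m • 𝟙 (Ind.yoneda.obj X) := by
  rw [Functor.map_nsmul, CategoryTheory.Functor.map_id]

/-- maps from an object of `C` killed by `m` are killed by `m` -/
theorem leg_comp_nsmul {A : Ind C} (X : C) (t : Ind.yoneda.obj X ⟶ A) (m : ℕ)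
    (hm : m • 𝟙 X = 0) : t ≫ (m • 𝟙 A) = 0 := by
  rw [← nsmul_id_comm, ← yoneda_map_nsmul_id, hm, Functor.map_zero, zero_comp]

/-- the `m`-torsion of `A`, when it is an object of `C` -/
structure Tors (A : Ind C) (m : ℕ) where
  X : C
  j : Ind.yoneda.obj X ⟶ A
  mono : Mono j
  zero : j ≫ (m • 𝟙 A) = 0
  lift : ∀ {T : Ind C} (x : T ⟶ A), x ≫ (m • 𝟙 A) = 0 → ∃ x' : T ⟶ Ind.yoneda.obj X, x' ≫ j = x

theorem exists_tors {A : Ind C} {m : ℕ}
    (h : (Ind.yoneda (C := C)).essImage (kernel (m • 𝟙 A))) : Nonempty (Tors A m) := by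
  obtain ⟨X, ⟨e⟩⟩ := h
  refine ⟨{ X := X, j := e.hom ≫ kernel.ι _, mono := inferInstance, zero := ?_, lift := ?_ }⟩
  · rw [Category.assoc, kernel.condition, comp_zero]
  · intro T x hx
    refine ⟨kernel.lift _ x hx ≫ e.inv, ?_⟩
    rw [Category.assoc, Iso.inv_hom_id_assoc, kernel.lift_ι]

attribute [instance] Tors.mono

/-- the kernel of `m` on `A` is isomorphic to the object of `Tors` -/
theorem Tors.essImage {A : Ind C} {m : ℕ} (t : Tors A m) :
    (Ind.yoneda (C := C)).essImage (kernel (m • 𝟙 A)) := by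
  obtain ⟨x', hx'⟩ := t.lift (kernel.ι (m • 𝟙 A)) (kernel.condition _)
  refine ⟨t.X, ⟨⟨kernel.lift _ t.j t.zero, x', ?_, ?_⟩⟩⟩
  · rw [← cancel_mono t.j, Category.assoc, hx', kernel.lift_ι, Category.id_comp]
  · rw [← cancel_mono (kernel.ι (m • 𝟙 A)), Category.assoc, kernel.lift_ι, hx', Category.id_comp]

/-- induced maps between torsion objects -/
theorem Tors.exists_map {A : Ind C} {m m' : ℕ} (t : Tors A m) (t' : Tors A m') (f : A ⟶ A)
    (hf : t.j ≫ f ≫ (m' • 𝟙 A) = 0) :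
    ∃ u : t.X ⟶ t'.X, Ind.yoneda.map u ≫ t'.j = t.j ≫ f := by
  obtain ⟨g, hg⟩ := t'.lift (t.j ≫ f) (by rw [Category.assoc]; exact hf)
  exact ⟨Ind.yoneda.preimage g, by rw [Functor.map_preimage]; exact hg⟩


section Stab

variable (hart : ∀ X : C, IsArtinianObject X) (q : ℕ) (A : Ind C)
  (hA : ∀ k : ℕ, (Ind.yoneda (C := C)).essImage (kernel ((q ^ k) • 𝟙 A)))

/-- Step 1: `q^K A ∩ A[q] ⊆ q^(K+1) A` for `K` large (Artinian argument in `A[q]`). -/
theorem exists_stab_one (hart : ∀ X : C, IsArtinianObject X) (q : ℕ) (A : Ind C)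
    (hA : ∀ k : ℕ, (Ind.yoneda (C := C)).essImage (kernel ((q ^ k) • 𝟙 A))) :
    ∃ N : ℕ, ∀ K : ℕ, N ≤ K → ∀ ⦃T : Ind C⦄ (x : T ⟶ A),
      x ≫ cokernel.π ((q ^ K) • 𝟙 A) = 0 → x ≫ ((q ^ 1) • 𝟙 A) = 0 →
      x ≫ cokernel.π ((q ^ (K + 1)) • 𝟙 A) = 0 := by
  classical
  -- torsion objects
  have ht : ∀ k, Nonempty (Tors A (q ^ k)) := fun k => exists_tors (hA k)
  choose t _ using fun k => (ht k).elim (fun a => (⟨a, trivial⟩ : ∃ _ : Tors A (q ^ k), True))
  -- the maps `u k : X_{k+1} → X_1` induced by `q^k`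
  have hu : ∀ k, ∃ u : (t (k + 1)).X ⟶ (t 1).X,
      Ind.yoneda.map u ≫ (t 1).j = (t (k + 1)).j ≫ ((q ^ k) • 𝟙 A) := by
    intro k
    apply Tors.exists_map
    rw [pow_nsmul_id_comp]
    exact (t (k + 1)).zero
  choose u hu using hu
  -- the maps `w k : X_{k+2} → X_{k+1}` induced by `q`
  have hw : ∀ k, ∃ w : (t (k + 1 + 1)).X ⟶ (t (k + 1)).X,
      Ind.yoneda.map w ≫ (t (k + 1)).j = (t (k + 1 + 1)).j ≫ ((q ^ 1) • 𝟙 A) := by
    intro k
    apply Tors.exists_map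
    rw [pow_nsmul_id_comp, add_comm 1 (k + 1)]
    exact (t (k + 1 + 1)).zero
  choose w hw using hw
  have huw : ∀ k, u (k + 1) = w k ≫ u k := by
    intro k
    apply Ind.yoneda.map_injective
    rw [← cancel_mono (t 1).j, hu, Functor.map_comp, Category.assoc, hu, ← Category.assoc, hw,
      Category.assoc, pow_nsmul_id_comp, add_comm 1 k]
  -- the antitone chain of images
  let U : ℕ →o (Subobject (t 1).X)ᵒᵈ :=
    { toFun := fun k => OrderDual.toDual (imageSubobject (u k))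
      monotone' := by
        apply monotone_nat_of_le_succ
        intro k
        show imageSubobject (u (k + 1)) ≤ imageSubobject (u k)
        rw [huw]
        exact imageSubobject_comp_le _ _ }
  have := hart (t 1).X
  obtain ⟨N, hN⟩ := antitone_chain_condition_of_isArtinianObject U
  refine ⟨N, fun K hK T x hx1 hx2 => ?_⟩
  -- `im (u K) = im (u (K+1))`
  have h1 : imageSubobject (u K) = imageSubobject (u (K + 1)) := by
    have a1 := hN K hK
    have a2 := hN (K + 1) (by omega)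
    exact OrderDual.toDual.injective (a1.symm.trans a2)
  have h2 : u K ≫ cokernel.π (u (K + 1)) = 0 := (image_le_iff _ _).mp h1.le
  obtain ⟨T₀, π₀, hπ₀, b₀, hb₀⟩ := (comp_cokernel_eq_zero_iff _ _).mp h2
  -- chase
  obtain ⟨T₁, π₁, hπ₁, b₁, hb₁⟩ := (comp_cokernel_eq_zero_iff _ _).mp hx1
  have hb₁0 : b₁ ≫ ((q ^ (K + 1)) • 𝟙 A) = 0 := by
    rw [← pow_nsmul_id_comp, ← Category.assoc, ← hb₁, Category.assoc, hx2, comp_zero]
  obtain ⟨b₁', hb₁'⟩ := (t (K + 1)).lift b₁ hb₁0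
  have : Epi (Ind.yoneda.map π₀) := inferInstance
  obtain ⟨T₂, π₂, hπ₂, c, hc⟩ := surjective_up_to_refinements_of_epi (Ind.yoneda.map π₀) b₁'
  have : Epi (π₂ ≫ π₁) := epi_comp _ _
  refine comp_cokernel_eq_zero_of_lift _ x (π₂ ≫ π₁)
    (c ≫ Ind.yoneda.map b₀ ≫ (t (K + 1 + 1)).j) ?_
  calc (π₂ ≫ π₁) ≫ x = π₂ ≫ b₁ ≫ ((q ^ K) • 𝟙 A) := by rw [Category.assoc, hb₁]
    _ = π₂ ≫ b₁' ≫ (t (K + 1)).j ≫ ((q ^ K) • 𝟙 A) := by rw [← hb₁', Category.assoc]
    _ = (π₂ ≫ b₁') ≫ Ind.yoneda.map (u K) ≫ (t 1).j := by rw [hu, Category.assoc]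
    _ = (c ≫ Ind.yoneda.map π₀) ≫ Ind.yoneda.map (u K) ≫ (t 1).j := by rw [hc]
    _ = c ≫ Ind.yoneda.map (π₀ ≫ u K) ≫ (t 1).j := by
        rw [Functor.map_comp, Category.assoc, Category.assoc]
    _ = c ≫ Ind.yoneda.map (b₀ ≫ u (K + 1)) ≫ (t 1).j := by rw [hb₀]
    _ = c ≫ Ind.yoneda.map b₀ ≫ (t (K + 1 + 1)).j ≫ ((q ^ (K + 1)) • 𝟙 A) := by
        rw [Functor.map_comp, Category.assoc, hu]
    _ = (c ≫ Ind.yoneda.map b₀ ≫ (t (K + 1 + 1)).j) ≫ ((q ^ (K + 1)) • 𝟙 A) := by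
        simp only [Category.assoc]

end Stab


section Step2

variable {V : Type*} [Category V] [Abelian V]

/-- Step 2 (any abelian category): induction on the order. -/
theorem stab_all (q : ℕ) (A : V) (N : ℕ)
    (h1 : ∀ K : ℕ, N ≤ K → ∀ ⦃T : V⦄ (x : T ⟶ A),
      x ≫ cokernel.π ((q ^ K) • 𝟙 A) = 0 → x ≫ ((q ^ 1) • 𝟙 A) = 0 →
      x ≫ cokernel.π ((q ^ (K + 1)) • 𝟙 A) = 0) :
    ∀ (k K : ℕ), N ≤ K → ∀ ⦃T : V⦄ (x : T ⟶ A),
      x ≫ cokernel.π ((q ^ K) • 𝟙 A) = 0 → x ≫ ((q ^ k) • 𝟙 A) = 0 →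
      x ≫ cokernel.π ((q ^ (K + 1)) • 𝟙 A) = 0 := by
  intro k
  induction k with
  | zero =>
    intro K _ T x _ hx0
    rw [pow_zero, one_smul, Category.comp_id] at hx0
    rw [hx0, zero_comp]
  | succ k ih =>
    intro K hK T x hx1 hx2
    have hy1 : (x ≫ ((q ^ k) • 𝟙 A)) ≫ ((q ^ 1) • 𝟙 A) = 0 := by
      rw [Category.assoc, pow_nsmul_id_comp]; exact hx2
    obtain ⟨T₁, π₁, hπ₁, b₁, hb₁⟩ := (comp_cokernel_eq_zero_iff _ _).mp hx1
    have hy2 : (x ≫ ((q ^ k) • 𝟙 A)) ≫ cokernel.π ((q ^ (K + k)) • 𝟙 A) = 0 := by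
      refine comp_cokernel_eq_zero_of_lift _ _ π₁ b₁ ?_
      rw [← Category.assoc, hb₁, Category.assoc, pow_nsmul_id_comp]
    have hy3 := h1 (K + k) (by omega) _ hy2 hy1
    obtain ⟨T₂, π₂, hπ₂, b₂, hb₂⟩ := (comp_cokernel_eq_zero_iff _ _).mp hy3
    -- the corrected element
    have hx'1 : (π₂ ≫ x - b₂ ≫ ((q ^ (K + 1)) • 𝟙 A)) ≫ cokernel.π ((q ^ K) • 𝟙 A) = 0 := by
      rw [Preadditive.sub_comp, Category.assoc, hx1, comp_zero, zero_sub, neg_eq_zero,
        add_comm K 1, ← pow_nsmul_id_comp, Category.assoc, Category.assoc, cokernel.condition,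
        comp_zero, comp_zero]
    have hx'2 : (π₂ ≫ x - b₂ ≫ ((q ^ (K + 1)) • 𝟙 A)) ≫ ((q ^ k) • 𝟙 A) = 0 := by
      rw [Preadditive.sub_comp, Category.assoc, hb₂, Category.assoc, pow_nsmul_id_comp,
        show K + 1 + k = K + k + 1 by omega, sub_self]
    have h3 := ih K hK _ hx'1 hx'2
    rw [Preadditive.sub_comp, Category.assoc, Category.assoc, cokernel.condition, comp_zero,
      sub_zero] at h3
    exact (cancel_epi π₂).mp (h3.trans comp_zero.symm)

end Step2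

theorem exists_split (q : ℕ) : ∀ t : ℕ, 0 < t →
    ∃ t₁ t₂ k : ℕ, t = t₁ * t₂ ∧ t₁ ∣ q ^ k ∧ Nat.Coprime t₂ q := by
  intro t
  induction t using Nat.strong_induction_on with
  | _ t ih =>
    intro ht
    by_cases hc : Nat.Coprime t q
    · exact ⟨1, t, 0, by simp, by simp, hc⟩
    · have hd1 : Nat.gcd t q ≠ 1 := hc
      have hdt : Nat.gcd t q ∣ t := Nat.gcd_dvd_left t q
      have hdq : Nat.gcd t q ∣ q := Nat.gcd_dvd_right t q
      have hd0 : 0 < Nat.gcd t q := Nat.gcd_pos_of_pos_left q ht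
      obtain ⟨t', ht'⟩ := hdt
      have ht'0 : 0 < t' := by
        rcases Nat.eq_zero_or_pos t' with h | h
        · rw [h, mul_zero] at ht'; omega
        · exact h
      have hlt : t' < t := by
        have h2 : 2 ≤ Nat.gcd t q := by omega
        calc t' = 1 * t' := (one_mul _).symm
          _ < Nat.gcd t q * t' := Nat.mul_lt_mul_of_pos_right (by omega) ht'0
          _ = t := ht'.symm
      obtain ⟨t₁, t₂, k, e, hdvd, hcop⟩ := ih t' hlt ht'0
      refine ⟨Nat.gcd t q * t₁, t₂, k + 1, ?_, ?_, hcop⟩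
      · rw [mul_assoc, ← e]; exact ht'
      · rw [pow_succ']; exact mul_dvd_mul hdq hdvd

section Step3

/-- The images of the powers of `q` on an ind-object of cofinite type stabilize. -/
theorem exists_image_stab (hart : ∀ X : C, IsArtinianObject X)
    (htor : ∀ X : C, ∃ m : ℕ, 0 < m ∧ m • 𝟙 X = 0) (q : ℕ) (A : Ind C)
    (hA : ∀ k : ℕ, (Ind.yoneda (C := C)).essImage (kernel ((q ^ k) • 𝟙 A))) :
    ∃ N : ℕ, ∀ K : ℕ, N ≤ K →
      imageSubobject ((q ^ K) • 𝟙 A) = imageSubobject ((q ^ N) • 𝟙 A) := by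
  obtain ⟨N, hN⟩ := exists_stab_one hart q A hA
  have hall := stab_all q A N hN
  have hstep : ∀ K : ℕ, N ≤ K →
      imageSubobject ((q ^ K) • 𝟙 A) ≤ imageSubobject ((q ^ (K + 1)) • 𝟙 A) := by
    intro K hK
    rw [image_le_iff]
    apply hom_ext_yoneda
    intro X h
    rw [comp_zero, ← Category.assoc]
    obtain ⟨t, ht0, ht⟩ := htor X
    have hth : t • h = 0 := by rw [← comp_nsmul_id]; exact leg_comp_nsmul X h t ht
    obtain ⟨t₁, t₂, k, e, ⟨e', he'⟩, hcop⟩ := exists_split q t ht0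
    -- Bezout
    obtain ⟨ga, gb, hbez⟩ : IsCoprime (t₂ : ℤ) (q : ℤ) := Nat.isCoprime_iff_coprime.mpr hcop
    set x := h ≫ ((q ^ K) • 𝟙 A) with hx
    have hxh : x = (q ^ K) • h := comp_nsmul_id _ _
    -- first piece: `q • x ∈ im q^(K+1)`
    have hp1 : (q • x) ≫ cokernel.π ((q ^ (K + 1)) • 𝟙 A) = 0 := by
      have : q • x = h ≫ ((q ^ (K + 1)) • 𝟙 A) := by
        rw [hxh, comp_nsmul_id, pow_succ, mul_comm, mul_smul]
      rw [this, Category.assoc, cokernel.condition, comp_zero]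
    -- second piece: `t₂ • x` is killed by `q^k` and lies in `im q^K`
    have hp2 : (t₂ • x) ≫ cokernel.π ((q ^ (K + 1)) • 𝟙 A) = 0 := by
      apply hall k K hK
      · have : t₂ • x = (t₂ • h) ≫ ((q ^ K) • 𝟙 A) := by
          rw [hxh, comp_nsmul_id, smul_comm]
        rw [this, Category.assoc, cokernel.condition, comp_zero]
      · rw [comp_nsmul_id, he', mul_comm t₁ e', mul_smul, ← mul_smul t₁ t₂, ← e, hxh,
          smul_comm t, hth, smul_zero, smul_zero]
    have hdecomp : x = ga • (t₂ • x) + gb • (q • x) := by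
      rw [← natCast_zsmul x t₂, ← natCast_zsmul x q, smul_smul, smul_smul, ← add_smul, hbez,
        one_smul]
    rw [hdecomp, Preadditive.add_comp, Preadditive.zsmul_comp, Preadditive.zsmul_comp, hp1, hp2,
      smul_zero, smul_zero, add_zero]
  have hanti : ∀ K : ℕ, imageSubobject ((q ^ (K + 1)) • 𝟙 A) ≤ imageSubobject ((q ^ K) • 𝟙 A) := by
    intro K
    rw [add_comm, ← pow_nsmul_id_comp]
    exact imageSubobject_comp_le _ _
  refine ⟨N, fun K hK => ?_⟩
  induction K, hK using Nat.le_induction with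
  | base => rfl
  | succ K hK ih => rw [← ih]; exact le_antisymm (hanti K) (hstep K hK)

end Step3

end Groth.Agent.H16.IndCof
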