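import Groth.Agent.H16.IndCof
import Mathlib.Algebra.Homology.ShortComplex.Exact
import Mathlib.CategoryTheory.Limits.Preserves.Shapes.Kernels

/-!
# Ind-objects of cofinite type, part 2: `A / q^n A` lies in `C` (helper16)
-/

set_option autoImplicit false
universe v

namespace Groth.Agent.H16.IndCof

open CategoryTheory CategoryTheory.Limits Groth.Agent.H16.GenElem

variable {C : Type v} [SmallCategory C] [Abelian C]

/-- a quotient of an object of `C` by the image of an object of `C` lies in `C` -/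
theorem essImage_of_exact {X₁ X₀ : C} (u : X₁ ⟶ X₀) {Q : Ind C} (h : Ind.yoneda.obj X₀ ⟶ Q)
    [Epi h] (w : Ind.yoneda.map u ≫ h = 0)
    (hex : ∀ ⦃T : Ind C⦄ (z : T ⟶ Ind.yoneda.obj X₀), z ≫ h = 0 →
      ∃ (T' : Ind C) (π : T' ⟶ T) (_ : Epi π) (b : T' ⟶ Ind.yoneda.obj X₁),
        π ≫ z = b ≫ Ind.yoneda.map u) :
    (Ind.yoneda (C := C)).essImage Q := by
  let S : ShortComplex (Ind C) := ShortComplex.mk (Ind.yoneda.map u) h w
  have hS : S.Exact := by
    rw [ShortComplex.exact_iff_exact_up_to_refinements]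
    intro T z hz
    exact hex z hz
  have : Epi S.g := (inferInstance : Epi h)
  have hc := hS.gIsCokernel
  let e : Q ≅ cokernel (Ind.yoneda.map u) :=
    IsColimit.coconePointUniqueUpToIso hc (colimit.isColimit (parallelPair (Ind.yoneda.map u) 0))
  exact ⟨cokernel u, ⟨PreservesCokernel.iso Ind.yoneda u ≪≫ e.symm⟩⟩

/-- For an ind-object of cofinite type whose `q`-power images stabilize, every `A / q^n A` lies in
`C`. -/
theorem essImage_cokernel (q : ℕ) (A : Ind C)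
    (hA : ∀ k : ℕ, (Ind.yoneda (C := C)).essImage (kernel ((q ^ k) • 𝟙 A)))
    (N : ℕ) (hN : ∀ K : ℕ, N ≤ K →
      imageSubobject ((q ^ K) • 𝟙 A) = imageSubobject ((q ^ N) • 𝟙 A)) (n : ℕ) :
    (Ind.yoneda (C := C)).essImage (cokernel ((q ^ n) • 𝟙 A)) := by
  obtain ⟨M, hMN, hMn⟩ : ∃ M, N ≤ M ∧ n ≤ M := ⟨max N n, le_max_left _ _, le_max_right _ _⟩
  obtain ⟨d, rfl⟩ : ∃ d, M = d + n := ⟨M - n, by omega⟩
  -- `im q^M = im q^(M+M)`
  have hMM : ((q ^ (d + n)) • 𝟙 A) ≫ cokernel.π ((q ^ (d + n + (d + n))) • 𝟙 A) = 0 := by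
    rw [← image_le_iff, hN (d + n) hMN, hN (d + n + (d + n)) (by omega)]
  obtain ⟨t⟩ := exists_tors (hA (d + n))
  obtain ⟨t'⟩ := exists_tors (hA (n + (d + n)))
  obtain ⟨u, hu⟩ := Tors.exists_map t' t ((q ^ n) • 𝟙 A)
    (by rw [pow_nsmul_id_comp]; exact t'.zero)
  have hc : ((q ^ (d + n)) • 𝟙 A) ≫ cokernel.π ((q ^ n) • 𝟙 A) = 0 := by
    rw [← pow_nsmul_id_comp, Category.assoc, cokernel.condition, comp_zero]
  -- the map `A[q^M] → A / q^n A` is epi
  have : Epi (t.j ≫ cokernel.π ((q ^ n) • 𝟙 A)) := by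
    rw [epi_iff_surjective_up_to_refinements]
    intro T y
    obtain ⟨T₀, π₀, hπ₀, x, hx⟩ :=
      surjective_up_to_refinements_of_epi (cokernel.π ((q ^ n) • 𝟙 A)) y
    have h1 : (x ≫ ((q ^ (d + n)) • 𝟙 A)) ≫ cokernel.π ((q ^ (d + n + (d + n))) • 𝟙 A) = 0 := by
      rw [Category.assoc, hMM, comp_zero]
    obtain ⟨T₁, π₁, hπ₁, b, hb⟩ := (comp_cokernel_eq_zero_iff _ _).mp h1
    have hz : (π₁ ≫ x - b ≫ ((q ^ (d + n)) • 𝟙 A)) ≫ ((q ^ (d + n)) • 𝟙 A) = 0 := by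
      rw [Preadditive.sub_comp, Category.assoc, hb, Category.assoc, pow_nsmul_id_comp, sub_self]
    obtain ⟨z', hz'⟩ := t.lift _ hz
    have : Epi (π₁ ≫ π₀) := epi_comp _ _
    refine ⟨T₁, π₁ ≫ π₀, inferInstance, z', ?_⟩
    rw [← Category.assoc z', hz', Preadditive.sub_comp]
    simp only [Category.assoc]
    rw [hc, comp_zero, sub_zero, hx]
  refine essImage_of_exact u (t.j ≫ cokernel.π ((q ^ n) • 𝟙 A)) ?_ ?_
  · rw [← Category.assoc, hu, Category.assoc, cokernel.condition, comp_zero]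
  · intro T z hz
    rw [← Category.assoc] at hz
    obtain ⟨T₁, π₁, hπ₁, b, hb⟩ := (comp_cokernel_eq_zero_iff _ _).mp hz
    have hb0 : b ≫ ((q ^ (n + (d + n))) • 𝟙 A) = 0 := by
      rw [← pow_nsmul_id_comp, ← Category.assoc, ← hb, Category.assoc, Category.assoc, t.zero,
        comp_zero, comp_zero]
    obtain ⟨b', hb'⟩ := t'.lift b hb0
    refine ⟨T₁, π₁, hπ₁, b', ?_⟩
    rw [← cancel_mono t.j, Category.assoc, Category.assoc, hu, ← Category.assoc b', hb', hb]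

end Groth.Agent.H16.IndCof
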