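import Groth.Agent.H16.IndCof2
import Mathlib.CategoryTheory.Limits.Preserves.Shapes.Images

/-!
# Ind-objects of cofinite type, part 3: the divisible part (helper16)
-/

set_option autoImplicit false
universe v

namespace Groth.Agent.H16.IndCof

open CategoryTheory CategoryTheory.Limits Groth.Agent.H16.GenElem

variable {C : Type v} [SmallCategory C] [Abelian C]

/-- an ind-object squeezed between two objects of `C` lies in `C` -/
theorem essImage_of_epi_mono {X₁ X₀ : C} {K : Ind C} (e : Ind.yoneda.obj X₁ ⟶ K) [Epi e]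
    (m : K ⟶ Ind.yoneda.obj X₀) [Mono m] : (Ind.yoneda (C := C)).essImage K := by
  have hfac : e ≫ m = Ind.yoneda.map (Ind.yoneda.preimage (e ≫ m)) := by
    rw [Functor.map_preimage]
  haveI : StrongEpi e := strongEpi_of_epi e
  exact ⟨image (Ind.yoneda.preimage (e ≫ m)),
    ⟨(PreservesImage.iso Ind.yoneda (Ind.yoneda.preimage (e ≫ m))).symm ≪≫
      (image.isoStrongEpiMono e m hfac).symm⟩⟩

/-- The `q^n`-torsion of `q^N A` lies in `C`. -/
theorem essImage_kernel_image (q : ℕ) (A : Ind C)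
    (hA : ∀ k : ℕ, (Ind.yoneda (C := C)).essImage (kernel ((q ^ k) • 𝟙 A))) (N n : ℕ) :
    (Ind.yoneda (C := C)).essImage
      (kernel ((q ^ n) • 𝟙 ((imageSubobject ((q ^ N) • 𝟙 A) : Subobject A) : Ind C))) := by
  set D := imageSubobject ((q ^ N) • 𝟙 A) with hD
  obtain ⟨t⟩ := exists_tors (hA n)
  obtain ⟨t'⟩ := exists_tors (hA (N + n))
  -- the mono `κ : D[q^n] → A`
  have hκ : (kernel.ι ((q ^ n) • 𝟙 (D : Ind C)) ≫ D.arrow) ≫ ((q ^ n) • 𝟙 A) = 0 := by
    rw [Category.assoc, ← nsmul_id_comm, ← Category.assoc, kernel.condition, zero_comp]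
  obtain ⟨m, hm⟩ := t.lift _ hκ
  haveI : Mono (m ≫ t.j) := by rw [hm]; infer_instance
  haveI : Mono m := mono_of_mono m t.j
  -- the map `r : A[q^(N+n)] → D`
  have hr0 : (t'.j ≫ factorThruImageSubobject ((q ^ N) • 𝟙 A)) ≫ ((q ^ n) • 𝟙 (D : Ind C)) = 0 := by
    rw [← cancel_mono D.arrow, zero_comp, Category.assoc, Category.assoc, nsmul_id_comm,
      ← Category.assoc (factorThruImageSubobject _), imageSubobject_arrow_comp,
      pow_nsmul_id_comp]
    exact t'.zero
  let e : Ind.yoneda.obj t'.X ⟶ kernel ((q ^ n) • 𝟙 (D : Ind C)) :=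
    kernel.lift _ (t'.j ≫ factorThruImageSubobject ((q ^ N) • 𝟙 A)) hr0
  have he : e ≫ kernel.ι _ ≫ D.arrow = t'.j ≫ ((q ^ N) • 𝟙 A) := by
    rw [← Category.assoc, kernel.lift_ι, Category.assoc, imageSubobject_arrow_comp]
  haveI : Epi e := by
    rw [epi_iff_surjective_up_to_refinements]
    intro T y
    have h1 : (y ≫ kernel.ι _ ≫ D.arrow) ≫ cokernel.π ((q ^ N) • 𝟙 A) = 0 := by
      rw [← image_factors_iff, ← Category.assoc]
      exact Subobject.factors_comp_arrow _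
    obtain ⟨T₁, π₁, hπ₁, b, hb⟩ := (comp_cokernel_eq_zero_iff _ _).mp h1
    have hb0 : b ≫ ((q ^ (N + n)) • 𝟙 A) = 0 := by
      have hκ' : kernel.ι ((q ^ n) • 𝟙 (D : Ind C)) ≫ D.arrow ≫ ((q ^ n) • 𝟙 A) = 0 := by
        rw [← Category.assoc]; exact hκ
      rw [← pow_nsmul_id_comp, ← Category.assoc, ← hb]
      simp only [Category.assoc]
      rw [hκ', comp_zero, comp_zero]
    obtain ⟨b', hb'⟩ := t'.lift b hb0
    refine ⟨T₁, π₁, hπ₁, b', ?_⟩
    rw [← cancel_mono (kernel.ι ((q ^ n) • 𝟙 (D : Ind C)) ≫ D.arrow)]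
    simp only [Category.assoc]
    rw [he, ← Category.assoc b', hb']
    exact hb
  exact essImage_of_epi_mono e m

end Groth.Agent.H16.IndCof
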