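import Groth.Agent.H16.IndCof3

/-!
# Ind-objects of cofinite type, part 4: quotients and kernels (helper16)
-/

set_option autoImplicit false
universe v

namespace Groth.Agent.H16.IndCof

open CategoryTheory CategoryTheory.Limits Groth.Agent.H16.GenElem

variable {C : Type v} [SmallCategory C] [Abelian C]

/-- induced maps between torsion objects of different ind-objects -/
theorem Tors.exists_map' {A B : Ind C} {m m' : ℕ} (t : Tors A m) (t' : Tors B m') (g : A ⟶ B)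
    (hg : t.j ≫ g ≫ (m' • 𝟙 B) = 0) :
    ∃ u : t.X ⟶ t'.X, Ind.yoneda.map u ≫ t'.j = t.j ≫ g := by
  obtain ⟨g', hg'⟩ := t'.lift (t.j ≫ g) (by rw [Category.assoc]; exact hg)
  exact ⟨Ind.yoneda.preimage g', by rw [Functor.map_preimage]; exact hg'⟩

theorem yoneda_comp_cokernel_iff {X₁ X₀ : C} (u : X₁ ⟶ X₀) {T : Ind C}
    (x : T ⟶ Ind.yoneda.obj X₀) :
    x ≫ Ind.yoneda.map (cokernel.π u) = 0 ↔
      ∃ (T' : Ind C) (π' : T' ⟶ T) (_ : Epi π') (b : T' ⟶ Ind.yoneda.obj X₁),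
        π' ≫ x = b ≫ Ind.yoneda.map u := by
  rw [← comp_cokernel_eq_zero_iff, ← PreservesCokernel.π_iso_hom Ind.yoneda u, ← Category.assoc]
  constructor
  · intro h
    rw [h, zero_comp]
  · intro h
    exact (cancel_mono (PreservesCokernel.iso Ind.yoneda u).hom).mp (h.trans zero_comp.symm)

theorem yoneda_kernel_lift {X₀ X₁ : C} (u : X₀ ⟶ X₁) {T : Ind C} (x : T ⟶ Ind.yoneda.obj X₀)
    (h : x ≫ Ind.yoneda.map u = 0) :
    ∃ x' : T ⟶ Ind.yoneda.obj (kernel u), x' ≫ Ind.yoneda.map (kernel.ι u) = x :=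
  ⟨kernel.lift (Ind.yoneda.map u) x h ≫ (PreservesKernel.iso Ind.yoneda u).inv, by
    rw [Category.assoc, PreservesKernel.iso_inv_ι, kernel.lift_ι]⟩

/-- **Quotients.** If `0 → K → A → Q → 0` is exact with `A` and `K` of cofinite type (for the
powers of `q`), then `Q` is of cofinite type. -/
theorem essImage_kernel_quot (hart : ∀ X : C, IsArtinianObject X)
    (htor : ∀ X : C, ∃ m : ℕ, 0 < m ∧ m • 𝟙 X = 0) (q : ℕ) {A K Qt : Ind C}
    (i : K ⟶ A) [Mono i] (π : A ⟶ Qt) [Epi π] (w : i ≫ π = 0)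
    (hex : ∀ ⦃T : Ind C⦄ (z : T ⟶ A), z ≫ π = 0 →
      ∃ (T' : Ind C) (π' : T' ⟶ T) (_ : Epi π') (b : T' ⟶ K), π' ≫ z = b ≫ i)
    (hA : ∀ k : ℕ, (Ind.yoneda (C := C)).essImage (kernel ((q ^ k) • 𝟙 A)))
    (hK : ∀ k : ℕ, (Ind.yoneda (C := C)).essImage (kernel ((q ^ k) • 𝟙 K))) (n : ℕ) :
    (Ind.yoneda (C := C)).essImage (kernel ((q ^ n) • 𝟙 Qt)) := by
  obtain ⟨N, hN⟩ := exists_image_stab hart htor q K hK
  have hS1 : ((q ^ N) • 𝟙 K) ≫ cokernel.π ((q ^ (N + N)) • 𝟙 K) = 0 := by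
    rw [← image_le_iff, hN (N + N) (by omega)]
  have hS2 : ((q ^ N) • 𝟙 K) ≫ cokernel.π ((q ^ (N + n)) • 𝟙 K) = 0 := by
    rw [← image_le_iff, hN (N + n) (by omega)]
  obtain ⟨tA⟩ := exists_tors (hA (n + N))
  obtain ⟨tA0⟩ := exists_tors (hA N)
  obtain ⟨tK⟩ := exists_tors (hK (n + N))
  obtain ⟨tK0⟩ := exists_tors (hK N)
  obtain ⟨u₁, hu₁⟩ := Tors.exists_map' tA tA0 ((q ^ n) • 𝟙 A)
    (by rw [pow_nsmul_id_comp]; exact tA.zero)
  obtain ⟨u₂, hu₂⟩ := Tors.exists_map' tK0 tA0 i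
    (by rw [← nsmul_id_comm, ← Category.assoc, tK0.zero, zero_comp])
  obtain ⟨v₁, hv₁⟩ := Tors.exists_map' tK tA i
    (by rw [← nsmul_id_comm, ← Category.assoc, tK.zero, zero_comp])
  obtain ⟨v₂, hv₂⟩ := Tors.exists_map' tK tK0 ((q ^ n) • 𝟙 K)
    (by rw [pow_nsmul_id_comp]; exact tK.zero)
  have hv : v₁ ≫ u₁ = v₂ ≫ u₂ := by
    apply Ind.yoneda.map_injective
    rw [← cancel_mono tA0.j, Functor.map_comp, Functor.map_comp, Category.assoc, Category.assoc,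
      hu₁, hu₂, ← Category.assoc, hv₁, ← Category.assoc, hv₂, Category.assoc, Category.assoc,
      nsmul_id_comm]
  have hψ0 : v₁ ≫ u₁ ≫ cokernel.π u₂ = 0 := by
    rw [← Category.assoc, hv, Category.assoc, cokernel.condition, comp_zero]
  -- the object `Y` of `C` and the map `ψ`
  let ψ : tK.X ⟶ kernel (u₁ ≫ cokernel.π u₂) := kernel.lift _ v₁ hψ0
  have hψ : ψ ≫ kernel.ι (u₁ ≫ cokernel.π u₂) = v₁ := kernel.lift_ι _ _ _
  -- the map `g : Y → Qt`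
  have hg0 : (Ind.yoneda.map (kernel.ι (u₁ ≫ cokernel.π u₂)) ≫ tA.j ≫ π) ≫ ((q ^ n) • 𝟙 Qt) = 0 := by
    have h1 : Ind.yoneda.map (kernel.ι (u₁ ≫ cokernel.π u₂) ≫ u₁) ≫
        Ind.yoneda.map (cokernel.π u₂) = 0 := by
      rw [← Functor.map_comp, Category.assoc, kernel.condition, Functor.map_zero]
    obtain ⟨T', π', hπ', b, hb⟩ := (yoneda_comp_cokernel_iff u₂ _).mp h1
    rw [← cancel_epi π', comp_zero]
    calc π' ≫ (Ind.yoneda.map (kernel.ι (u₁ ≫ cokernel.π u₂)) ≫ tA.j ≫ π) ≫ ((q ^ n) • 𝟙 Qt)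
        = (π' ≫ Ind.yoneda.map (kernel.ι (u₁ ≫ cokernel.π u₂) ≫ u₁)) ≫ tA0.j ≫ π := by
          rw [Functor.map_comp]
          simp only [Category.assoc]
          rw [← nsmul_id_comm _ π, ← Category.assoc tA.j, ← hu₁]
          simp only [Category.assoc]
      _ = (b ≫ Ind.yoneda.map u₂) ≫ tA0.j ≫ π := by rw [hb]
      _ = b ≫ tK0.j ≫ i ≫ π := by
          simp only [Category.assoc]
          rw [← Category.assoc (Ind.yoneda.map u₂), hu₂]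
          simp only [Category.assoc]
      _ = 0 := by rw [w, comp_zero, comp_zero]
  let h : Ind.yoneda.obj (kernel (u₁ ≫ cokernel.π u₂)) ⟶ kernel ((q ^ n) • 𝟙 Qt) :=
    kernel.lift _ _ hg0
  have hh : h ≫ kernel.ι ((q ^ n) • 𝟙 Qt) =
      Ind.yoneda.map (kernel.ι (u₁ ≫ cokernel.π u₂)) ≫ tA.j ≫ π := kernel.lift_ι _ _ _
  -- `h` is epi
  have hepi : Epi h := by
    rw [epi_iff_surjective_up_to_refinements]
    intro T y
    have hy0 : (y ≫ kernel.ι ((q ^ n) • 𝟙 Qt)) ≫ ((q ^ n) • 𝟙 Qt) = 0 := by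
      rw [Category.assoc, kernel.condition, comp_zero]
    obtain ⟨T₀, π₀, hπ₀, a, ha⟩ := surjective_up_to_refinements_of_epi π
      (y ≫ kernel.ι ((q ^ n) • 𝟙 Qt))
    have h1 : (a ≫ ((q ^ n) • 𝟙 A)) ≫ π = 0 := by
      rw [Category.assoc, nsmul_id_comm, ← Category.assoc, ← ha, Category.assoc, hy0, comp_zero]
    obtain ⟨T₁, π₁, hπ₁, κ, hκ⟩ := hex _ h1
    have h2 : (κ ≫ ((q ^ N) • 𝟙 K)) ≫ cokernel.π ((q ^ (N + N)) • 𝟙 K) = 0 := by
      rw [Category.assoc, hS1, comp_zero]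
    obtain ⟨T₂, π₂, hπ₂, b, hb⟩ := (comp_cokernel_eq_zero_iff _ _).mp h2
    have h3 : (b ≫ ((q ^ N) • 𝟙 K)) ≫ cokernel.π ((q ^ (N + n)) • 𝟙 K) = 0 := by
      rw [Category.assoc, hS2, comp_zero]
    obtain ⟨T₃, π₃, hπ₃, c, hc⟩ := (comp_cokernel_eq_zero_iff _ _).mp h3
    -- `κ₁ = π₃ ≫ (π₂ ≫ κ - b ≫ q^N)`, killed by `q^N`
    have hκ₁ : (π₃ ≫ (π₂ ≫ κ - b ≫ ((q ^ N) • 𝟙 K))) ≫ ((q ^ N) • 𝟙 K) = 0 := by
      rw [Category.assoc, Preadditive.sub_comp, Category.assoc, hb, Category.assoc,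
        pow_nsmul_id_comp, sub_self, comp_zero]
    obtain ⟨κ₁', hκ₁'⟩ := tK0.lift _ hκ₁
    -- `a' = π₃π₂π₁ a - (c q^N) i`
    have ha'n : (π₃ ≫ π₂ ≫ π₁ ≫ a - (c ≫ ((q ^ N) • 𝟙 K)) ≫ i) ≫ ((q ^ n) • 𝟙 A) =
        (π₃ ≫ (π₂ ≫ κ - b ≫ ((q ^ N) • 𝟙 K))) ≫ i := by
      have eqB : c ≫ ((q ^ N) • 𝟙 K) ≫ i ≫ ((q ^ n) • 𝟙 A) = π₃ ≫ b ≫ ((q ^ N) • 𝟙 K) ≫ i := by
        calc c ≫ ((q ^ N) • 𝟙 K) ≫ i ≫ ((q ^ n) • 𝟙 A)
            = (c ≫ ((q ^ (N + n)) • 𝟙 K)) ≫ i := by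
              rw [← nsmul_id_comm _ i, ← Category.assoc ((q ^ N) • 𝟙 K), pow_nsmul_id_comp,
                Category.assoc]
          _ = (π₃ ≫ b ≫ ((q ^ N) • 𝟙 K)) ≫ i := by rw [← hc]
          _ = π₃ ≫ b ≫ ((q ^ N) • 𝟙 K) ≫ i := by simp only [Category.assoc]
      rw [Preadditive.sub_comp, Preadditive.comp_sub, Preadditive.sub_comp]
      simp only [Category.assoc]
      rw [hκ, eqB]
    have ha'0 : (π₃ ≫ π₂ ≫ π₁ ≫ a - (c ≫ ((q ^ N) • 𝟙 K)) ≫ i) ≫ ((q ^ (n + N)) • 𝟙 A) = 0 := by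
      rw [← pow_nsmul_id_comp, ← Category.assoc, ha'n, Category.assoc, ← nsmul_id_comm _ i,
        ← Category.assoc, hκ₁, zero_comp]
    obtain ⟨a'', ha''⟩ := tA.lift _ ha'0
    have h4 : a'' ≫ Ind.yoneda.map u₁ = κ₁' ≫ Ind.yoneda.map u₂ := by
      rw [← cancel_mono tA0.j, Category.assoc, Category.assoc, hu₁, hu₂, ← Category.assoc, ha'',
        ha'n, ← Category.assoc, hκ₁']
    have h5 : a'' ≫ Ind.yoneda.map (u₁ ≫ cokernel.π u₂) = 0 := by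
      rw [Functor.map_comp, ← Category.assoc, h4, Category.assoc, ← Functor.map_comp,
        cokernel.condition, Functor.map_zero, comp_zero]
    obtain ⟨a''', ha'''⟩ := yoneda_kernel_lift _ a'' h5
    have : Epi (π₃ ≫ π₂ ≫ π₁ ≫ π₀) := by
      have := epi_comp π₁ π₀
      have := epi_comp π₂ (π₁ ≫ π₀)
      exact epi_comp π₃ (π₂ ≫ π₁ ≫ π₀)
    refine ⟨T₃, π₃ ≫ π₂ ≫ π₁ ≫ π₀, inferInstance, a''', ?_⟩
    rw [← cancel_mono (kernel.ι ((q ^ n) • 𝟙 Qt))]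
    simp only [Category.assoc]
    rw [hh, ← Category.assoc a''', ha''', ← Category.assoc a'', ha'', Preadditive.sub_comp]
    simp only [Category.assoc]
    rw [w, comp_zero, comp_zero, sub_zero, ha]
  -- conclusion
  refine @essImage_of_exact _ _ _ _ _ ψ _ h hepi ?_ ?_
  · rw [← cancel_mono (kernel.ι ((q ^ n) • 𝟙 Qt)), zero_comp, Category.assoc, hh,
      ← Category.assoc, ← Functor.map_comp, hψ, ← Category.assoc, hv₁, Category.assoc, w,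
      comp_zero]
  · intro T z hz
    have hz' : (z ≫ Ind.yoneda.map (kernel.ι (u₁ ≫ cokernel.π u₂)) ≫ tA.j) ≫ π = 0 := by
      have := congrArg (fun t => t ≫ kernel.ι ((q ^ n) • 𝟙 Qt)) hz
      simp only [Category.assoc, zero_comp] at this
      rw [hh] at this
      simp only [Category.assoc]
      exact this
    obtain ⟨T₁, π₁, hπ₁, κ', hκ'⟩ := hex _ hz'
    have hκ'0 : κ' ≫ ((q ^ (n + N)) • 𝟙 K) = 0 := by
      rw [← cancel_mono i, zero_comp, Category.assoc, nsmul_id_comm, ← Category.assoc, ← hκ']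
      simp only [Category.assoc]
      rw [tA.zero, comp_zero, comp_zero, comp_zero]
    obtain ⟨κ'', hκ''⟩ := tK.lift _ hκ'0
    refine ⟨T₁, π₁, hπ₁, κ'', ?_⟩
    rw [← cancel_mono (Ind.yoneda.map (kernel.ι (u₁ ≫ cokernel.π u₂))), ← cancel_mono tA.j]
    simp only [Category.assoc]
    rw [← Category.assoc (Ind.yoneda.map ψ), ← Functor.map_comp, hψ, hv₁, ← Category.assoc κ'',
      hκ'', ← hκ']

end Groth.Agent.H16.IndCof
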