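import Groth.Agent.H16.IndCof4

/-!
# Ind-objects of cofinite type, part 5: kernels and cokernels of morphisms (helper16)
-/

set_option autoImplicit false
universe v

namespace Groth.Agent.H16.IndCof

open CategoryTheory CategoryTheory.Limits Groth.Agent.H16.GenElem

variable {C : Type v} [SmallCategory C] [Abelian C]

/-- **Kernels.** If `A[m]` and `B[m]` are objects of `C`, then so is `(ker f)[m]` for
`f : A ⟶ B`. -/
theorem essImage_kernel_kernel (m : ℕ) {A B : Ind C} (f : A ⟶ B)
    (hA : (Ind.yoneda (C := C)).essImage (kernel (m • 𝟙 A)))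
    (hB : (Ind.yoneda (C := C)).essImage (kernel (m • 𝟙 B))) :
    (Ind.yoneda (C := C)).essImage (kernel (m • 𝟙 (kernel f))) := by
  obtain ⟨tA⟩ := exists_tors hA
  obtain ⟨tB⟩ := exists_tors hB
  obtain ⟨u, hu⟩ := Tors.exists_map' tA tB f
    (by rw [← nsmul_id_comm, ← Category.assoc, tA.zero, zero_comp])
  have hj0 : (Ind.yoneda.map (kernel.ι u) ≫ tA.j) ≫ f = 0 := by
    rw [Category.assoc, ← hu, ← Category.assoc, ← Functor.map_comp, kernel.condition,
      Functor.map_zero, zero_comp]
  have hjι : kernel.lift f (Ind.yoneda.map (kernel.ι u) ≫ tA.j) hj0 ≫ kernel.ι f =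
      Ind.yoneda.map (kernel.ι u) ≫ tA.j := kernel.lift_ι _ _ _
  have hmono : Mono (kernel.lift f (Ind.yoneda.map (kernel.ι u) ≫ tA.j) hj0) := by
    have : Mono (kernel.lift f (Ind.yoneda.map (kernel.ι u) ≫ tA.j) hj0 ≫ kernel.ι f) := by
      rw [hjι]
      infer_instance
    exact mono_of_mono _ (kernel.ι f)
  refine Tors.essImage (A := kernel f) (m := m)
    { X := kernel u
      j := kernel.lift f (Ind.yoneda.map (kernel.ι u) ≫ tA.j) hj0
      mono := hmono
      zero := ?_
      lift := ?_ }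
  · rw [← cancel_mono (kernel.ι f), zero_comp, Category.assoc, nsmul_id_comm, ← Category.assoc,
      hjι, Category.assoc, tA.zero, comp_zero]
  · intro T x hx
    have h1 : (x ≫ kernel.ι f) ≫ (m • 𝟙 A) = 0 := by
      rw [Category.assoc, ← nsmul_id_comm, ← Category.assoc, hx, zero_comp]
    obtain ⟨x', hx'⟩ := tA.lift _ h1
    have h2 : x' ≫ Ind.yoneda.map u = 0 := by
      rw [← cancel_mono tB.j, zero_comp, Category.assoc, hu, ← Category.assoc, hx', Category.assoc,
        kernel.condition, comp_zero]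
    obtain ⟨x'', hx''⟩ := yoneda_kernel_lift u x' h2
    refine ⟨x'', ?_⟩
    rw [← cancel_mono (kernel.ι f), Category.assoc, hjι, ← Category.assoc, hx'', hx']

/-- **Cokernels.** If `A` and `B` are of cofinite type (for the powers of `q`), then so is
`coker f` for `f : A ⟶ B`. -/
theorem essImage_kernel_cokernel (hart : ∀ X : C, IsArtinianObject X)
    (htor : ∀ X : C, ∃ m : ℕ, 0 < m ∧ m • 𝟙 X = 0) (q : ℕ) {A B : Ind C} (f : A ⟶ B)
    (hA : ∀ k : ℕ, (Ind.yoneda (C := C)).essImage (kernel ((q ^ k) • 𝟙 A)))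
    (hB : ∀ k : ℕ, (Ind.yoneda (C := C)).essImage (kernel ((q ^ k) • 𝟙 B))) (n : ℕ) :
    (Ind.yoneda (C := C)).essImage (kernel ((q ^ n) • 𝟙 (cokernel f))) := by
  have hK : ∀ k : ℕ, (Ind.yoneda (C := C)).essImage (kernel ((q ^ k) • 𝟙 (kernel f))) :=
    fun k => essImage_kernel_kernel (q ^ k) f (hA k) (hB k)
  -- the image of `f`
  have hI : ∀ k : ℕ, (Ind.yoneda (C := C)).essImage (kernel ((q ^ k) • 𝟙 (Abelian.image f))) := by
    intro k
    refine essImage_kernel_quot hart htor q (kernel.ι f) (Abelian.factorThruImage f) ?_ ?_ hA hK k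
    · rw [← cancel_mono (Abelian.image.ι f), zero_comp, Category.assoc, Abelian.image.fac,
        kernel.condition]
    · intro T z hz
      have hz' : z ≫ f = 0 := by
        rw [← Abelian.image.fac f, ← Category.assoc, hz, zero_comp]
      exact ⟨T, 𝟙 T, inferInstance, kernel.lift f z hz', by
        rw [Category.id_comp, kernel.lift_ι]⟩
  refine essImage_kernel_quot hart htor q (Abelian.image.ι f) (cokernel.π f) ?_ ?_ hB hI n
  · exact kernel.condition _
  · intro T z hz
    exact ⟨T, 𝟙 T, inferInstance, kernel.lift _ z hz, by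
      rw [Category.id_comp]; exact (kernel.lift_ι _ _ _).symm⟩

end Groth.Agent.H16.IndCof
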