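import Groth.Agent.H16.IndCof5

/-!
# Ind-objects of cofinite type, part 6: the Artinian property (helper16)
-/

set_option autoImplicit false
universe v

namespace Groth.Agent.H16.IndCof

open CategoryTheory CategoryTheory.Limits Groth.Agent.H16.GenElem

variable {C : Type v} [SmallCategory C] [Abelian C]

/-- Descending chains of sub-objects of an ind-object whose underlying objects lie in `C`
stabilize. -/
theorem chain_stab_of_essImage (hart : ∀ X : C, IsArtinianObject X) {A : Ind C}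
    (T : ℕ → Subobject A) (hT : Antitone T)
    (hC : ∀ m : ℕ, (Ind.yoneda (C := C)).essImage ((T m : Subobject A) : Ind C)) :
    ∃ N : ℕ, ∀ m : ℕ, N ≤ m → T m = T N := by
  classical
  choose Z he using hC
  have e : ∀ m, Ind.yoneda.obj (Z m) ≅ ((T m : Subobject A) : Ind C) := fun m => (he m).some
  -- the monos `z m : Z m → Z 0`
  let z : ∀ m, Z m ⟶ Z 0 := fun m =>
    Ind.yoneda.preimage ((e m).hom ≫ (T m).ofLE (T 0) (hT (Nat.zero_le m)) ≫ (e 0).inv)
  have hz : ∀ m, Ind.yoneda.map (z m) ≫ (e 0).hom ≫ (T 0).arrow = (e m).hom ≫ (T m).arrow := by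
    intro m
    simp only [z, Functor.map_preimage, Category.assoc, Iso.inv_hom_id_assoc,
      Subobject.ofLE_arrow]
  have hzmono : ∀ m, Mono (z m) := by
    intro m
    have : Mono (Ind.yoneda.map (z m)) := by
      simp only [z, Functor.map_preimage]
      infer_instance
    exact Functor.mono_of_mono_map Ind.yoneda this
  have hstep : ∀ m m' : ℕ, m ≤ m' → Subobject.mk (z m') ≤ Subobject.mk (z m) := by
    intro m m' h
    refine Subobject.mk_le_mk_of_comm
      (Ind.yoneda.preimage ((e m').hom ≫ (T m').ofLE (T m) (hT h) ≫ (e m).inv)) ?_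
    apply Ind.yoneda.map_injective
    rw [← cancel_mono ((e 0).hom ≫ (T 0).arrow), Functor.map_comp, Functor.map_preimage]
    simp only [Category.assoc]
    rw [hz m, hz m', Iso.inv_hom_id_assoc, Subobject.ofLE_arrow]
  let U : ℕ →o (Subobject (Z 0))ᵒᵈ :=
    { toFun := fun m => OrderDual.toDual (Subobject.mk (z m))
      monotone' := fun m m' h => hstep m m' h }
  have := hart (Z 0)
  obtain ⟨N, hN⟩ := antitone_chain_condition_of_isArtinianObject U
  refine ⟨N, fun m hm => le_antisymm (hT hm) ?_⟩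
  have h1 : Subobject.mk (z N) ≤ Subobject.mk (z m) :=
    (OrderDual.toDual.injective (hN m hm)).le
  refine Subobject.le_of_comm
    ((e N).inv ≫ Ind.yoneda.map (Subobject.ofMkLEMk (z N) (z m) h1) ≫ (e m).hom) ?_
  simp only [Category.assoc]
  rw [← hz m, ← Category.assoc (Ind.yoneda.map _), ← Functor.map_comp, Subobject.ofMkLEMk_comp,
    hz N, Iso.inv_hom_id_assoc]

/-- **The Artinian property.** Descending chains of sub-objects of cofinite type stabilize. -/
theorem chain_stab_of_cofinite (hart : ∀ X : C, IsArtinianObject X) (q : ℕ) (hq : 0 < q)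
    (htor : ∀ X : C, ∃ n : ℕ, (q ^ n) • 𝟙 X = 0) {A : Ind C}
    (S : ℕ → Subobject A) (hS : Antitone S)
    (hcof : ∀ m n : ℕ, (Ind.yoneda (C := C)).essImage
      (kernel ((q ^ n) • 𝟙 ((S m : Subobject A) : Ind C)))) :
    ∃ N : ℕ, ∀ m : ℕ, N ≤ m → S m = S N := by
  classical
  have htor' : ∀ X : C, ∃ m : ℕ, 0 < m ∧ m • 𝟙 X = 0 := by
    intro X
    obtain ⟨n, hn⟩ := htor X
    exact ⟨q ^ n, pow_pos hq n, hn⟩
  have hstab : ∀ m : ℕ, ∃ N : ℕ, ∀ K : ℕ, N ≤ K →
      imageSubobject ((q ^ K) • 𝟙 ((S m : Subobject A) : Ind C)) =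
        imageSubobject ((q ^ N) • 𝟙 ((S m : Subobject A) : Ind C)) :=
    fun m => exists_image_stab hart htor' q _ (hcof m)
  choose Nn hNn using hstab
  -- the maps `g m = q^(Nn m) : S m → A`
  let g : ∀ m, ((S m : Subobject A) : Ind C) ⟶ A := fun m =>
    ((q ^ Nn m) • 𝟙 ((S m : Subobject A) : Ind C)) ≫ (S m).arrow
  have hgdef : ∀ m, g m = ((q ^ Nn m) • 𝟙 ((S m : Subobject A) : Ind C)) ≫ (S m).arrow :=
    fun m => rfl
  -- stabilization in the form needed
  have hst : ∀ m K : ℕ, ((q ^ Nn m) • 𝟙 ((S m : Subobject A) : Ind C)) ≫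
      cokernel.π ((q ^ (Nn m + K)) • 𝟙 ((S m : Subobject A) : Ind C)) = 0 := by
    intro m K
    rw [← image_le_iff, hNn m (Nn m + K) (by omega)]
  -- F0 : elements of `D m` lie in `S m`
  have F0 : ∀ (m : ℕ) ⦃T : Ind C⦄ (x : T ⟶ A), x ≫ cokernel.π (g m) = 0 → (S m).Factors x := by
    intro m T x hx
    obtain ⟨T', π, hπ, b, hb⟩ := (comp_cokernel_eq_zero_iff _ _).mp hx
    apply factors_of_epi_comp (S m) π x
    rw [hb, hgdef, ← Category.assoc]
    exact Subobject.factors_comp_arrow _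
  -- F1 : `D m` is divisible
  have F1 : ∀ (m K : ℕ) ⦃T : Ind C⦄ (x : T ⟶ A), x ≫ cokernel.π (g m) = 0 →
      ∃ (T' : Ind C) (π : T' ⟶ T) (_ : Epi π) (d : T' ⟶ A),
        d ≫ cokernel.π (g m) = 0 ∧ π ≫ x = d ≫ ((q ^ K) • 𝟙 A) := by
    intro m K T x hx
    obtain ⟨T₁, π₁, hπ₁, b, hb⟩ := (comp_cokernel_eq_zero_iff _ _).mp hx
    have h1 : (b ≫ ((q ^ Nn m) • 𝟙 ((S m : Subobject A) : Ind C))) ≫
        cokernel.π ((q ^ (Nn m + K)) • 𝟙 ((S m : Subobject A) : Ind C)) = 0 := by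
      rw [Category.assoc, hst, comp_zero]
    obtain ⟨T₂, π₂, hπ₂, c, hc⟩ := (comp_cokernel_eq_zero_iff _ _).mp h1
    have : Epi (π₂ ≫ π₁) := epi_comp _ _
    refine ⟨T₂, π₂ ≫ π₁, inferInstance, c ≫ g m, ?_, ?_⟩
    · rw [Category.assoc, cokernel.condition, comp_zero]
    · calc (π₂ ≫ π₁) ≫ x = π₂ ≫ b ≫ g m := by rw [Category.assoc, hb]
        _ = (π₂ ≫ b ≫ ((q ^ Nn m) • 𝟙 ((S m : Subobject A) : Ind C))) ≫ (S m).arrow := by
          rw [hgdef]; simp only [Category.assoc]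
        _ = (c ≫ ((q ^ (Nn m + K)) • 𝟙 ((S m : Subobject A) : Ind C))) ≫ (S m).arrow := by
          rw [hc]
        _ = (c ≫ g m) ≫ ((q ^ K) • 𝟙 A) := by
          rw [hgdef, ← pow_nsmul_id_comp]
          simp only [Category.assoc]
          rw [nsmul_id_comm (q ^ K) (S m).arrow]
  -- F2 : `D m' ⊆ D m` for `m ≤ m'`
  have hgg : ∀ m m' : ℕ, m ≤ m' → g m' ≫ cokernel.π (g m) = 0 := by
    intro m m' h
    obtain ⟨T', π, hπ, c, hc⟩ := (comp_cokernel_eq_zero_iff _ _).mp (hst m' (Nn m))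
    rw [← cancel_epi π, comp_zero]
    calc π ≫ g m' ≫ cokernel.π (g m)
        = ((π ≫ ((q ^ Nn m') • 𝟙 ((S m' : Subobject A) : Ind C))) ≫ (S m').arrow) ≫
            cokernel.π (g m) := by rw [hgdef m']; simp only [Category.assoc]
      _ = ((c ≫ ((q ^ (Nn m' + Nn m)) • 𝟙 ((S m' : Subobject A) : Ind C))) ≫ (S m').arrow) ≫
            cokernel.π (g m) := by rw [hc]
      _ = ((c ≫ ((q ^ Nn m') • 𝟙 ((S m' : Subobject A) : Ind C)) ≫
            (S m').ofLE (S m) (hS h)) ≫ g m) ≫ cokernel.π (g m) := by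
          congr 1
          rw [hgdef m, ← pow_nsmul_id_comp]
          simp only [Category.assoc]
          rw [← Category.assoc ((S m').ofLE (S m) (hS h)),
            ← nsmul_id_comm (q ^ Nn m) ((S m').ofLE (S m) (hS h)), Category.assoc,
            Subobject.ofLE_arrow]
      _ = 0 := by rw [Category.assoc, cokernel.condition, comp_zero]
  have F2 : ∀ (m m' : ℕ), m ≤ m' → ∀ ⦃T : Ind C⦄ (x : T ⟶ A), x ≫ cokernel.π (g m') = 0 →
      x ≫ cokernel.π (g m) = 0 := by
    intro m m' h T x hx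
    obtain ⟨T', π, hπ, b, hb⟩ := (comp_cokernel_eq_zero_iff _ _).mp hx
    rw [← cancel_epi π, comp_zero, ← Category.assoc, hb, Category.assoc, hgg m m' h, comp_zero]
  -- the `q`-torsion `T m` of `D m`
  let D' : ∀ m, Subobject ((S m : Subobject A) : Ind C) := fun m =>
    imageSubobject ((q ^ Nn m) • 𝟙 ((S m : Subobject A) : Ind C))
  let f : ∀ m, kernel ((q ^ 1) • 𝟙 ((D' m : Subobject _) : Ind C)) ⟶ A := fun m =>
    kernel.ι ((q ^ 1) • 𝟙 ((D' m : Subobject _) : Ind C)) ≫ (D' m).arrow ≫ (S m).arrow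
  have hfdef : ∀ m, f m =
      kernel.ι ((q ^ 1) • 𝟙 ((D' m : Subobject _) : Ind C)) ≫ (D' m).arrow ≫ (S m).arrow :=
    fun m => rfl
  have hfmono : ∀ m, Mono (f m) := fun m => by rw [hfdef]; infer_instance
  let Tt : ℕ → Subobject A := fun m => Subobject.mk (f m)
  have hD'g : ∀ m, (D' m).arrow ≫ (S m).arrow ≫ cokernel.π (g m) = 0 := by
    intro m
    rw [← cancel_epi (factorThruImageSubobject ((q ^ Nn m) • 𝟙 ((S m : Subobject A) : Ind C))),
      comp_zero, ← Category.assoc, imageSubobject_arrow_comp, ← Category.assoc, ← hgdef,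
      cokernel.condition]
  have hf1 : ∀ m, f m ≫ ((q ^ 1) • 𝟙 A) = 0 := by
    intro m
    rw [hfdef]
    simp only [Category.assoc]
    rw [← nsmul_id_comm (q ^ 1) (S m).arrow, ← Category.assoc (D' m).arrow,
      ← nsmul_id_comm (q ^ 1) (D' m).arrow]
    simp only [Category.assoc]
    rw [← Category.assoc, kernel.condition, zero_comp]
  have hf2 : ∀ m, f m ≫ cokernel.π (g m) = 0 := by
    intro m
    rw [hfdef]
    simp only [Category.assoc]
    rw [hD'g, comp_zero]
  have T1 : ∀ (m : ℕ) ⦃T : Ind C⦄ (x : T ⟶ A), (Tt m).Factors x →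
      x ≫ ((q ^ 1) • 𝟙 A) = 0 ∧ x ≫ cokernel.π (g m) = 0 := by
    intro m T x hx
    have hx' : x = ((Tt m).factorThru x hx ≫ (Subobject.underlyingIso (f m)).hom) ≫ f m := by
      rw [Category.assoc, Subobject.underlyingIso_hom_comp_eq_mk]
      exact (Subobject.factorThru_arrow _ _ hx).symm
    constructor
    · rw [hx', Category.assoc, hf1, comp_zero]
    · rw [hx', Category.assoc, hf2, comp_zero]
  have T2 : ∀ (m : ℕ) ⦃T : Ind C⦄ (x : T ⟶ A), x ≫ ((q ^ 1) • 𝟙 A) = 0 →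
      x ≫ cokernel.π (g m) = 0 → (Tt m).Factors x := by
    intro m T x hx1 hx2
    obtain ⟨T', π, hπ, b, hb⟩ := (comp_cokernel_eq_zero_iff _ _).mp hx2
    apply factors_of_epi_comp (Tt m) π x
    have hd0 : (b ≫ factorThruImageSubobject ((q ^ Nn m) • 𝟙 ((S m : Subobject A) : Ind C))) ≫
        ((q ^ 1) • 𝟙 ((D' m : Subobject _) : Ind C)) = 0 := by
      rw [← cancel_mono ((D' m).arrow ≫ (S m).arrow), zero_comp]
      simp only [Category.assoc]
      rw [← Category.assoc ((q ^ 1) • 𝟙 ((D' m : Subobject _) : Ind C)),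
        nsmul_id_comm (q ^ 1) (D' m).arrow]
      simp only [Category.assoc]
      rw [nsmul_id_comm (q ^ 1) (S m).arrow, ← Category.assoc (factorThruImageSubobject _),
        imageSubobject_arrow_comp, ← Category.assoc ((q ^ Nn m) • 𝟙 _), ← hgdef,
        ← Category.assoc, ← hb, Category.assoc, hx1, comp_zero]
    have : π ≫ x = kernel.lift _ _ hd0 ≫ f m := by
      rw [hfdef, ← Category.assoc, kernel.lift_ι, hb, hgdef]
      simp only [Category.assoc]
      rw [← Category.assoc (factorThruImageSubobject _), imageSubobject_arrow_comp]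
    rw [this]
    exact Subobject.factors_of_factors_right _ (Subobject.mk_factors_self _)
  have hTanti : Antitone Tt := by
    intro m m' h
    apply Subobject.le_of_factors
    obtain ⟨h1, h2⟩ := T1 m' (Tt m').arrow (Subobject.factors_self _)
    exact T2 m _ h1 (F2 m m' h _ h2)
  have hTC : ∀ m : ℕ, (Ind.yoneda (C := C)).essImage ((Tt m : Subobject A) : Ind C) := by
    intro m
    exact Functor.essImage.ofIso (Subobject.underlyingIso (f m)).symm
      (essImage_kernel_image q _ (hcof m) (Nn m) 1)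
  obtain ⟨M₀, hM₀⟩ := chain_stab_of_essImage hart Tt hTanti hTC
  -- Step 3 : `D M₀ ⊆ D m` for `m ≥ M₀`
  have hstep : ∀ (m : ℕ), M₀ ≤ m → ∀ ⦃T : Ind C⦄ (y : T ⟶ A), y ≫ cokernel.π (g M₀) = 0 →
      (y ≫ ((q ^ 1) • 𝟙 A)) ≫ cokernel.π (g m) = 0 → y ≫ cokernel.π (g m) = 0 := by
    intro m hm T y hy hy1
    obtain ⟨T', π, hπ, d, hd, hπd⟩ := F1 m 1 _ hy1
    have hr1 : (π ≫ y - d) ≫ ((q ^ 1) • 𝟙 A) = 0 := by
      rw [Preadditive.sub_comp, Category.assoc, hπd, sub_self]
    have hr2 : (π ≫ y - d) ≫ cokernel.π (g M₀) = 0 := by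
      rw [Preadditive.sub_comp, Category.assoc, hy, comp_zero, F2 M₀ m hm d hd, sub_zero]
    have hr3 : (Tt m).Factors (π ≫ y - d) := by
      rw [hM₀ m hm]
      exact T2 M₀ _ hr1 hr2
    have hr4 := (T1 m _ hr3).2
    rw [← cancel_epi π, comp_zero, ← Category.assoc]
    have : π ≫ y = (π ≫ y - d) + d := by abel
    rw [this, Preadditive.add_comp, hr4, hd, add_zero]
  have hind : ∀ (m : ℕ), M₀ ≤ m → ∀ (k : ℕ) ⦃T : Ind C⦄ (x : T ⟶ A),
      x ≫ cokernel.π (g M₀) = 0 → (x ≫ ((q ^ k) • 𝟙 A)) ≫ cokernel.π (g m) = 0 →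
      x ≫ cokernel.π (g m) = 0 := by
    intro m hm k
    induction k with
    | zero =>
      intro T x _ hx
      rwa [pow_zero, one_smul, Category.comp_id] at hx
    | succ k ih =>
      intro T x hx hxk
      apply ih x hx
      apply hstep m hm
      · rw [← nsmul_id_comm, Category.assoc, hx, comp_zero]
      · rw [Category.assoc x, pow_nsmul_id_comp]
        exact hxk
  have hgg' : ∀ (m : ℕ), M₀ ≤ m → g M₀ ≫ cokernel.π (g m) = 0 := by
    intro m hm
    apply hom_ext_yoneda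
    intro X t
    rw [comp_zero, ← Category.assoc]
    obtain ⟨n, hn⟩ := htor X
    apply hind m hm n
    · rw [Category.assoc, cokernel.condition, comp_zero]
    · rw [leg_comp_nsmul X (t ≫ g M₀) (q ^ n) hn, zero_comp]
  have hD : ∀ (m : ℕ), M₀ ≤ m → ∀ ⦃T : Ind C⦄ (x : T ⟶ A), x ≫ cokernel.π (g M₀) = 0 →
      x ≫ cokernel.π (g m) = 0 := by
    intro m hm T x hx
    obtain ⟨T', π, hπ, b, hb⟩ := (comp_cokernel_eq_zero_iff _ _).mp hx
    rw [← cancel_epi π, comp_zero, ← Category.assoc, hb, Category.assoc, hgg' m hm, comp_zero]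
  -- Step 4 : the `q^N`-torsion `R m` of `S m`
  let r : ∀ m, kernel ((q ^ Nn M₀) • 𝟙 ((S m : Subobject A) : Ind C)) ⟶ A := fun m =>
    kernel.ι ((q ^ Nn M₀) • 𝟙 ((S m : Subobject A) : Ind C)) ≫ (S m).arrow
  have hrdef : ∀ m, r m =
      kernel.ι ((q ^ Nn M₀) • 𝟙 ((S m : Subobject A) : Ind C)) ≫ (S m).arrow := fun m => rfl
  have hrmono : ∀ m, Mono (r m) := fun m => by rw [hrdef]; infer_instance
  let R : ℕ → Subobject A := fun m => Subobject.mk (r m)
  have hr0 : ∀ m, r m ≫ ((q ^ Nn M₀) • 𝟙 A) = 0 := by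
    intro m
    rw [hrdef, Category.assoc, ← nsmul_id_comm (q ^ Nn M₀) (S m).arrow, ← Category.assoc,
      kernel.condition, zero_comp]
  have R1 : ∀ (m : ℕ) ⦃T : Ind C⦄ (x : T ⟶ A), (R m).Factors x →
      (S m).Factors x ∧ x ≫ ((q ^ Nn M₀) • 𝟙 A) = 0 := by
    intro m T x hx
    have hx' : x = ((R m).factorThru x hx ≫ (Subobject.underlyingIso (r m)).hom) ≫ r m := by
      rw [Category.assoc, Subobject.underlyingIso_hom_comp_eq_mk]
      exact (Subobject.factorThru_arrow _ _ hx).symm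
    constructor
    · rw [hx']
      refine Subobject.factors_of_factors_right _ ?_
      rw [hrdef]
      exact Subobject.factors_comp_arrow _
    · rw [hx', Category.assoc, hr0, comp_zero]
  have R2 : ∀ (m : ℕ) ⦃T : Ind C⦄ (x : T ⟶ A), (S m).Factors x →
      x ≫ ((q ^ Nn M₀) • 𝟙 A) = 0 → (R m).Factors x := by
    intro m T x hx hx0
    have hs0 : (S m).factorThru x hx ≫ ((q ^ Nn M₀) • 𝟙 ((S m : Subobject A) : Ind C)) = 0 := by
      rw [← cancel_mono (S m).arrow, zero_comp, Category.assoc,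
        nsmul_id_comm (q ^ Nn M₀) (S m).arrow, ← Category.assoc, Subobject.factorThru_arrow, hx0]
    have : x = kernel.lift _ _ hs0 ≫ r m := by
      rw [hrdef, ← Category.assoc, kernel.lift_ι, Subobject.factorThru_arrow]
    rw [this]
    exact Subobject.factors_of_factors_right _ (Subobject.mk_factors_self _)
  have hRanti : Antitone R := by
    intro m m' h
    apply Subobject.le_of_factors
    obtain ⟨h1, h2⟩ := R1 m' (R m').arrow (Subobject.factors_self _)
    exact R2 m _ (Subobject.factors_of_le _ (hS h) h1) h2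
  have hRC : ∀ m : ℕ, (Ind.yoneda (C := C)).essImage ((R m : Subobject A) : Ind C) := by
    intro m
    exact Functor.essImage.ofIso (Subobject.underlyingIso (r m)).symm (hcof m (Nn M₀))
  obtain ⟨M₁, hM₁⟩ := chain_stab_of_essImage hart R hRanti hRC
  -- Step 5
  refine ⟨max M₀ M₁, fun m hm => le_antisymm (hS hm) ?_⟩
  have hm0 : M₀ ≤ m := le_trans (le_max_left _ _) hm
  have hm1 : M₁ ≤ m := le_trans (le_max_right _ _) hm
  apply Subobject.le_of_factors
  set M := max M₀ M₁ with hMdef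
  have hx1 : ((S M).arrow ≫ ((q ^ Nn M₀) • 𝟙 A)) ≫ cokernel.π (g M₀) = 0 := by
    have : (S M).arrow ≫ ((q ^ Nn M₀) • 𝟙 A) =
        (S M).ofLE (S M₀) (hS (le_max_left _ _)) ≫ g M₀ := by
      rw [hgdef, nsmul_id_comm (q ^ Nn M₀) (S M₀).arrow, ← Category.assoc, Subobject.ofLE_arrow]
    rw [this, Category.assoc, cokernel.condition, comp_zero]
  obtain ⟨T', π, hπ, d, hd, hπd⟩ := F1 m (Nn M₀) _ (hD m hm0 _ hx1)
  have hdS : (S m).Factors d := F0 m d hd
  have hr1 : (π ≫ (S M).arrow - d) ≫ ((q ^ Nn M₀) • 𝟙 A) = 0 := by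
    rw [Preadditive.sub_comp, Category.assoc, hπd, sub_self]
  have hr2 : (S M).Factors (π ≫ (S M).arrow - d) := by
    rw [factors_iff_comp_cokernel, Preadditive.sub_comp, Category.assoc, cokernel.condition,
      comp_zero, zero_sub, neg_eq_zero, ← factors_iff_comp_cokernel]
    exact Subobject.factors_of_le _ (hS hm) hdS
  have hr3 : (R m).Factors (π ≫ (S M).arrow - d) := by
    rw [hM₁ m hm1, ← hM₁ M (le_max_right _ _)]
    exact R2 M _ hr2 hr1
  have hr4 := (R1 m _ hr3).1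
  apply factors_of_epi_comp (S m) π
  have : π ≫ (S M).arrow = (π ≫ (S M).arrow - d) + d := by abel
  rw [this]
  exact Subobject.factors_add _ _ hr4 hdS

end Groth.Agent.H16.IndCof
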