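import Groth.Agent.H16.IndCof6
import Mathlib.Data.Nat.Prime.Basic
import Mathlib.Data.Nat.Factorization.Induction
import Mathlib.Algebra.Order.BigOperators.GroupWithZero.Finset
import Mathlib.Data.Set.Finite.Basic

/-!
# Ind-objects of cofinite type, part 7: divisibility (helper16)
-/

set_option autoImplicit false
universe v u

namespace Groth.Agent.H16.IndCof

open CategoryTheory CategoryTheory.Limits Groth.Agent.H16.GenElem

section General

variable {V : Type u} [Category.{v} V] [Abelian V]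

/-- the cokernel of the image of `f` is the cokernel of `f` -/
noncomputable def cokernelImageArrowIso {A B : V} (f : B ⟶ A) :
    cokernel (imageSubobject f).arrow ≅ cokernel f :=
  (cokernelEpiComp (factorThruImageSubobject f) (imageSubobject f).arrow).symm ≪≫
    cokernelIsoOfEq (imageSubobject_arrow_comp f)

/-- `k` is epi on `N A` as soon as `N A ⊆ k N A`. -/
theorem epi_nsmul_image {A : V} (N k : ℕ)
    (h : (N • 𝟙 A) ≫ cokernel.π ((k * N) • 𝟙 A) = 0) :
    Epi (k • 𝟙 ((imageSubobject (N • 𝟙 A) : Subobject A) : V)) := by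
  rw [epi_iff_surjective_up_to_refinements]
  intro T y
  have h1 : (y ≫ (imageSubobject (N • 𝟙 A)).arrow) ≫ cokernel.π (N • 𝟙 A) = 0 := by
    rw [← image_factors_iff]
    exact Subobject.factors_comp_arrow _
  obtain ⟨T₁, π₁, hπ₁, b, hb⟩ := (comp_cokernel_eq_zero_iff _ _).mp h1
  have h2 : (b ≫ (N • 𝟙 A)) ≫ cokernel.π ((k * N) • 𝟙 A) = 0 := by
    rw [Category.assoc, h, comp_zero]
  obtain ⟨T₂, π₂, hπ₂, c, hc⟩ := (comp_cokernel_eq_zero_iff _ _).mp h2
  have : Epi (π₂ ≫ π₁) := epi_comp _ _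
  refine ⟨T₂, π₂ ≫ π₁, inferInstance, c ≫ factorThruImageSubobject (N • 𝟙 A), ?_⟩
  rw [← cancel_mono (imageSubobject (N • 𝟙 A)).arrow]
  simp only [Category.assoc]
  rw [hb, hc, nsmul_id_comm k (imageSubobject (N • 𝟙 A)).arrow,
    ← Category.assoc (factorThruImageSubobject _), imageSubobject_arrow_comp,
    nsmul_id_comp_nsmul_id, mul_comm N k]

/-- If `B' ⊆ A` is `p`-divisible and `A / B'` is killed by `t` prime to `p`, then `A` is
`p`-divisible. -/
theorem epi_nsmul_of_coprime {A : V} (B' : Subobject A) (p t : ℕ) (hpt : Nat.Coprime p t)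
    (hB' : Epi (p • 𝟙 (B' : V))) (ht : t • 𝟙 (cokernel B'.arrow) = 0) : Epi (p • 𝟙 A) := by
  rw [epi_iff_surjective_up_to_refinements]
  intro T x
  obtain ⟨a, b, hab⟩ : IsCoprime (p : ℤ) (t : ℤ) := Nat.isCoprime_iff_coprime.mpr hpt
  have h1 : B'.Factors (x ≫ (t • 𝟙 A)) := by
    rw [factors_iff_comp_cokernel, Category.assoc, nsmul_id_comm, ht, comp_zero, comp_zero]
  obtain ⟨T₁, π₁, hπ₁, w, hw⟩ := surjective_up_to_refinements_of_epi (p • 𝟙 (B' : V))
    (B'.factorThru _ h1)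
  have hw' : π₁ ≫ x ≫ (t • 𝟙 A) = (w ≫ B'.arrow) ≫ (p • 𝟙 A) := by
    rw [← Subobject.factorThru_arrow B' _ h1, ← Category.assoc, hw, Category.assoc,
      nsmul_id_comm, Category.assoc]
  refine ⟨T₁, π₁, hπ₁, a • (π₁ ≫ x) + b • (w ≫ B'.arrow), ?_⟩
  rw [Preadditive.add_comp, Preadditive.zsmul_comp, Preadditive.zsmul_comp, ← hw']
  have e1 : (π₁ ≫ x) ≫ (p • 𝟙 A) = (p : ℤ) • (π₁ ≫ x) := by
    rw [comp_nsmul_id, natCast_zsmul]
  have e2 : π₁ ≫ x ≫ (t • 𝟙 A) = (t : ℤ) • (π₁ ≫ x) := by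
    rw [← Category.assoc, comp_nsmul_id, natCast_zsmul]
  rw [e1, e2, smul_smul, smul_smul, ← add_smul, hab, one_smul]

end General

variable {C : Type v} [SmallCategory C] [Abelian C]

/-- objects of `C` are torsion in `Ind C` -/
theorem torsion_of_essImage (htor : ∀ X : C, ∃ n : ℕ, 0 < n ∧ n • 𝟙 X = 0) {Q : Ind C}
    (hQ : (Ind.yoneda (C := C)).essImage Q) : ∃ t : ℕ, 0 < t ∧ t • 𝟙 Q = 0 := by
  obtain ⟨X, ⟨e⟩⟩ := hQ
  obtain ⟨t, ht0, ht⟩ := htor X
  refine ⟨t, ht0, ?_⟩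
  rw [← cancel_epi e.hom, comp_zero]
  exact leg_comp_nsmul X e.hom t ht

/-- If only finitely many primes fail to be epi on `A` (of cofinite type), then some `N A` is
divisible. -/
theorem exists_divisible_of_finite (hart : ∀ X : C, IsArtinianObject X)
    (htor : ∀ X : C, ∃ n : ℕ, 0 < n ∧ n • 𝟙 X = 0) (A : Ind C)
    (hA : ∀ n : ℕ, 0 < n → (Ind.yoneda (C := C)).essImage (kernel (n • 𝟙 A)))
    (hfin : {p : ℕ | p.Prime ∧ ¬ Epi (p • 𝟙 A)}.Finite) :
    ∃ N : ℕ, 0 < N ∧ ∀ k : ℕ, 0 < k → (N • 𝟙 A) ≫ cokernel.π ((k * N) • 𝟙 A) = 0 := by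
  classical
  have hstab : ∀ p : ℕ, ∃ Np : ℕ, p.Prime → ∀ K : ℕ, Np ≤ K →
      imageSubobject ((p ^ K) • 𝟙 A) = imageSubobject ((p ^ Np) • 𝟙 A) := by
    intro p
    by_cases hp : p.Prime
    · obtain ⟨N, hN⟩ := exists_image_stab hart htor p A (fun k => hA (p ^ k) (pow_pos hp.pos k))
      exact ⟨N, fun _ => hN⟩
    · exact ⟨0, fun h => absurd h hp⟩
  choose Np hNp using hstab
  set P := hfin.toFinset with hP
  have hPmem : ∀ p, p ∈ P ↔ p.Prime ∧ ¬ Epi (p • 𝟙 A) := fun p => hfin.mem_toFinset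
  refine ⟨∏ p ∈ P, p ^ Np p, Finset.prod_pos (fun p hp => pow_pos ((hPmem p).mp hp).1.pos _), ?_⟩
  set N := ∏ p ∈ P, p ^ Np p with hN
  intro k
  induction k using Nat.recOnMul with
  | zero => intro h; exact absurd h (lt_irrefl 0)
  | one => intro _; rw [one_mul]; exact cokernel.condition _
  | prime l hl =>
    intro _
    have hl' : l.Prime := hl
    by_cases hepi : Epi (l • 𝟙 A)
    · rw [← cancel_epi (l • 𝟙 A), comp_zero, ← Category.assoc, nsmul_id_comp_nsmul_id,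
        cokernel.condition]
    · have hlP : l ∈ P := (hPmem l).mpr ⟨hl', hepi⟩
      have hNl : N = l ^ Np l * ∏ p ∈ P.erase l, p ^ Np p := (Finset.mul_prod_erase P _ hlP).symm
      set N' := ∏ p ∈ P.erase l, p ^ Np p with hN'
      have h1 : ((l ^ Np l) • 𝟙 A) ≫ cokernel.π ((l ^ (Np l + 1)) • 𝟙 A) = 0 := by
        rw [← image_le_iff, hNp l hl' (Np l + 1) (by omega)]
      obtain ⟨T', π, hπ, c, hc⟩ := (comp_cokernel_eq_zero_iff _ _).mp h1
      rw [← cancel_epi π, comp_zero]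
      have h2 : π ≫ (N • 𝟙 A) = c ≫ ((l * N) • 𝟙 A) := by
        rw [hNl, ← nsmul_id_comp_nsmul_id, ← Category.assoc, hc, Category.assoc,
          nsmul_id_comp_nsmul_id, pow_succ, mul_comm (l ^ Np l) l, mul_assoc]
      rw [← Category.assoc, h2, Category.assoc, cokernel.condition, comp_zero]
  | mul a b ha hb =>
    intro hab
    have ha0 : 0 < a := Nat.pos_of_ne_zero (fun h => by rw [h, zero_mul] at hab; exact lt_irrefl 0 hab)
    have hb0 : 0 < b := Nat.pos_of_ne_zero (fun h => by rw [h, mul_zero] at hab; exact lt_irrefl 0 hab)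
    obtain ⟨T₁, π₁, hπ₁, c, hc⟩ := (comp_cokernel_eq_zero_iff _ _).mp (hb hb0)
    have h1 : (c ≫ (N • 𝟙 A)) ≫ cokernel.π ((a * N) • 𝟙 A) = 0 := by
      rw [Category.assoc, ha ha0, comp_zero]
    obtain ⟨T₂, π₂, hπ₂, c', hc'⟩ := (comp_cokernel_eq_zero_iff _ _).mp h1
    rw [← cancel_epi π₁, ← cancel_epi π₂, comp_zero, comp_zero]
    have h2 : π₂ ≫ π₁ ≫ (N • 𝟙 A) = c' ≫ ((a * b * N) • 𝟙 A) := by
      rw [hc, ← nsmul_id_comp_nsmul_id b N, nsmul_id_comm b (N • 𝟙 A), ← Category.assoc c,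
        ← Category.assoc π₂, hc', Category.assoc, nsmul_id_comp_nsmul_id, mul_right_comm]
    rw [← Category.assoc π₁, ← Category.assoc π₂, h2, Category.assoc, cokernel.condition,
      comp_zero]

end Groth.Agent.H16.IndCof
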