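import Groth.Agent.H16.IndCof7
import Mathlib.CategoryTheory.Abelian.GrothendieckAxioms.Indization
import Mathlib.CategoryTheory.Abelian.GrothendieckCategory.Subobject
import Mathlib.Data.Nat.Factorial.Basic

/-!
# Ind-objects of cofinite type, part 8: the largest divisible sub-object (helper16)
-/

set_option autoImplicit false
universe v u

namespace Groth.Agent.H16.IndCof

open CategoryTheory CategoryTheory.Limits Groth.Agent.H16.GenElem

section General

variable {V : Type u} [Category.{v} V] [Abelian V]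

/-- `c A ⊆ a A` when `a ∣ c` -/
theorem comp_cokernel_nsmul_of_dvd {A : V} {a c : ℕ} (h : a ∣ c) ⦃T : V⦄ (x : T ⟶ A)
    (hx : x ≫ cokernel.π (c • 𝟙 A) = 0) : x ≫ cokernel.π (a • 𝟙 A) = 0 := by
  obtain ⟨d, rfl⟩ := h
  obtain ⟨T', π, hπ, b, hb⟩ := (comp_cokernel_eq_zero_iff _ _).mp hx
  rw [← cancel_epi π, comp_zero, ← Category.assoc, hb, mul_comm, ← nsmul_id_comp_nsmul_id,
    Category.assoc, Category.assoc, cokernel.condition, comp_zero, comp_zero]

/-- elements of `(a A)[n]` -/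
theorem torsImage_factors_iff {A : V} (a n : ℕ) ⦃T : V⦄ (x : T ⟶ A) :
    (Subobject.mk (kernel.ι (n • 𝟙 ((imageSubobject (a • 𝟙 A) : Subobject A) : V)) ≫
      (imageSubobject (a • 𝟙 A)).arrow)).Factors x ↔
      x ≫ (n • 𝟙 A) = 0 ∧ x ≫ cokernel.π (a • 𝟙 A) = 0 := by
  set I := imageSubobject (a • 𝟙 A) with hI
  set f := kernel.ι (n • 𝟙 ((I : Subobject A) : V)) ≫ I.arrow with hf
  have hf1 : f ≫ (n • 𝟙 A) = 0 := by
    rw [hf, Category.assoc, ← nsmul_id_comm n I.arrow, ← Category.assoc, kernel.condition,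
      zero_comp]
  have hf2 : f ≫ cokernel.π (a • 𝟙 A) = 0 := by
    rw [← image_factors_iff, hf]
    exact Subobject.factors_comp_arrow _
  constructor
  · intro hx
    have hx' : x = ((Subobject.mk f).factorThru x hx ≫ (Subobject.underlyingIso f).hom) ≫ f := by
      rw [Category.assoc, Subobject.underlyingIso_hom_comp_eq_mk]
      exact (Subobject.factorThru_arrow _ _ hx).symm
    constructor
    · rw [hx', Category.assoc, hf1, comp_zero]
    · rw [hx', Category.assoc, hf2, comp_zero]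
  · rintro ⟨h1, h2⟩
    rw [← image_factors_iff] at h2
    have hd0 : I.factorThru x h2 ≫ (n • 𝟙 ((I : Subobject A) : V)) = 0 := by
      rw [← cancel_mono I.arrow, zero_comp, Category.assoc, nsmul_id_comm n I.arrow,
        ← Category.assoc, Subobject.factorThru_arrow, h1]
    have : x = kernel.lift _ _ hd0 ≫ f := by
      rw [hf, ← Category.assoc, kernel.lift_ι, Subobject.factorThru_arrow]
    rw [this]
    exact Subobject.factors_of_factors_right _ (Subobject.mk_factors_self _)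

end General

variable {C : Type v} [SmallCategory C] [Abelian C]

/-- The `b`-torsion of `a A` lies in `C`. -/
theorem essImage_kernel_image' (a b : ℕ) (A : Ind C)
    (hb : (Ind.yoneda (C := C)).essImage (kernel (b • 𝟙 A)))
    (hab : (Ind.yoneda (C := C)).essImage (kernel ((a * b) • 𝟙 A))) :
    (Ind.yoneda (C := C)).essImage
      (kernel (b • 𝟙 ((imageSubobject (a • 𝟙 A) : Subobject A) : Ind C))) := by
  set D := imageSubobject (a • 𝟙 A) with hD
  obtain ⟨t⟩ := exists_tors hb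
  obtain ⟨t'⟩ := exists_tors hab
  have hκ : (kernel.ι (b • 𝟙 (D : Ind C)) ≫ D.arrow) ≫ (b • 𝟙 A) = 0 := by
    rw [Category.assoc, ← nsmul_id_comm, ← Category.assoc, kernel.condition, zero_comp]
  obtain ⟨m, hm⟩ := t.lift _ hκ
  have : Mono (m ≫ t.j) := by rw [hm]; infer_instance
  have : Mono m := mono_of_mono m t.j
  have hr0 : (t'.j ≫ factorThruImageSubobject (a • 𝟙 A)) ≫ (b • 𝟙 (D : Ind C)) = 0 := by
    rw [← cancel_mono D.arrow, zero_comp, Category.assoc, Category.assoc, nsmul_id_comm,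
      ← Category.assoc (factorThruImageSubobject _), imageSubobject_arrow_comp,
      nsmul_id_comp_nsmul_id]
    exact t'.zero
  let e : Ind.yoneda.obj t'.X ⟶ kernel (b • 𝟙 (D : Ind C)) :=
    kernel.lift _ (t'.j ≫ factorThruImageSubobject (a • 𝟙 A)) hr0
  have he : e ≫ kernel.ι _ ≫ D.arrow = t'.j ≫ (a • 𝟙 A) := by
    rw [← Category.assoc, kernel.lift_ι, Category.assoc, imageSubobject_arrow_comp]
  have : Epi e := by
    rw [epi_iff_surjective_up_to_refinements]
    intro T y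
    have h1 : (y ≫ kernel.ι _ ≫ D.arrow) ≫ cokernel.π (a • 𝟙 A) = 0 := by
      rw [← image_factors_iff, ← Category.assoc]
      exact Subobject.factors_comp_arrow _
    obtain ⟨T₁, π₁, hπ₁, c, hc⟩ := (comp_cokernel_eq_zero_iff _ _).mp h1
    have hc0 : c ≫ ((a * b) • 𝟙 A) = 0 := by
      have hκ' : kernel.ι (b • 𝟙 (D : Ind C)) ≫ D.arrow ≫ (b • 𝟙 A) = 0 := by
        rw [← Category.assoc]; exact hκ
      rw [← nsmul_id_comp_nsmul_id, ← Category.assoc, ← hc]
      simp only [Category.assoc]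
      rw [hκ', comp_zero, comp_zero]
    obtain ⟨c', hc'⟩ := t'.lift c hc0
    refine ⟨T₁, π₁, hπ₁, c', ?_⟩
    rw [← cancel_mono (kernel.ι (b • 𝟙 (D : Ind C)) ≫ D.arrow)]
    simp only [Category.assoc]
    rw [he, ← Category.assoc c', hc']
    exact hc
  exact essImage_of_epi_mono e m

/-- For fixed `n`, the sub-objects `(m A)[n]` have a smallest element. -/
theorem exists_torsion_image_stab (hart : ∀ X : C, IsArtinianObject X) (A : Ind C)
    (hA : ∀ n : ℕ, 0 < n → (Ind.yoneda (C := C)).essImage (kernel (n • 𝟙 A)))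
    (n : ℕ) (hn : 0 < n) :
    ∃ m₀ : ℕ, 0 < m₀ ∧ ∀ m : ℕ, 0 < m → ∀ ⦃T : Ind C⦄ (x : T ⟶ A), x ≫ (n • 𝟙 A) = 0 →
      x ≫ cokernel.π (m₀ • 𝟙 A) = 0 → x ≫ cokernel.π ((m₀ * m) • 𝟙 A) = 0 := by
  let Tt : ℕ → Subobject A := fun j =>
    Subobject.mk (kernel.ι (n • 𝟙 ((imageSubobject ((j.factorial) • 𝟙 A) : Subobject A) : Ind C)) ≫
      (imageSubobject ((j.factorial) • 𝟙 A)).arrow)
  have hTt : ∀ j ⦃T : Ind C⦄ (x : T ⟶ A), (Tt j).Factors x ↔
      x ≫ (n • 𝟙 A) = 0 ∧ x ≫ cokernel.π ((j.factorial) • 𝟙 A) = 0 :=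
    fun j T x => torsImage_factors_iff (j.factorial) n x
  have hTanti : Antitone Tt := by
    intro j j' h
    apply Subobject.le_of_factors
    obtain ⟨h1, h2⟩ := (hTt j' _).mp (Subobject.factors_self _)
    exact (hTt j _).mpr ⟨h1, comp_cokernel_nsmul_of_dvd (Nat.factorial_dvd_factorial h) _ h2⟩
  have hTC : ∀ j : ℕ, (Ind.yoneda (C := C)).essImage ((Tt j : Subobject A) : Ind C) := by
    intro j
    exact Functor.essImage.ofIso (Subobject.underlyingIso _).symm
      (essImage_kernel_image' (j.factorial) n A (hA n hn)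
        (hA _ (Nat.mul_pos (Nat.factorial_pos j) hn)))
  obtain ⟨J₀, hJ₀⟩ := chain_stab_of_essImage hart Tt hTanti hTC
  refine ⟨J₀.factorial, Nat.factorial_pos _, fun m hm T x hx1 hx2 => ?_⟩
  have hle : J₀ ≤ J₀.factorial * m :=
    le_trans (Nat.self_le_factorial J₀) (Nat.le_mul_of_pos_right _ hm)
  have h1 : (Tt (J₀.factorial * m)).Factors x := by
    rw [hJ₀ _ hle]
    exact (hTt J₀ x).mpr ⟨hx1, hx2⟩
  exact comp_cokernel_nsmul_of_dvd
    (Nat.dvd_factorial (Nat.mul_pos (Nat.factorial_pos _) hm) le_rfl) _ ((hTt _ x).mp h1).2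

/-- **The largest divisible sub-object** of an ind-object of cofinite type. -/
theorem exists_largest_divisible (hart : ∀ X : C, IsArtinianObject X)
    (htor : ∀ X : C, ∃ n : ℕ, 0 < n ∧ n • 𝟙 X = 0) (A : Ind C)
    (hA : ∀ n : ℕ, 0 < n → (Ind.yoneda (C := C)).essImage (kernel (n • 𝟙 A))) :
    ∃ D : Subobject A, (∀ k : ℕ, 0 < k → Epi (k • 𝟙 (D : Ind C))) ∧
      (∀ D' : Subobject A, (∀ k : ℕ, 0 < k → Epi (k • 𝟙 (D' : Ind C))) → D' ≤ D) ∧
      (∀ n : ℕ, 0 < n → (Ind.yoneda (C := C)).essImage (kernel (n • 𝟙 (D : Ind C)))) ∧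
      (∀ n : ℕ, 0 < n → (Ind.yoneda (C := C)).essImage (kernel (n • 𝟙 (cokernel D.arrow)))) := by
  classical
  let D : Subobject A := sInf {S | ∃ m : ℕ, 0 < m ∧ S = imageSubobject (m • 𝟙 A)}
  have hDle : ∀ m : ℕ, 0 < m → D ≤ imageSubobject (m • 𝟙 A) := fun m hm => sInf_le ⟨m, hm, rfl⟩
  have hDel : ∀ m : ℕ, 0 < m → ∀ ⦃T : Ind C⦄ (x : T ⟶ A), D.Factors x →
      x ≫ cokernel.π (m • 𝟙 A) = 0 := by
    intro m hm T x hx
    rw [← image_factors_iff]
    exact Subobject.factors_of_le _ (hDle m hm) hx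
  have hDin : ∀ ⦃T : Ind C⦄ (x : T ⟶ A), (∀ m : ℕ, 0 < m → x ≫ cokernel.π (m • 𝟙 A) = 0) →
      D.Factors x := by
    intro T x hx
    rw [← image_le_iff_subobject]
    apply le_sInf
    rintro S ⟨m, hm, rfl⟩
    rw [image_le_iff]
    exact hx m hm
  -- (c)
  have hc : ∀ n : ℕ, 0 < n → (Ind.yoneda (C := C)).essImage (kernel (n • 𝟙 (D : Ind C))) := by
    intro n hn
    obtain ⟨m₀, hm₀pos, hm₀⟩ := exists_torsion_image_stab hart A hA n hn
    have hT' := essImage_kernel_image' m₀ n A (hA n hn) (hA (m₀ * n) (Nat.mul_pos hm₀pos hn))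
    set I := imageSubobject (m₀ • 𝟙 A) with hI
    have hτ1 : (kernel.ι (n • 𝟙 ((I : Subobject A) : Ind C)) ≫ I.arrow) ≫ (n • 𝟙 A) = 0 := by
      rw [Category.assoc, ← nsmul_id_comm n I.arrow, ← Category.assoc, kernel.condition,
        zero_comp]
    have hτ2 : (kernel.ι (n • 𝟙 ((I : Subobject A) : Ind C)) ≫ I.arrow) ≫
        cokernel.π (m₀ • 𝟙 A) = 0 := by
      rw [← image_factors_iff]
      exact Subobject.factors_comp_arrow _
    have hτD : D.Factors (kernel.ι (n • 𝟙 ((I : Subobject A) : Ind C)) ≫ I.arrow) :=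
      hDin _ (fun m hm => comp_cokernel_nsmul_of_dvd (Dvd.intro_left m₀ rfl) _
        (hm₀ m hm _ hτ1 hτ2))
    have hd0 : D.factorThru _ hτD ≫ (n • 𝟙 ((D : Subobject A) : Ind C)) = 0 := by
      rw [← cancel_mono D.arrow, zero_comp, Category.assoc, nsmul_id_comm n D.arrow,
        ← Category.assoc, Subobject.factorThru_arrow, hτ1]
    have hκ1 : (kernel.ι (n • 𝟙 ((D : Subobject A) : Ind C)) ≫ D.arrow) ≫ (n • 𝟙 A) = 0 := by
      rw [Category.assoc, ← nsmul_id_comm n D.arrow, ← Category.assoc, kernel.condition,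
        zero_comp]
    have hκI : I.Factors (kernel.ι (n • 𝟙 ((D : Subobject A) : Ind C)) ≫ D.arrow) :=
      Subobject.factors_of_le _ (hDle m₀ hm₀pos) (Subobject.factors_comp_arrow _)
    have hd'0 : I.factorThru _ hκI ≫ (n • 𝟙 ((I : Subobject A) : Ind C)) = 0 := by
      rw [← cancel_mono I.arrow, zero_comp, Category.assoc, nsmul_id_comm n I.arrow,
        ← Category.assoc, Subobject.factorThru_arrow, hκ1]
    refine Functor.essImage.ofIso ⟨kernel.lift _ _ hd0, kernel.lift _ _ hd'0, ?_, ?_⟩ hT'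
    · rw [← cancel_mono (kernel.ι (n • 𝟙 ((I : Subobject A) : Ind C)) ≫ I.arrow)]
      simp only [Category.assoc]
      rw [← Category.assoc (kernel.lift _ _ hd'0), kernel.lift_ι, Subobject.factorThru_arrow,
        ← Category.assoc, kernel.lift_ι, Subobject.factorThru_arrow, Category.id_comp]
    · rw [← cancel_mono (kernel.ι (n • 𝟙 ((D : Subobject A) : Ind C)) ≫ D.arrow)]
      simp only [Category.assoc]
      rw [← Category.assoc (kernel.lift _ _ hd0), kernel.lift_ι, Subobject.factorThru_arrow,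
        ← Category.assoc, kernel.lift_ι, Subobject.factorThru_arrow, Category.id_comp]
  refine ⟨D, ?_, ?_, hc, ?_⟩
  · -- (a)
    intro k hk
    obtain ⟨m₁, hm₁pos, hm₁⟩ := exists_torsion_image_stab hart A hA k hk
    rw [epi_iff_surjective_up_to_refinements]
    intro T y
    have hx := hDel (k * m₁) (Nat.mul_pos hk hm₁pos) (y ≫ D.arrow)
      (Subobject.factors_comp_arrow y)
    obtain ⟨T₁, π₁, hπ₁, z, hz⟩ := (comp_cokernel_eq_zero_iff _ _).mp hx
    have hy₁ : D.Factors (z ≫ (m₁ • 𝟙 A)) := by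
      apply hDin
      intro m hm
      have hx' := hDel (k * (m₁ * m)) (Nat.mul_pos hk (Nat.mul_pos hm₁pos hm))
        ((π₁ ≫ y) ≫ D.arrow) (Subobject.factors_comp_arrow _)
      obtain ⟨T₂, π₂, hπ₂, z', hz'⟩ := (comp_cokernel_eq_zero_iff _ _).mp hx'
      have hr1 : (π₂ ≫ z ≫ (m₁ • 𝟙 A) - z' ≫ ((m₁ * m) • 𝟙 A)) ≫ (k • 𝟙 A) = 0 := by
        rw [Preadditive.sub_comp]
        simp only [Category.assoc]
        rw [nsmul_id_comp_nsmul_id, nsmul_id_comp_nsmul_id, mul_comm m₁ k, mul_comm (m₁ * m) k,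
          ← hz, ← hz']
        simp only [Category.assoc]
        exact sub_self _
      have hr2 : (π₂ ≫ z ≫ (m₁ • 𝟙 A) - z' ≫ ((m₁ * m) • 𝟙 A)) ≫ cokernel.π (m₁ • 𝟙 A) = 0 := by
        rw [Preadditive.sub_comp]
        simp only [Category.assoc]
        rw [cokernel.condition, comp_zero, comp_zero, mul_comm m₁ m, ← nsmul_id_comp_nsmul_id,
          Category.assoc, cokernel.condition, comp_zero, comp_zero, sub_zero]
      have hr3 := hm₁ m hm _ hr1 hr2
      have h4 : (π₂ ≫ z ≫ (m₁ • 𝟙 A)) ≫ cokernel.π ((m₁ * m) • 𝟙 A) = 0 := by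
        have : π₂ ≫ z ≫ (m₁ • 𝟙 A) =
            (π₂ ≫ z ≫ (m₁ • 𝟙 A) - z' ≫ ((m₁ * m) • 𝟙 A)) + z' ≫ ((m₁ * m) • 𝟙 A) := by abel
        rw [this, Preadditive.add_comp, hr3, Category.assoc, cokernel.condition, comp_zero,
          add_zero]
      have h5 := comp_cokernel_nsmul_of_dvd (Dvd.intro_left m₁ rfl : m ∣ m₁ * m) _ h4
      rw [Category.assoc] at h5
      exact (cancel_epi π₂).mp (h5.trans comp_zero.symm)
    refine ⟨T₁, π₁, hπ₁, D.factorThru _ hy₁, ?_⟩
    rw [← cancel_mono D.arrow, Category.assoc, Category.assoc, nsmul_id_comm k D.arrow,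
      ← Category.assoc (D.factorThru _ hy₁), Subobject.factorThru_arrow, Category.assoc,
      nsmul_id_comp_nsmul_id, mul_comm m₁ k]
    exact hz
  · -- (b)
    intro D' hD'
    apply le_sInf
    rintro S ⟨m, hm, rfl⟩
    apply Subobject.le_of_factors
    rw [image_factors_iff]
    have := hD' m hm
    rw [← cancel_epi (m • 𝟙 ((D' : Subobject A) : Ind C)), comp_zero, ← Category.assoc,
      nsmul_id_comm, Category.assoc, cokernel.condition, comp_zero]
  · -- (d)
    intro n hn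
    have h := essImage_kernel_quot hart htor n D.arrow (cokernel.π D.arrow)
      (cokernel.condition _) (fun T z hz => (comp_cokernel_eq_zero_iff _ _).mp hz)
      (fun k => hA (n ^ k) (pow_pos hn k)) (fun k => hc (n ^ k) (pow_pos hn k)) 1
    rwa [pow_one] at h

end Groth.Agent.H16.IndCof
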