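import Groth.Agent.H16.KeyRelT12
import Groth.Agent.H37.KeyRelT3

/-!
# (FIN) local finiteness of the divisor of a rational section (helper16, for helper34)
-/

set_option autoImplicit false
set_option linter.style.haveILetI false
set_option linter.unusedVariables false

universe u

open CategoryTheory AlgebraicGeometry TopologicalSpace Opposite

namespace Groth.Agent.H16.KeyRelFIN

open Groth.Agent.H95.C1Cap Groth.Agent.H95.SecOrd Groth.Agent.H34.KeyRel
open Groth.Agent.H18.TensorGen (IsGen exists_isGen)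

variable {X : Scheme.{u}}

/-- the divisor of a nonzero rational section of an invertible module on the closure of `ζ` has
finitely many components through a given point. -/
theorem finite_secDivFun (δ : X → ℤ) (hX : Cyc.IsSetup X δ) (M : X.Modules)
    (hM : PicF.IsInvertible M) (ζ : X) (s : Cyc.secFibre M ζ) (hs : s ≠ 0) (x : X) :
    {ξ : X | ξ ⤳ x ∧ Cyc.secDivFun δ M ζ s ξ ≠ 0}.Finite := by
  classical
  have hcond : ∀ ξ, Cyc.secDivFun δ M ζ s ξ ≠ 0 → ζ ⤳ ξ ∧ δ ξ + 1 = δ ζ := by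
    intro ξ hξ
    by_contra hn
    apply hξ
    unfold Cyc.secDivFun
    rw [dif_neg hn]
  by_cases hζx : ζ ⤳ x
  · obtain ⟨V, τ, hxV, hτ⟩ := exists_isGen hM x
    have hζV : ζ ∈ V := hζx.mem_open V.2 hxV
    obtain ⟨ψ, hψ⟩ := exists_eq_smul_mk hτ ζ hζV s
    have hψ0 : X.residue ζ ψ ≠ 0 := by
      intro h0
      apply hs
      rw [hψ]
      have hmem : ψ ∈ IsLocalRing.maximalIdeal (X.presheaf.stalk ζ) :=
        (residue_eq_zero_iff ψ).mp h0
      rw [← Submodule.Quotient.mk_smul]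
      exact (Submodule.Quotient.mk_eq_zero _).mpr
        (Submodule.smul_mem_smul hmem Submodule.mem_top)
    obtain ⟨U, hxU, hfin⟩ :=
      Groth.Agent.H37.KeyRelT3.finite_not_unitAtRel δ hX hζx (X.residue ζ ψ) hψ0
    refine hfin.subset ?_
    rintro ξ ⟨hξx, hne⟩
    obtain ⟨h1, h2⟩ := hcond ξ hne
    have hξV : ξ ∈ V := hξx.mem_open V.2 hxV
    refine ⟨hξx.mem_open U.2 hxU, h1, h2, ?_⟩
    rintro ⟨c, hc, hcψ⟩
    apply hne
    unfold Cyc.secDivFun
    rw [dif_pos ⟨h1, h2⟩, secOrdAt_eq_of_isGen hτ h1 hξV hζV s ψ hψ, ← hcψ]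
    exact ordAt_specMap_unit h1 hc
  · have : {ξ : X | ξ ⤳ x ∧ Cyc.secDivFun δ M ζ s ξ ≠ 0} = ∅ := by
      ext ξ
      simp only [Set.mem_ofPred_eq, Set.mem_empty_iff_false, iff_false, not_and]
      intro hξx hne
      exact hζx ((hcond ξ hne).1.trans hξx)
    rw [this]
    exact Set.finite_empty

/-- (FIN) -/
theorem fin : Groth.Agent.H16.KeyRelT12.FINStatement.{u} :=
  fun X δ hX M hM ζ s hs x => finite_secDivFun δ hX M hM ζ s hs x

end Groth.Agent.H16.KeyRelFIN
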