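import Groth.Agent.H34.KeyRelDefs
import Groth.Agent.H95.C1Cap

/-!
# (T12) S1922 from the relative key formula (helper16, for helper34)

Hypothesis-style: `hrkf : RKFStatement` and `hfin : FINStatement` (local finiteness of the divisor
of a rational section).
-/

set_option autoImplicit false
set_option linter.style.haveILetI false
set_option linter.unusedVariables false

universe u

open CategoryTheory AlgebraicGeometry TopologicalSpace Opposite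

namespace Groth.Agent.H16.KeyRelT12

open Groth.Agent.H95.C1Cap

variable {X : Scheme.{u}}

/-- local finiteness of the divisor of a nonzero rational section of an invertible module. -/
def FINStatement : Prop :=
  ∀ (X : Scheme.{u}) (δ : X → ℤ) (_ : Cyc.IsSetup X δ) (M : X.Modules) (_ : PicF.IsInvertible M)
    (ζ : X) (s : Cyc.secFibre M ζ) (_ : s ≠ 0) (x : X),
    {ξ : X | ξ ⤳ x ∧ Cyc.secDivFun δ M ζ s ξ ≠ 0}.Finite

/-- the generizations of `x` in the support of a cycle form a finite set. -/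
theorem finite_gen_support (α : AlgebraicCycle X ℤ) (x : X) :
    {ζ : X | α ζ ≠ 0 ∧ ζ ⤳ x}.Finite := by
  obtain ⟨t, ht, hfin⟩ := α.supportLocallyFiniteWithinDomain x (Set.mem_univ x)
  obtain ⟨U, hUt, hUo, hxU⟩ := mem_nhds_iff.mp ht
  refine hfin.subset (fun ζ hζ => ?_)
  exact ⟨hUt (hζ.2.mem_open hUo hxU), hζ.1⟩

/-- exchange of the two sums. -/
theorem exch (α : AlgebraicCycle X ℤ) (d : X → X → ℤ) (e : X → ℤ) (x : X)
    (hd : ∀ ζ ξ, ¬ ζ ⤳ ξ → d ζ ξ = 0) (he : ∀ ξ, ¬ ξ ⤳ x → e ξ = 0)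
    (hfin : ∀ ζ, {ξ : X | ξ ⤳ x ∧ d ζ ξ ≠ 0}.Finite) :
    ∑ᶠ ξ, (∑ᶠ ζ, α ζ * d ζ ξ) * e ξ = ∑ᶠ ζ, α ζ * ∑ᶠ ξ, d ζ ξ * e ξ := by
  classical
  have hS := finite_gen_support α x
  set S := hS.toFinset with hSdef
  have hT : (⋃ ζ ∈ S, {ξ : X | ξ ⤳ x ∧ d ζ ξ ≠ 0}).Finite :=
    Set.Finite.biUnion S.finite_toSet (fun ζ _ => hfin ζ)
  set T := hT.toFinset with hTdef
  have memS : ∀ ζ, ζ ∈ S ↔ α ζ ≠ 0 ∧ ζ ⤳ x := fun ζ => by
    rw [hSdef, Set.Finite.mem_toFinset]; rfl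
  have memT : ∀ ξ, ξ ∈ T ↔ ∃ ζ ∈ S, ξ ⤳ x ∧ d ζ ξ ≠ 0 := fun ξ => by
    rw [hTdef, Set.Finite.mem_toFinset]
    simp only [Set.mem_iUnion, Set.mem_ofPred_eq, exists_prop]
  -- the left hand side
  have hL : ∀ ξ, (∑ᶠ ζ, α ζ * d ζ ξ) * e ξ = ∑ ζ ∈ S, α ζ * d ζ ξ * e ξ := by
    intro ξ
    by_cases hξ : ξ ⤳ x
    · rw [finsum_eq_sum_of_support_subset (s := S), Finset.sum_mul]
      intro ζ hζ
      have h0 : α ζ * d ζ ξ ≠ 0 := hζ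
      have h1 : α ζ ≠ 0 := left_ne_zero_of_mul h0
      have h2 : d ζ ξ ≠ 0 := right_ne_zero_of_mul h0
      have h3 : ζ ⤳ ξ := by
        by_contra hn
        exact h2 (hd ζ ξ hn)
      exact Finset.mem_coe.mpr ((memS ζ).mpr ⟨h1, h3.trans hξ⟩)
    · rw [he ξ hξ, mul_zero]
      symm
      apply Finset.sum_eq_zero
      intro ζ _
      rw [mul_zero]
  have hLsupp : (Function.support fun ξ => ∑ ζ ∈ S, α ζ * d ζ ξ * e ξ) ⊆ ↑T := by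
    intro ξ hξ
    have h0 : ∑ ζ ∈ S, α ζ * d ζ ξ * e ξ ≠ 0 := hξ
    obtain ⟨ζ, hζS, hζ⟩ := Finset.exists_ne_zero_of_sum_ne_zero h0
    have h1 : e ξ ≠ 0 := right_ne_zero_of_mul hζ
    have h2 : d ζ ξ ≠ 0 := right_ne_zero_of_mul (left_ne_zero_of_mul hζ)
    have h3 : ξ ⤳ x := by
      by_contra hn
      exact h1 (he ξ hn)
    exact Finset.mem_coe.mpr ((memT ξ).mpr ⟨ζ, hζS, h3, h2⟩)
  -- the right hand side
  have hR : ∀ ζ, α ζ * ∑ᶠ ξ, d ζ ξ * e ξ = if ζ ∈ S then ∑ ξ ∈ T, α ζ * d ζ ξ * e ξ else 0 := by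
    intro ζ
    split_ifs with hζ
    · rw [finsum_eq_sum_of_support_subset (s := T), Finset.mul_sum]
      · refine Finset.sum_congr rfl (fun ξ _ => ?_)
        ring
      · intro ξ hξ
        have h0 : d ζ ξ * e ξ ≠ 0 := hξ
        have h1 : e ξ ≠ 0 := right_ne_zero_of_mul h0
        have h2 : d ζ ξ ≠ 0 := left_ne_zero_of_mul h0
        have h3 : ξ ⤳ x := by
          by_contra hn
          exact h1 (he ξ hn)
        exact Finset.mem_coe.mpr ((memT ξ).mpr ⟨ζ, hζ, h3, h2⟩)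
    · by_cases hα : α ζ = 0
      · rw [hα, zero_mul]
      · have hζx : ¬ ζ ⤳ x := fun h => hζ ((memS ζ).mpr ⟨hα, h⟩)
        have hz : ∀ ξ, d ζ ξ * e ξ = 0 := by
          intro ξ
          by_cases h1 : ζ ⤳ ξ
          · by_cases h2 : ξ ⤳ x
            · exact absurd (h1.trans h2) hζx
            · rw [he ξ h2, mul_zero]
          · rw [hd ζ ξ h1, zero_mul]
        rw [finsum_congr hz, finsum_zero, mul_zero]
  rw [finsum_congr hL, finsum_eq_sum_of_support_subset _ hLsupp, finsum_congr hR,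
    finsum_eq_sum_of_support_subset (s := S), Finset.sum_comm]
  · refine Finset.sum_congr rfl (fun ζ hζ => ?_)
    rw [if_pos hζ]
  · intro ζ hζ
    by_contra hn
    have : (if ζ ∈ S then ∑ ξ ∈ T, α ζ * d ζ ξ * e ξ else 0) ≠ 0 := hζ
    rw [if_neg (fun h => hn (Finset.mem_coe.mpr h))] at this
    exact this rfl

theorem divFun_one (δ : X → ℤ) (ξ x : X) : Cyc.divFun δ ξ (1 : X.residueField ξ) x = 0 := by
  unfold Cyc.divFun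
  split_ifs with h
  · exact ordAt_one h.1
  · rfl

theorem c1Cap_secDiv_eq_zero (δ : X → ℤ) (M M' : X.Modules) (ζ : X) (s : Cyc.secFibre M ζ)
    (t : (ξ : X) → Cyc.secFibre M' ξ) (x : X) (h : ¬ ζ ⤳ x) :
    Cyc.c1CapFun δ M' (Cyc.secDivFun δ M ζ s) t x = 0 := by
  show ∑ᶠ ξ, Cyc.secDivFun δ M ζ s ξ * Cyc.secDivFun δ M' ξ (t ξ) x = 0
  have hz : ∀ ξ, Cyc.secDivFun δ M ζ s ξ * Cyc.secDivFun δ M' ξ (t ξ) x = 0 := by
    intro ξ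
    by_cases h1 : ζ ⤳ ξ
    · by_cases h2 : ξ ⤳ x
      · exact absurd (h1.trans h2) h
      · rw [secDivFun_eq_zero δ M' ξ _ x h2, mul_zero]
    · rw [secDivFun_eq_zero δ M ζ _ ξ h1, zero_mul]
  rw [finsum_congr hz, finsum_zero]

theorem finite_g_gen {g : (ξ : X) → X.residueField ξ} (x : X)
    (h : ∃ U : Set X, IsOpen U ∧ x ∈ U ∧
      {ξ : X | g ξ ≠ 1 ∧ (closure {ξ} ∩ U).Nonempty}.Finite) :
    {ξ : X | g ξ ≠ 1 ∧ ξ ⤳ x}.Finite := by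
  obtain ⟨U, _, hxU, hf⟩ := h
  refine hf.subset (fun ξ hξ => ⟨hξ.1, x, specializes_iff_mem_closure.mp hξ.2, hxU⟩)

/-- (T12) S1922 from the relative key formula. -/
theorem s1922_of_rkf (hrkf : Groth.Agent.H34.KeyRel.RKFStatement.{u}) (hfin : FINStatement.{u})
    (X : Scheme.{u}) (δ : X → ℤ) (hX : Cyc.IsSetup X δ) (L N : X.Modules)
    (hL : PicF.IsInvertible L) (hN : PicF.IsInvertible N) (k : ℤ) (α : AlgebraicCycle X ℤ)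
    (hα : α ∈ Cyc.Zk X δ (k + 2)) (sL sL' : (ξ : X) → Cyc.secFibre L ξ)
    (sN sN' : (ξ : X) → Cyc.secFibre N ξ) (hsL : ∀ ξ, sL ξ ≠ 0) (hsL' : ∀ ξ, sL' ξ ≠ 0)
    (hsN : ∀ ξ, sN ξ ≠ 0) (hsN' : ∀ ξ, sN' ξ ≠ 0) (γ₁ γ₂ : AlgebraicCycle X ℤ)
    (h₁ : ⇑γ₁ = Cyc.c1CapFun δ L (Cyc.c1CapFun δ N ⇑α sN) sL)
    (h₂ : ⇑γ₂ = Cyc.c1CapFun δ N (Cyc.c1CapFun δ L ⇑α sL') sN') : Cyc.RatEquiv δ k γ₁ γ₂ := by
  classical
  choose g hg0 hgfin hgsupp hgform using fun ζ : X =>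
    hrkf X δ hX L N hL hN ζ (sL' ζ) (hsL' ζ) (sN ζ) (hsN ζ) sN' hsN' sL hsL
  have E1 : ∀ x, γ₁ x = ∑ᶠ ζ, α ζ * Cyc.c1CapFun δ L (Cyc.secDivFun δ N ζ (sN ζ)) sL x := by
    intro x
    rw [h₁]
    exact exch α (fun ζ ξ => Cyc.secDivFun δ N ζ (sN ζ) ξ)
      (fun ξ => Cyc.secDivFun δ L ξ (sL ξ) x) x
      (fun ζ ξ h => secDivFun_eq_zero δ N ζ _ ξ h) (fun ξ h => secDivFun_eq_zero δ L ξ _ x h)
      (fun ζ => hfin X δ hX N hN ζ (sN ζ) (hsN ζ) x)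
  have E2 : ∀ x, γ₂ x = ∑ᶠ ζ, α ζ * Cyc.c1CapFun δ N (Cyc.secDivFun δ L ζ (sL' ζ)) sN' x := by
    intro x
    rw [h₂]
    exact exch α (fun ζ ξ => Cyc.secDivFun δ L ζ (sL' ζ) ξ)
      (fun ξ => Cyc.secDivFun δ N ξ (sN' ξ) x) x
      (fun ζ ξ h => secDivFun_eq_zero δ L ζ _ ξ h) (fun ξ h => secDivFun_eq_zero δ N ξ _ x h)
      (fun ζ => hfin X δ hX L hL ζ (sL' ζ) (hsL' ζ) x)
  have hdiff : ∀ x, (γ₁ - γ₂) x = ∑ᶠ ζ, α ζ * (-(∑ᶠ ξ, Cyc.divFun δ ξ (g ζ ξ) x)) := by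
    intro x
    rw [Function.locallyFinsuppWithin.coe_sub, Pi.sub_apply, E1 x, E2 x,
      finsum_c1_sub α x _ _ (fun ζ h => c1Cap_secDiv_eq_zero δ N L ζ _ sL x h)
        (fun ζ h => c1Cap_secDiv_eq_zero δ L N ζ _ sN' x h)]
    refine finsum_congr (fun ζ => ?_)
    rw [hgform ζ x]
    ring
  show Cyc.RatEquivZero δ k (γ₁ - γ₂)
  refine ⟨{p : X × X // α p.1 ≠ 0 ∧ g p.1 p.2 ≠ 1}, fun i => i.1.2,
    fun i => (g i.1.1 i.1.2) ^ (-(α i.1.1)), ?_, ?_, ?_, ?_⟩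
  · intro i
    have h := hgsupp i.1.1 i.1.2 i.2.2
    have hζ : δ i.1.1 = k + 2 := by
      by_contra hne
      exact i.2.1 (hα i.1.1 hne)
    have h2 := h.2
    show δ i.1.2 = k + 1
    omega
  · intro i
    exact zpow_ne_zero _ (hg0 _ _)
  · intro x
    obtain ⟨t, ht, htfin⟩ := α.supportLocallyFiniteWithinDomain x (Set.mem_univ x)
    obtain ⟨U₀, hU₀t, hU₀o, hxU₀⟩ := mem_nhds_iff.mp ht
    have hS₀ : {ζ : X | ζ ∈ U₀ ∧ α ζ ≠ 0}.Finite :=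
      htfin.subset (fun ζ hζ => ⟨hU₀t hζ.1, hζ.2⟩)
    choose V hVo hxV hVfin using fun ζ : X => hgfin ζ x
    refine ⟨U₀ ∩ ⋂ ζ ∈ {ζ : X | ζ ∈ U₀ ∧ α ζ ≠ 0}, V ζ,
      hU₀o.inter (hS₀.isOpen_biInter (fun ζ _ => hVo ζ)),
      ⟨hxU₀, Set.mem_iInter₂.mpr (fun ζ _ => hxV ζ)⟩, ?_⟩
    have hfinP : (⋃ ζ ∈ {ζ : X | ζ ∈ U₀ ∧ α ζ ≠ 0},
        ({ζ} : Set X) ×ˢ {ξ : X | g ζ ξ ≠ 1 ∧ (closure {ξ} ∩ V ζ).Nonempty}).Finite :=
      Set.Finite.biUnion hS₀ (fun ζ _ => (Set.finite_singleton ζ).prod (hVfin ζ))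
    refine Set.Finite.subset (hfinP.preimage (Subtype.val_injective.injOn)) ?_
    rintro i ⟨y, hy, hyU⟩
    have hξy : i.1.2 ⤳ y := specializes_iff_mem_closure.mpr hy
    have hζξ : i.1.1 ⤳ i.1.2 := (hgsupp i.1.1 i.1.2 i.2.2).1
    have hζU₀ : i.1.1 ∈ U₀ := (hζξ.trans hξy).mem_open hU₀o hyU.1
    have hζS : i.1.1 ∈ {ζ : X | ζ ∈ U₀ ∧ α ζ ≠ 0} := ⟨hζU₀, i.2.1⟩
    have hyV : y ∈ V i.1.1 := Set.mem_iInter₂.mp hyU.2 i.1.1 hζS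
    refine Set.mem_preimage.mpr ?_
    refine Set.mem_iUnion₂.mpr ⟨i.1.1, hζS, ?_⟩
    exact ⟨rfl, i.2.2, y, hy, hyV⟩
  · intro x
    rw [hdiff x]
    set G : X × X → ℤ := fun p => -(α p.1) * Cyc.divFun δ p.2 (g p.1 p.2) x with hG
    have hGne : ∀ p, G p ≠ 0 → α p.1 ≠ 0 ∧ g p.1 p.2 ≠ 1 ∧ p.2 ⤳ x := by
      intro p hp
      have h1 : -(α p.1) ≠ 0 := left_ne_zero_of_mul hp
      have h2 : Cyc.divFun δ p.2 (g p.1 p.2) x ≠ 0 := right_ne_zero_of_mul hp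
      refine ⟨fun h => h1 (by rw [h, neg_zero]), fun h => h2 (by rw [h]; exact divFun_one δ _ x), ?_⟩
      by_contra hn
      exact h2 (divFun_eq_zero δ _ _ x hn)
    have hGfin : (Function.support G).Finite := by
      have hS := finite_gen_support α x
      have hT : (⋃ ζ ∈ {ζ : X | α ζ ≠ 0 ∧ ζ ⤳ x},
          ({ζ} : Set X) ×ˢ {ξ : X | g ζ ξ ≠ 1 ∧ ξ ⤳ x}).Finite :=
        Set.Finite.biUnion hS (fun ζ _ => (Set.finite_singleton ζ).prod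
          (finite_g_gen x (hgfin ζ x)))
      refine hT.subset (fun p hp => ?_)
      obtain ⟨h1, h2, h3⟩ := hGne p hp
      have h4 : p.1 ⤳ p.2 := (hgsupp p.1 p.2 h2).1
      exact Set.mem_iUnion₂.mpr ⟨p.1, ⟨h1, h4.trans h3⟩, rfl, h2, h3⟩
    have hR : ∑ᶠ i : {p : X × X // α p.1 ≠ 0 ∧ g p.1 p.2 ≠ 1},
        Cyc.divFun δ i.1.2 ((g i.1.1 i.1.2) ^ (-(α i.1.1))) x = ∑ᶠ p, G p := by
      have e : ∀ i : {p : X × X // α p.1 ≠ 0 ∧ g p.1 p.2 ≠ 1},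
          Cyc.divFun δ i.1.2 ((g i.1.1 i.1.2) ^ (-(α i.1.1))) x = G i.1 := fun i =>
        divFun_zpow δ i.1.2 (hg0 _ _) _ x
      rw [finsum_congr e,
        finsum_subtype_eq_finsum_cond (f := G) (fun p => α p.1 ≠ 0 ∧ g p.1 p.2 ≠ 1)]
      refine finsum_congr (fun p => ?_)
      rw [finsum_eq_if]
      split_ifs with hp
      · rfl
      · by_contra hne
        obtain ⟨h1, h2, -⟩ := hGne p (fun h => hne h.symm)
        exact hp ⟨h1, h2⟩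
    rw [hR, finsum_curry G hGfin]
    refine finsum_congr (fun ζ => ?_)
    show α ζ * -(∑ᶠ ξ, Cyc.divFun δ ξ (g ζ ξ) x) = ∑ᶠ ξ, -(α ζ) * Cyc.divFun δ ξ (g ζ ξ) x
    rw [← mul_finsum]
    ring

end Groth.Agent.H16.KeyRelT12
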