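import Groth.Agent.H34.KeyRelDefs
import Groth.Agent.H71.DimFun
import Groth.Agent.H95.CycZero

/-!
# (T2) the dimension of the local ring of the closure of `ζ` at `x` (helper16, for helper34)
-/

set_option autoImplicit false
set_option linter.style.haveILetI false

universe u

open CategoryTheory AlgebraicGeometry TopologicalSpace Opposite

namespace Groth.Agent.H16.KeyRelT2

variable {X : Scheme.{u}}

/-- the prime of `O_x` of a generization `ζ ⤳ x`, as a point of `Spec O_x`. -/
noncomputable def primeOf {ζ x : X} (h : ζ ⤳ x) : PrimeSpectrum (X.presheaf.stalk x) :=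
  (Spec.map (X.presheaf.stalkSpecializes h)).base (IsLocalRing.closedPoint (X.presheaf.stalk ζ))

theorem fromSpecStalk_primeOf {ζ x : X} (h : ζ ⤳ x) : X.fromSpecStalk x (primeOf h) = ζ := by
  have h1 := Scheme.SpecMap_stalkSpecializes_fromSpecStalk (X := X) h
  have h2 := congrArg (fun f => f.base (IsLocalRing.closedPoint (X.presheaf.stalk ζ))) h1
  have h3 : X.fromSpecStalk ζ (IsLocalRing.closedPoint (X.presheaf.stalk ζ)) = ζ :=
    Scheme.fromSpecStalk_closedPoint
  exact h2.trans h3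

theorem primeOf_asIdeal {ζ x : X} (h : ζ ⤳ x) :
    (primeOf h).asIdeal = RingHom.ker (Cyc.specMap x ζ h) := by
  rw [Groth.Agent.H95.CycZero.ker_specMap]
  rfl

/-- (T2) the dimension of the local ring of the closure of `ζ` at `x`. -/
theorem exists_dim_locQuot (δ : X → ℤ) (hX : Cyc.IsSetup X δ) {ζ x : X} (h : ζ ⤳ x) :
    ∃ d : ℕ, ringKrullDim (Cyc.LocQuot x ζ h) = (d : WithBot ℕ∞) ∧ δ ζ = δ x + d := by
  haveI : IsLocallyNoetherian X := hX.1
  obtain ⟨d, hd, hδ⟩ := Groth.Agent.H71.DimFun.delta_eq_add_coheight X δ hX.2.2 x (primeOf h)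
  rw [fromSpecStalk_primeOf h] at hδ
  refine ⟨d, ?_, hδ⟩
  have h1 := Groth.Agent.H71.DimFun.coheight_eq_ringKrullDim_quotient (primeOf h)
  rw [hd] at h1
  have e : (X.presheaf.stalk x ⧸ (primeOf h).asIdeal) ≃+* Cyc.LocQuot x ζ h :=
    Ideal.quotEquivOfEq (primeOf_asIdeal h)
  rw [← ringKrullDim_eq_of_ringEquiv e, ← h1]
  rfl

end Groth.Agent.H16.KeyRelT2
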