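import Mathlib
import Groth.Prelude.Def_W4stkremschemesLRS

/-!
# Closed immersions of locally ringed spaces into schemes (helper library, helper16)
-/

set_option autoImplicit false
set_option linter.style.haveILetI false
universe u

open CategoryTheory TopologicalSpace Opposite AlgebraicGeometry

namespace Groth.Agent.H16.LRSImm

section Q
set_option backward.isDefEq.respectTransparency false
set_option backward.isDefEq.respectTransparency.types false

/-- Quasi-coherence type extension lemma on an affine open. -/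
lemma lemQ {X : Scheme.{u}} {U : X.Opens} (hU : IsAffineOpen U) (J : Ideal Γ(X, U))
    (a h : Γ(X, U))
    (H : ∀ (x : X) (hx : x ∈ U), x ∈ X.basicOpen h →
      X.presheaf.germ U x hx a ∈ J.map (X.presheaf.germ U x hx).hom) :
    ∃ N : ℕ, h ^ N * a ∈ J := by
  suffices hrad : h ∈ (J.colon {a}).radical by
    obtain ⟨N, hN⟩ := hrad
    exact ⟨N, by simpa [Submodule.mem_colon_singleton] using hN⟩
  rw [Ideal.radical_eq_sInf, Ideal.mem_sInf]
  rintro P ⟨hP, hPprime⟩
  by_contra hh
  let y : PrimeSpectrum Γ(X, U) := ⟨P, hPprime⟩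
  have hyU : hU.fromSpec y ∈ U := by
    have := hU.range_fromSpec
    have h3 : hU.fromSpec y ∈ Set.range hU.fromSpec := ⟨y, rfl⟩
    rw [this] at h3
    exact h3
  have hyh : hU.fromSpec y ∈ X.basicOpen h := by
    have : y ∈ hU.fromSpec ⁻¹ᵁ X.basicOpen h := by
      rw [hU.fromSpec_preimage_basicOpen]; exact hh
    exact this
  have hloc := hU.isLocalization_stalk' y hyU
  have h1 := H _ hyU hyh
  have h2 := (@IsLocalization.algebraMap_mem_map_algebraMap_iff Γ(X, U) _ y.asIdeal.primeCompl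
    (X.presheaf.stalk (hU.fromSpec y)) _
    (TopCat.Presheaf.algebra_section_stalk X.presheaf ⟨hU.fromSpec y, hyU⟩) hloc J a).1 h1
  obtain ⟨m, hm, hma⟩ := h2
  exact hm (hP (by simpa [Submodule.mem_colon_singleton] using hma))

end Q

/-- The stalkwise form of the closed immersion hypotheses. -/
structure Hyp {Z X : LocallyRingedSpace.{u}} (i : Z ⟶ X) : Prop where
  emb : Topology.IsClosedEmbedding i.base
  surj : ∀ z, Function.Surjective (i.stalkMap z).hom
  gen : ∀ x : X, ∃ (U : Opens X) (_ : x ∈ U) (J : Ideal (X.presheaf.obj (op U))),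
    (∀ s ∈ J, i.c.app (op U) s = 0) ∧
    (∀ (z : Z) (hz : i.base z ∈ U),
      RingHom.ker (i.stalkMap z).hom = J.map (X.presheaf.germ U (i.base z) hz).hom) ∧
    (∀ (x' : X) (hx' : x' ∈ U), x' ∉ Set.range i.base →
      J.map (X.presheaf.germ U x' hx').hom = ⊤)

section KL
set_option backward.isDefEq.respectTransparency false
set_option backward.isDefEq.respectTransparency.types false

variable {X : Scheme.{u}} {Z : LocallyRingedSpace.{u}} (i : Z ⟶ X.toLocallyRingedSpace)

/-- local step of the key lemma -/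
lemma KL_local (hi : Hyp i) (s h : Γ(X, ⊤))
    (H : ∀ (z : Z), i.base z ∈ X.basicOpen h →
      Z.presheaf.germ ((Opens.map i.base).obj ⊤) z trivial (i.c.app (op ⊤) s) = 0)
    (x' : X) :
    ∃ V : Opens X, x' ∈ V ∧ ∃ N : ℕ, ∀ n, N ≤ n → ∀ (z : Z), i.base z ∈ V →
      Z.presheaf.germ ((Opens.map i.base).obj ⊤) z trivial (i.c.app (op ⊤) (h ^ n * s)) = 0 := by
  obtain ⟨U, hxU, J, hJ0, hJ1, hJ2⟩ := hi.gen x'
  obtain ⟨_, ⟨V, hV, rfl⟩, hxV, hVU⟩ :=
    X.isBasis_affineOpens.exists_subset_of_mem_open hxU U.2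
  have hVU' : V ≤ U := hVU
  refine ⟨V, hxV, ?_⟩
  let rU : Γ(X, U) ⟶ Γ(X, V) := X.presheaf.map (homOfLE hVU').op
  let rT : Γ(X, ⊤) ⟶ Γ(X, V) := X.presheaf.map (homOfLE le_top).op
  obtain ⟨N, hN⟩ := lemQ hV (J.map rU.hom) (rT s) (rT h) (by
    intro x hx hxh
    rw [Ideal.map_map]
    have e1 : (X.presheaf.germ V x hx).hom.comp rU.hom = (X.presheaf.germ U x (hVU' hx)).hom := by
      rw [← CommRingCat.hom_comp, TopCat.Presheaf.germ_res]
    have e2 : X.presheaf.germ V x hx (rT s) = X.presheaf.germ ⊤ x trivial s :=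
      TopCat.Presheaf.germ_res_apply _ _ _ _ _
    rw [e1, e2]
    have hxh' : x ∈ X.basicOpen h := by
      have : X.basicOpen (rT h) = V ⊓ X.basicOpen h := Scheme.basicOpen_res _ _ _
      rw [this] at hxh
      exact hxh.2
    by_cases hr : x ∈ Set.range i.base
    · obtain ⟨z, rfl⟩ := hr
      rw [← hJ1 z (hVU' hx), RingHom.mem_ker]
      exact (LocallyRingedSpace.stalkMap_germ_apply i ⊤ z trivial s).trans (H z hxh')
    · rw [hJ2 x (hVU' hx) hr]; trivial)
  refine ⟨N, fun n hn z hz => ?_⟩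
  have hkill : J.map rU.hom ≤ RingHom.ker (i.c.app (op V)).hom := by
    rw [Ideal.map_le_iff_le_comap]
    intro t ht
    rw [Ideal.mem_comap, RingHom.mem_ker]
    have := ConcreteCategory.congr_hom (i.c.naturality (homOfLE hVU').op) t
    erw [this]
    rw [CommRingCat.comp_apply, hJ0 t ht, map_zero]
  have hmem : rT (h ^ n * s) ∈ J.map rU.hom := by
    obtain ⟨k, rfl⟩ := Nat.exists_eq_add_of_le hn
    rw [map_mul, map_pow, pow_add, mul_comm _ (rT h ^ k), mul_assoc]
    exact Ideal.mul_mem_left _ _ hN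
  have h0 : i.c.app (op V) (rT (h ^ n * s)) = 0 := hkill hmem
  have hnat := ConcreteCategory.congr_hom (i.c.naturality (homOfLE (le_top : V ≤ ⊤)).op)
    (h ^ n * s)
  have h1 : Z.presheaf.germ ((Opens.map i.base).obj ⊤) z trivial (i.c.app (op ⊤) (h ^ n * s)) =
      Z.presheaf.germ ((Opens.map i.base).obj V) z hz (i.c.app (op V) (rT (h ^ n * s))) := by
    erw [hnat]
    exact (TopCat.Presheaf.germ_res_apply Z.presheaf
      ((Opens.map i.base).map (homOfLE (le_top : V ≤ ⊤))) z hz _).symm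
  rw [h1, h0, map_zero]

/-- the key lemma on a quasi-compact scheme -/
lemma KL [CompactSpace X] (hi : Hyp i) (s h : Γ(X, ⊤))
    (H : ∀ (z : Z), i.base z ∈ X.basicOpen h →
      Z.presheaf.germ ((Opens.map i.base).obj ⊤) z trivial (i.c.app (op ⊤) s) = 0) :
    ∃ N : ℕ, i.c.app (op ⊤) (h ^ N * s) = 0 := by
  choose V hV N hN using KL_local i hi s h H
  obtain ⟨t, ht⟩ := CompactSpace.elim_nhds_subcover (fun x => (V x : Set X))
    (fun x => (V x).2.mem_nhds (hV x))
  refine ⟨t.sup N, ?_⟩
  refine TopCat.Presheaf.section_ext Z.sheaf ((Opens.map i.base).obj ⊤) _ _ (fun z hz => ?_)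
  rw [map_zero]
  have hz' : i.base z ∈ ⋃ x ∈ t, (V x : Set X) := by rw [ht]; trivial
  simp only [Set.mem_iUnion] at hz'
  obtain ⟨x, hxt, hzx⟩ := hz'
  exact hN x (t.sup N) (Finset.le_sup hxt) z hzx

end KL

section Key
set_option backward.isDefEq.respectTransparency false
set_option backward.isDefEq.respectTransparency.types false

variable {X : Scheme.{u}} {Z : LocallyRingedSpace.{u}} (i : Z ⟶ X.toLocallyRingedSpace)

lemma mem_basicOpen_iff_notMem_primeIdealOf {U : X.Opens} (hU : IsAffineOpen U) (x : U)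
    (f : Γ(X, U)) : x.1 ∈ X.basicOpen f ↔ f ∉ (hU.primeIdealOf x).asIdeal := by
  have h1 : hU.primeIdealOf x ∈ hU.fromSpec ⁻¹ᵁ X.basicOpen f ↔
      hU.primeIdealOf x ∈ PrimeSpectrum.basicOpen f := by
    rw [hU.fromSpec_preimage_basicOpen]
  have h2 : hU.fromSpec (hU.primeIdealOf x) = x.1 := hU.fromSpec_primeIdealOf x
  constructor
  · intro hx
    exact h1.1 (by show hU.fromSpec (hU.primeIdealOf x) ∈ X.basicOpen f; rw [h2]; exact hx)
  · intro hf
    have := h1.2 hf
    have h3 : hU.fromSpec (hU.primeIdealOf x) ∈ X.basicOpen f := this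
    rw [h2] at h3
    exact h3

/-- points of the "zero locus" of the kernel are in the image -/
lemma key2 [IsAffine X] (hi : Hyp i) (x : X)
    (hx : ∀ s ∈ RingHom.ker (i.c.app (op ⊤)).hom, x ∉ X.basicOpen s) :
    x ∈ Set.range i.base := by
  by_contra hr
  have hopen : IsOpen (Set.range i.base)ᶜ := hi.emb.isClosed_range.isOpen_compl
  obtain ⟨_, ⟨_, ⟨h, rfl⟩, rfl⟩, hxh, hsub⟩ :=
    (isBasis_basicOpen X).exists_subset_of_mem_open (show x ∈ (Set.range i.base)ᶜ from hr) hopen
  obtain ⟨N, hN⟩ := KL i hi 1 h (fun z hz => absurd ⟨z, rfl⟩ (hsub hz))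
  have hmem : h ^ (N + 1) ∈ RingHom.ker (i.c.app (op ⊤)).hom := by
    rw [RingHom.mem_ker, pow_succ', ← mul_one (h ^ N), map_mul]
    erw [hN, mul_zero]
  have := hx _ hmem
  rw [Scheme.basicOpen_pow _ _ (Nat.succ_pos N)] at this
  exact this hxh

/-- the kernel of the stalk map is generated by global sections in the kernel -/
lemma key1 [IsAffine X] (hi : Hyp i) (z : Z) :
    RingHom.ker (i.stalkMap z).hom =
      (RingHom.ker (i.c.app (op ⊤)).hom).map (X.presheaf.germ ⊤ (i.base z) trivial).hom := by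
  apply le_antisymm
  · intro y hy
    letI : Algebra Γ(X, ⊤) (X.presheaf.stalk (i.base z)) :=
      (X.presheaf.germ ⊤ (i.base z) trivial).hom.toAlgebra
    haveI hloc : IsLocalization.AtPrime (X.presheaf.stalk (i.base z))
        ((isAffineOpen_top X).primeIdealOf ⟨i.base z, trivial⟩).asIdeal :=
      (isAffineOpen_top X).isLocalization_stalk ⟨i.base z, trivial⟩
    obtain ⟨s, t, rfl⟩ := IsLocalization.exists_mk'_eq
      ((isAffineOpen_top X).primeIdealOf ⟨i.base z, trivial⟩).asIdeal.primeCompl y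
    have hs : X.presheaf.germ ⊤ (i.base z) trivial s ∈ RingHom.ker (i.stalkMap z).hom := by
      have := IsLocalization.mk'_spec (X.presheaf.stalk (i.base z)) s t
      have h2 := Ideal.mul_mem_right
        (algebraMap Γ(X, ⊤) (X.presheaf.stalk (i.base z)) (t : Γ(X, ⊤))) _ hy
      rw [this] at h2
      exact h2
    rw [RingHom.mem_ker] at hs
    have hs' : Z.presheaf.germ ((Opens.map i.base).obj ⊤) z trivial (i.c.app (op ⊤) s) = 0 :=
      (LocallyRingedSpace.stalkMap_germ_apply i ⊤ z trivial s).symm.trans hs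
    obtain ⟨W, hzW, iU, iV, hW⟩ := Z.presheaf.germ_eq (U := (Opens.map i.base).obj ⊤)
      (V := (Opens.map i.base).obj ⊤) z (show z ∈ (Opens.map i.base).obj ⊤ from trivial)
      (show z ∈ (Opens.map i.base).obj ⊤ from trivial) _ 0
      (hs'.trans (map_zero _).symm)
    rw [map_zero] at hW
    obtain ⟨W', hW'o, hW'⟩ := hi.emb.isInducing.isOpen_iff.1 W.2
    have hzW' : i.base z ∈ W' := by
      have : z ∈ i.base ⁻¹' W' := by rw [hW']; exact hzW
      exact this
    obtain ⟨_, ⟨_, ⟨h, rfl⟩, rfl⟩, hxh, hsub⟩ :=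
      (isBasis_basicOpen X).exists_subset_of_mem_open hzW' hW'o
    obtain ⟨N, hN⟩ := KL i hi s h (fun z' hz' => by
      have hz'W : z' ∈ W := by
        have : z' ∈ i.base ⁻¹' W' := hsub hz'
        rw [hW'] at this
        exact this
      rw [← TopCat.Presheaf.germ_res_apply Z.presheaf iU z' hz'W, hW, map_zero])
    refine (IsLocalization.mk'_mem_map_algebraMap_iff
      ((isAffineOpen_top X).primeIdealOf ⟨i.base z, trivial⟩).asIdeal.primeCompl
      (X.presheaf.stalk (i.base z)) (RingHom.ker (i.c.app (op ⊤)).hom) s t).2 ⟨h ^ N, ?_, hN⟩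
    have := (mem_basicOpen_iff_notMem_primeIdealOf (isAffineOpen_top X) ⟨i.base z, trivial⟩ h).1 hxh
    exact fun hc => this (Ideal.IsPrime.mem_of_pow_mem inferInstance _ hc)
  · rw [Ideal.map_le_iff_le_comap]
    intro s hs
    rw [Ideal.mem_comap, RingHom.mem_ker]
    rw [RingHom.mem_ker] at hs
    refine (LocallyRingedSpace.stalkMap_germ_apply i ⊤ z trivial s).trans ?_
    erw [hs, map_zero]

end Key

section PartA
set_option backward.isDefEq.respectTransparency false
set_option backward.isDefEq.respectTransparency.types false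

variable {Z X : LocallyRingedSpace.{u}} (i : Z ⟶ X)

lemma stalkMap_eq (z : Z) : i.stalkMap z =
    (TopCat.Presheaf.stalkFunctor CommRingCat (i.base z)).map i.c ≫
      Z.presheaf.stalkPushforward _ i.base z := rfl

lemma ker_stalkMap (hi : Topology.IsInducing i.base) (z : Z) :
    RingHom.ker (i.stalkMap z).hom =
      RingHom.ker ((TopCat.Presheaf.stalkFunctor CommRingCat (i.base z)).map i.c).hom := by
  haveI : IsIso (Z.presheaf.stalkPushforward CommRingCat i.base z) :=
    TopCat.Presheaf.stalkPushforward.stalkPushforward_iso_of_isInducing _ hi _ _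
  ext y
  rw [RingHom.mem_ker, RingHom.mem_ker, stalkMap_eq, CommRingCat.hom_comp, RingHom.comp_apply]
  constructor
  · intro h
    have h2 := congrArg (inv (Z.presheaf.stalkPushforward CommRingCat i.base z)).hom h
    rw [map_zero] at h2
    rw [← h2]
    exact (ConcreteCategory.congr_hom
      (IsIso.hom_inv_id (Z.presheaf.stalkPushforward CommRingCat i.base z)) _).symm
  · intro h
    rw [h, map_zero]

lemma ker_eq_top_of_notMem_range (hi : IsClosed (Set.range i.base)) (x : X)
    (hx : x ∉ Set.range i.base) :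
    RingHom.ker ((TopCat.Presheaf.stalkFunctor CommRingCat x).map i.c).hom = ⊤ := by
  rw [Ideal.eq_top_iff_one, RingHom.mem_ker]
  let W : Opens X := ⟨(Set.range i.base)ᶜ, hi.isOpen_compl⟩
  have hxW : x ∈ W := hx
  have h1 : (1 : X.presheaf.stalk x) = X.presheaf.germ W x hxW 1 := (map_one _).symm
  rw [h1]
  erw [TopCat.Presheaf.stalkFunctor_map_germ_apply W x hxW i.c 1]
  have h2 : (i.c.app (op W)) 1 = 0 := by
    refine TopCat.Presheaf.section_ext Z.sheaf ((Opens.map i.base).obj W) _ _ (fun z hz => ?_)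
    exact absurd ⟨z, rfl⟩ hz
  erw [h2, map_zero]

theorem hyp_of_isClosedImmersion (hi : LRSImm.IsClosedImmersion i) : Hyp i := by
  obtain ⟨h1, h2, h3⟩ := hi
  refine ⟨h1, fun z => ?_, fun x => ?_⟩
  · haveI : IsIso (Z.presheaf.stalkPushforward CommRingCat i.base z) :=
      TopCat.Presheaf.stalkPushforward.stalkPushforward_iso_of_isInducing _ h1.isInducing _ _
    rw [stalkMap_eq, CommRingCat.hom_comp, RingHom.coe_comp]
    refine Function.Surjective.comp ?_
      ((TopCat.Presheaf.locally_surjective_iff_surjective_on_stalks i.c).1 h2 (i.base z))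
    exact (ConcreteCategory.bijective_of_isIso
      (Z.presheaf.stalkPushforward CommRingCat i.base z)).2
  · obtain ⟨U, hxU, ι, s, hs0, hs1⟩ := h3 x
    refine ⟨U, hxU, Ideal.span (Set.range s), ?_, ?_, ?_⟩
    · intro t ht
      have : Ideal.span (Set.range s) ≤ RingHom.ker (i.c.app (op U)).hom := by
        rw [Ideal.span_le]
        rintro _ ⟨j, rfl⟩
        exact hs0 j
      exact this ht
    · intro z hz
      rw [ker_stalkMap i h1.isInducing, ← hs1 _ hz, Ideal.map_span, ← Set.range_comp]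
      rfl
    · intro x' hx' hr
      rw [Ideal.map_span, ← Set.range_comp]
      exact (hs1 x' hx').trans (ker_eq_top_of_notMem_range i h1.isClosed_range x' hr)

end PartA

section PartC
set_option backward.isDefEq.respectTransparency false
set_option backward.isDefEq.respectTransparency.types false

variable {A : CommRingCat.{u}} {Z : LocallyRingedSpace.{u}} (I : Ideal A)

/-- the closed immersion `Spec (A/I) ⟶ Spec A` -/
noncomputable abbrev cl : Spec (CommRingCat.of (A ⧸ I)) ⟶ Spec A :=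
  Spec.map (CommRingCat.ofHom (Ideal.Quotient.mk I))

instance : IsClosedImmersion (cl I) :=
  IsClosedImmersion.spec_of_surjective _ Ideal.Quotient.mk_surjective

lemma cl_app_top_eq_zero (s : Γ(Spec A, ⊤)) (hs : (Scheme.ΓSpecIso A).hom s ∈ I) :
    (cl I).toLRSHom.c.app (op ⊤) s = 0 := by
  have h1 := ConcreteCategory.congr_hom (Scheme.ΓSpecIso_inv_naturality (R := A)
    (S := CommRingCat.of (A ⧸ I))
    (CommRingCat.ofHom (Ideal.Quotient.mk I))) ((Scheme.ΓSpecIso A).hom s)
  rw [CommRingCat.comp_apply, CommRingCat.comp_apply] at h1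
  have h2 : (Scheme.ΓSpecIso A).inv ((Scheme.ΓSpecIso A).hom s) = s :=
    ConcreteCategory.congr_hom (Scheme.ΓSpecIso A).hom_inv_id s
  rw [h2] at h1
  have h3 : (CommRingCat.ofHom (Ideal.Quotient.mk I)) ((Scheme.ΓSpecIso A).hom s) = 0 :=
    Ideal.Quotient.eq_zero_iff_mem.2 hs
  rw [h3, map_zero] at h1
  exact h1.symm

theorem isIso_of (ψ : Z ⟶ (Spec (CommRingCat.of (A ⧸ I))).toLocallyRingedSpace)
    (hi : Hyp (ψ ≫ (cl I).toLRSHom))
    (hI : I = RingHom.ker ((Scheme.ΓSpecIso A).inv ≫ (ψ ≫ (cl I).toLRSHom).c.app (op ⊤)).hom) :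
    IsIso ψ := by
  have hmemI : ∀ s ∈ RingHom.ker ((ψ ≫ (cl I).toLRSHom).c.app (op ⊤)).hom,
      (Scheme.ΓSpecIso A).hom s ∈ I := by
    intro s hs
    rw [hI, RingHom.mem_ker, CommRingCat.hom_comp, RingHom.comp_apply]
    have h2 : (Scheme.ΓSpecIso A).inv ((Scheme.ΓSpecIso A).hom s) = s :=
      ConcreteCategory.congr_hom (Scheme.ΓSpecIso A).hom_inv_id s
    erw [h2]
    exact hs
  have hclemb : Topology.IsClosedEmbedding (cl I).toLRSHom.base :=
    (cl I).isClosedEmbedding
  have hcomp : ⇑(ψ ≫ (cl I).toLRSHom).base = ⇑(cl I).toLRSHom.base ∘ ⇑ψ.base := rfl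
  have hψemb : Topology.IsClosedEmbedding ψ.base := by
    have := hi.emb
    rw [hcomp] at this
    exact (Topology.IsClosedEmbedding.of_comp_iff hclemb).1 this
  have hψsurj : Function.Surjective ψ.base := by
    intro q
    have hp : (cl I).toLRSHom.base q ∈ Set.range (ψ ≫ (cl I).toLRSHom).base := by
      refine key2 (X := Spec A) _ hi _ (fun s hs => ?_)
      rw [basicOpen_eq_of_affine']
      intro hmem
      apply hmem
      have h5 := hmemI s hs
      have h6 : (Ideal.Quotient.mk I) ((Scheme.ΓSpecIso A).hom s) = 0 :=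
        Ideal.Quotient.eq_zero_iff_mem.2 h5
      show (Ideal.Quotient.mk I) ((Scheme.ΓSpecIso A).hom s) ∈ q.asIdeal
      rw [h6]
      exact zero_mem _
    obtain ⟨z, hz⟩ := hp
    exact ⟨z, hclemb.injective hz⟩
  have hopen : Topology.IsOpenEmbedding ψ.base :=
    (isHomeomorph_iff_isEmbedding_surjective.2 ⟨hψemb.isEmbedding, hψsurj⟩).isOpenEmbedding
  haveI : Epi ψ.base := (TopCat.epi_iff_surjective _).2 hψsurj
  haveI : ∀ z : Z, IsIso (ψ.stalkMap z) := by
    intro z
    rw [ConcreteCategory.isIso_iff_bijective]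
    have hcompz := LocallyRingedSpace.stalkMap_comp ψ (cl I).toLRSHom z
    constructor
    · rw [injective_iff_map_eq_zero]
      intro w hw
      obtain ⟨r, rfl⟩ := (cl I).stalkMap_surjective (ψ.base z) w
      have hr : r ∈ RingHom.ker ((ψ ≫ (cl I).toLRSHom).stalkMap z).hom := by
        rw [RingHom.mem_ker, hcompz, CommRingCat.hom_comp, RingHom.comp_apply]
        exact hw
      rw [key1 (X := Spec A) _ hi z] at hr
      have hle : Ideal.map ((Spec A).presheaf.germ ⊤ ((ψ ≫ (cl I).toLRSHom).base z) trivial).hom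
          (RingHom.ker ((ψ ≫ (cl I).toLRSHom).c.app (op ⊤)).hom) ≤
          RingHom.ker ((cl I).toLRSHom.stalkMap (ψ.base z)).hom := by
        rw [Ideal.map_le_iff_le_comap]
        intro s hs
        rw [Ideal.mem_comap, RingHom.mem_ker]
        refine (LocallyRingedSpace.stalkMap_germ_apply (cl I).toLRSHom ⊤ (ψ.base z) trivial s).trans ?_
        rw [cl_app_top_eq_zero I s (hmemI s hs), map_zero]
      exact hle hr
    · have h7 := hi.surj z
      rw [hcompz, CommRingCat.hom_comp, RingHom.coe_comp] at h7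
      exact Function.Surjective.of_comp h7
  haveI : LocallyRingedSpace.IsOpenImmersion ψ :=
    LocallyRingedSpace.IsOpenImmersion.of_stalk_iso ψ hopen
  exact LocallyRingedSpace.IsOpenImmersion.to_iso ψ

end PartC

section Core
set_option backward.isDefEq.respectTransparency false
set_option backward.isDefEq.respectTransparency.types false

variable {A : CommRingCat.{u}} {Z : LocallyRingedSpace.{u}}

/-- every morphism to `Spec A` is the adjunct of its global sections map -/
lemma eq_homEquiv (i : Z ⟶ (Spec A).toLocallyRingedSpace) :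
    ΓSpec.locallyRingedSpaceAdjunction.homEquiv Z (op A)
      (((Scheme.ΓSpecIso A).inv ≫ i.c.app (op ⊤) : A ⟶ LocallyRingedSpace.Γ.obj (op Z))).op = i := by
  have h := (ΓSpec.locallyRingedSpaceAdjunction.homEquiv Z (op A)).apply_symm_apply i
  rw [Adjunction.homEquiv_counit] at h
  exact h

theorem core (i : Z ⟶ (Spec A).toLocallyRingedSpace) (hi : Hyp i) (I : Ideal A)
    (hI : I = RingHom.ker ((Scheme.ΓSpecIso A).inv ≫ i.c.app (op ⊤)).hom) :
    ∃ e : Z ≅ (Spec (CommRingCat.of (A ⧸ I))).toLocallyRingedSpace,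
      e.hom ≫ (Spec.map (CommRingCat.ofHom (Ideal.Quotient.mk I))).toLRSHom = i := by
  let ρ : A ⟶ LocallyRingedSpace.Γ.obj (op Z) := (Scheme.ΓSpecIso A).inv ≫ i.c.app (op ⊤)
  let ρ' : CommRingCat.of (A ⧸ I) ⟶ LocallyRingedSpace.Γ.obj (op Z) :=
    CommRingCat.ofHom (Ideal.Quotient.lift I ρ.hom (fun a ha => by
      rw [hI] at ha; exact ha))
  have hρ : (CommRingCat.ofHom (Ideal.Quotient.mk I) : A ⟶ CommRingCat.of (A ⧸ I)) ≫ ρ' = ρ := by
    ext a
    rfl
  let ψ : Z ⟶ (Spec (CommRingCat.of (A ⧸ I))).toLocallyRingedSpace :=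
    ΓSpec.locallyRingedSpaceAdjunction.homEquiv Z (op (CommRingCat.of (A ⧸ I))) ρ'.op
  have hψ : ψ ≫ (cl I).toLRSHom = i := by
    have h1 := ΓSpec.locallyRingedSpaceAdjunction.homEquiv_naturality_right ρ'.op
      (CommRingCat.ofHom (Ideal.Quotient.mk I) : A ⟶ CommRingCat.of (A ⧸ I)).op
    rw [← op_comp, hρ] at h1
    rw [← eq_homEquiv i]
    exact h1.symm
  have hiso : IsIso ψ := by
    refine isIso_of I ψ (by rw [hψ]; exact hi) ?_
    rw [hψ]; exact hI
  exact ⟨asIso ψ, hψ⟩

end Core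

end Groth.Agent.H16.LRSImm
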