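import Mathlib
import Groth.Agent.H16.LRSImm

/-!
# Transfer of the closed immersion hypotheses along open immersions (helper16)
-/

set_option autoImplicit false
set_option linter.style.haveILetI false
universe u

open CategoryTheory TopologicalSpace Opposite AlgebraicGeometry

namespace Groth.Agent.H16.LRSImm

section Transfer
set_option backward.isDefEq.respectTransparency false
set_option backward.isDefEq.respectTransparency.types false

lemma ker_eq_map_of_bijective {R S T : Type*} [CommRing R] [CommRing S] [CommRing T]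
    (φ : R →+* S) (hφ : Function.Surjective φ) (ψ : S →+* T) :
    RingHom.ker ψ = (RingHom.ker (ψ.comp φ)).map φ := by
  rw [← RingHom.comap_ker, Ideal.map_comap_of_surjective φ hφ]

variable {Z' Z Y X : LocallyRingedSpace.{u}}

/-- kernel property of a morphism `k` (transportable along equalities of morphisms). -/
def KP (k : Z' ⟶ X) (U : Opens X) (J : Ideal (X.presheaf.obj (op U))) : Prop :=
  ∀ (z' : Z') (hz : k.base z' ∈ U),
    RingHom.ker (k.stalkMap z').hom = J.map (X.presheaf.germ U (k.base z') hz).hom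

def SP (k : Z' ⟶ X) : Prop := ∀ z', Function.Surjective (k.stalkMap z').hom

def KillP (k : Z' ⟶ X) (U : Opens X) (J : Ideal (X.presheaf.obj (op U))) : Prop :=
  ∀ s ∈ J, k.c.app (op U) s = 0

lemma KP_congr {a b : Z' ⟶ X} (h : a = b) {U : Opens X} {J : Ideal (X.presheaf.obj (op U))}
    (hb : KP b U J) : KP a U J := by subst h; exact hb

lemma SP_congr {a b : Z' ⟶ X} (h : a = b) (hb : SP b) : SP a := by subst h; exact hb

lemma KillP_congr {a b : Z' ⟶ X} (h : a = b) {U : Opens X} {J : Ideal (X.presheaf.obj (op U))}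
    (hb : KillP b U J) : KillP a U J := by subst h; exact hb

/-- source side: precomposing with an open immersion. -/
lemma props_comp_left (g : Z' ⟶ Z) [LocallyRingedSpace.IsOpenImmersion g] (i : Z ⟶ X)
    (hi : Hyp i) :
    SP (g ≫ i) ∧ ∀ x : X, ∃ (U : Opens X) (_ : x ∈ U) (J : Ideal (X.presheaf.obj (op U))),
      KillP (g ≫ i) U J ∧ KP (g ≫ i) U J ∧
      (∀ (x' : X) (hx' : x' ∈ U), x' ∉ Set.range i.base →
        J.map (X.presheaf.germ U x' hx').hom = ⊤) := by
  have hiso : ∀ z', Function.Bijective (g.stalkMap z').hom := fun z' =>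
    ConcreteCategory.bijective_of_isIso (g.stalkMap z')
  refine ⟨fun z' => ?_, fun x => ?_⟩
  · rw [LocallyRingedSpace.stalkMap_comp, CommRingCat.hom_comp, RingHom.coe_comp]
    exact (hiso z').2.comp (hi.surj _)
  · obtain ⟨U, hxU, J, h0, h1, h2⟩ := hi.gen x
    refine ⟨U, hxU, J, ?_, ?_, h2⟩
    · intro s hs
      have : (g ≫ i).c.app (op U) s = g.c.app _ (i.c.app (op U) s) := rfl
      rw [this, h0 s hs, map_zero]
    · intro z' hz
      refine Eq.trans ?_ (h1 (g.base z') hz)
      ext y
      rw [RingHom.mem_ker, RingHom.mem_ker, LocallyRingedSpace.stalkMap_comp,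
        CommRingCat.hom_comp, RingHom.comp_apply]
      constructor
      · intro h
        exact (hiso z').1 (h.trans (map_zero _).symm)
      · intro h
        rw [h, map_zero]

/-- target side: cancelling an open immersion. -/
lemma hyp_of_comp_right (f : Y ⟶ X) [LocallyRingedSpace.IsOpenImmersion f] (i' : Z' ⟶ Y)
    (hemb : Topology.IsClosedEmbedding i'.base)
    (hS : SP (i' ≫ f))
    (hgen : ∀ y : Y, ∃ (U : Opens X) (_ : f.base y ∈ U) (J : Ideal (X.presheaf.obj (op U))),
      KillP (i' ≫ f) U J ∧ KP (i' ≫ f) U J ∧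
      (∀ (y' : Y) (hy' : f.base y' ∈ U), y' ∉ Set.range i'.base →
        J.map (X.presheaf.germ U (f.base y') hy').hom = ⊤)) :
    Hyp i' := by
  have hiso : ∀ y, Function.Bijective (f.stalkMap y).hom := fun y =>
    ConcreteCategory.bijective_of_isIso (f.stalkMap y)
  refine ⟨hemb, fun z' => ?_, fun y => ?_⟩
  · have := hS z'
    rw [LocallyRingedSpace.stalkMap_comp, CommRingCat.hom_comp, RingHom.coe_comp] at this
    exact Function.Surjective.of_comp this
  · obtain ⟨U, hyU, J, h0, h1, h2⟩ := hgen y
    have hgerm : ∀ (y' : Y) (hy' : f.base y' ∈ U),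
        (J.map (f.c.app (op U)).hom).map
          (Y.presheaf.germ ((Opens.map f.base).obj U) y' hy').hom =
        (J.map (X.presheaf.germ U (f.base y') hy').hom).map (f.stalkMap y').hom := by
      intro y' hy'
      rw [Ideal.map_map, Ideal.map_map, ← CommRingCat.hom_comp, ← CommRingCat.hom_comp,
        LocallyRingedSpace.stalkMap_germ]
    refine ⟨(Opens.map f.base).obj U, hyU, J.map (f.c.app (op U)).hom, ?_, ?_, ?_⟩
    · have : J.map (f.c.app (op U)).hom ≤
          RingHom.ker (i'.c.app (op ((Opens.map f.base).obj U))).hom := by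
        rw [Ideal.map_le_iff_le_comap]
        intro t ht
        rw [Ideal.mem_comap, RingHom.mem_ker]
        exact h0 t ht
      exact fun s hs => this hs
    · intro z' hz
      rw [hgerm (i'.base z') hz]
      have h1' := h1 z' hz
      rw [LocallyRingedSpace.stalkMap_comp, CommRingCat.hom_comp] at h1'
      exact (ker_eq_map_of_bijective _ (hiso _).2 _).trans (congrArg (Ideal.map _) h1')
    · intro y' hy' hr
      rw [hgerm y' hy', h2 y' hy' hr]
      exact Ideal.map_top _


/-- The hypotheses pass to a "pullback" along open immersions. -/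
theorem hyp_lift (f : Y ⟶ X) [LocallyRingedSpace.IsOpenImmersion f]
    (g : Z' ⟶ Z) [LocallyRingedSpace.IsOpenImmersion g] (i : Z ⟶ X) (hi : Hyp i)
    (i' : Z' ⟶ Y) (hfac : i' ≫ f = g ≫ i)
    (hpb : ∀ (y : Y) (z : Z), f.base y = i.base z → z ∈ Set.range g.base) :
    Hyp i' := by
  have hfo : Topology.IsOpenEmbedding f.base :=
    PresheafedSpace.IsOpenImmersion.base_open (f := f.toHom)
  have hgo : Topology.IsOpenEmbedding g.base :=
    PresheafedSpace.IsOpenImmersion.base_open (f := g.toHom)
  have hbase : ∀ z', f.base (i'.base z') = i.base (g.base z') := by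
    intro z'
    have := congrArg (fun k : Z' ⟶ X => k.base z') hfac
    exact this
  have hrange : ∀ y', y' ∉ Set.range i'.base → f.base y' ∉ Set.range i.base := by
    rintro y' hy' ⟨z, hz⟩
    obtain ⟨z', rfl⟩ := hpb y' z hz.symm
    exact hy' ⟨z', hfo.injective ((hbase z').trans hz)⟩
  obtain ⟨hS, hG⟩ := props_comp_left g i hi
  refine hyp_of_comp_right f i' ?_ (SP_congr hfac hS) (fun y => ?_)
  · have hemb : Topology.IsEmbedding i'.base := by
      have h1 : Topology.IsEmbedding (⇑f.base ∘ ⇑i'.base) := by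
        have h2 : ⇑f.base ∘ ⇑i'.base = ⇑i.base ∘ ⇑g.base := funext hbase
        rw [h2]
        exact hi.emb.isEmbedding.comp hgo.isEmbedding
      exact Topology.IsEmbedding.of_comp i'.base.hom.continuous f.base.hom.continuous h1
    refine ⟨hemb, ?_⟩
    have h3 : Set.range i'.base = f.base ⁻¹' Set.range i.base := by
      ext y'
      constructor
      · rintro ⟨z', rfl⟩
        exact ⟨g.base z', (hbase z').symm⟩
      · intro hy'
        by_contra hc
        exact hrange y' hc hy'
    rw [h3]
    exact hi.emb.isClosed_range.preimage f.base.hom.continuous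
  · obtain ⟨U, hxU, J, h0, h1, h2⟩ := hG (f.base y)
    exact ⟨U, hxU, J, KillP_congr hfac h0, KP_congr hfac h1,
      fun y' hy' hr => h2 _ hy' (hrange y' hr)⟩

end Transfer

section Main
set_option backward.isDefEq.respectTransparency false
set_option backward.isDefEq.respectTransparency.types false

theorem local_affine_of (X : Scheme.{u}) (Z : LocallyRingedSpace.{u})
    (i : Z ⟶ X.toLocallyRingedSpace) (hi : Hyp i) (z : Z) :
    ∃ (V : OpenNhds z) (R : CommRingCat.{u}),
      Nonempty (Z.restrict V.isOpenEmbedding ≅ Spec.toLocallyRingedSpace.obj (op R)) := by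
  obtain ⟨U, hU, hzU, -⟩ := exists_isAffineOpen_mem_and_subset
    (X := X) (x := i.base z) (U := ⊤) trivial
  let V : OpenNhds z := ⟨(Opens.map i.base).obj U, hzU⟩
  let g : Z.restrict V.isOpenEmbedding ⟶ Z := Z.ofRestrict V.isOpenEmbedding
  let f : (Spec Γ(X, U)).toLocallyRingedSpace ⟶ X.toLocallyRingedSpace := hU.fromSpec.toLRSHom
  haveI : LocallyRingedSpace.IsOpenImmersion f :=
    (inferInstance : IsOpenImmersion hU.fromSpec)
  have hrf : Set.range f.base = U := hU.range_fromSpec
  have H' : Set.range (g ≫ i).base ⊆ Set.range f.base := by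
    rw [hrf]
    rintro _ ⟨z', rfl⟩
    exact z'.2
  let i' := LocallyRingedSpace.IsOpenImmersion.lift f (g ≫ i) H'
  have hfac : i' ≫ f = g ≫ i := LocallyRingedSpace.IsOpenImmersion.lift_fac f (g ≫ i) H'
  have hi' : Hyp i' := by
    refine hyp_lift f g i hi i' hfac (fun y z₁ hyz => ?_)
    have hz₁ : i.base z₁ ∈ U := by
      have : i.base z₁ ∈ Set.range f.base := ⟨y, hyz⟩
      rw [hrf] at this
      exact this
    exact ⟨⟨z₁, hz₁⟩, rfl⟩
  obtain ⟨e, -⟩ := core i' hi' _ rfl
  exact ⟨V, _, ⟨e⟩⟩

end Main

end Groth.Agent.H16.LRSImm
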