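import Groth.Prelude.Def_AlgSpRep
import Mathlib

/-!
# Limit preserving presheaves: elementwise lemmas, rebase lemmas, composition (helper16)
-/

set_option autoImplicit false
set_option backward.isDefEq.respectTransparency false
set_option backward.isDefEq.respectTransparency.types false
universe u
open CategoryTheory CategoryTheory.Limits AlgebraicGeometry Opposite
open AlgSp

namespace Groth.Agent.H16.LimPres

/-- the cone projection with a clean type. -/
abbrev cπ {C : Type*} [Category C] {I : Type*} [Category I] {D : I ⥤ C} (c : Cone D) (i : I) :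
    c.pt ⟶ D.obj i := c.π.app i

section lp

variable {T₀ : Scheme.{u}} (P : AlgSp.PSp T₀) (hP : AlgSp.IsLimitPreserving P)
  {I : Type u} [SmallCategory I] [IsCofiltered I] (D : I ⥤ Over T₀) (c : Cone D)
  (hc : IsLimit ((Over.forget T₀).mapCone c)) (hD : ∀ i, IsAffine (D.obj i).left)
  (hT : IsAffine c.pt.left)

include hP hc hD hT in
lemma lp_surj (x : P.obj (op c.pt)) :
    ∃ (i : I) (xi : P.obj (op (D.obj i))), P.map (cπ c i).op xi = x := by
  obtain ⟨h⟩ := hP D c hc hD hT
  obtain ⟨j, y, hy⟩ := Types.jointly_surjective_of_isColimit h x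
  exact ⟨j.unop, y, hy⟩

include hP hc hD hT in
lemma lp_inj (i : I) (x x' : P.obj (op (D.obj i)))
    (hxx' : P.map (cπ c i).op x = P.map (cπ c i).op x') :
    ∃ (k : I) (f : k ⟶ i), P.map (D.map f).op x = P.map (D.map f).op x' := by
  obtain ⟨h⟩ := hP D c hc hD hT
  obtain ⟨j, f, hf⟩ := (Types.FilteredColimit.isColimit_eq_iff' h (i := op i) x x').mp hxx'
  exact ⟨j.unop, f.unop, hf⟩

end lp


section rebase

variable {S : Scheme.{u}} {F G : AlgSp.PSp S} (a : F ⟶ G) (ha : AlgSp.IsRelLimitPreserving a)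
  (T : Over S) {I : Type u} [SmallCategory I] [IsCofiltered I] (D : I ⥤ Over T.left) (c : Cone D)
  (hc : IsLimit ((Over.forget T.left).mapCone c)) (hD : ∀ i, IsAffine (D.obj i).left)
  (hT : IsAffine c.pt.left) (i : I)

/-- the rebased base object. -/
abbrev T₂ : Over S := (Over.map T.hom).obj (D.obj i)

/-- the rebased diagram. -/
abbrev D' : Over i ⥤ Over (T₂ T D i).left := Over.post (X := i) (D ⋙ Over.forget T.left)

/-- the rebased cone. -/
abbrev c' : Cone (D' T D i) := ((Over.forget T.left).mapCone c).overPost i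

include hc in
lemma hc' : Nonempty (IsLimit ((Over.forget (T₂ T D i).left).mapCone (c' T D c i))) := by
  have h := (Functor.Initial.isLimitWhiskerEquiv (Over.forget i)
    ((Over.forget T.left).mapCone c)).symm hc
  exact ⟨h⟩

/-- comparison iso. -/
def θ (k : Over i) :
    (Over.map (T₂ T D i).hom).obj ((D' T D i).obj k) ≅ (Over.map T.hom).obj (D.obj k.left) :=
  Over.isoMk (Iso.refl _) (by
    change 𝟙 _ ≫ ((D.obj k.left).hom ≫ T.hom) = (D.map k.hom).left ≫ ((D.obj i).hom ≫ T.hom)
    rw [Category.id_comp, ← Category.assoc, Over.w])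

/-- comparison iso at the cone point. -/
def θpt : (Over.map (T₂ T D i).hom).obj (c' T D c i).pt ≅ (Over.map T.hom).obj c.pt :=
  Over.isoMk (Iso.refl _) (by
    change 𝟙 _ ≫ (c.pt.hom ≫ T.hom) = (cπ c i).left ≫ ((D.obj i).hom ≫ T.hom)
    rw [Category.id_comp, ← Category.assoc, Over.w])

lemma E1 : (θpt T D c i).hom ≫ (Over.map T.hom).map (cπ c i) =
    AlgSp.overHom (T₂ T D i) (c' T D c i).pt := by
  ext
  simp [θpt]
  rfl

lemma E2 (k : Over i) : (Over.map (T₂ T D i).hom).map (cπ (c' T D c i) k) ≫ (θ T D i k).hom =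
    (θpt T D c i).hom ≫ (Over.map T.hom).map (cπ c k.left) := by
  ext
  simp [θpt, θ]

lemma E3 (k : Over i) : (θ T D i k).hom ≫ (Over.map T.hom).map (D.map k.hom) =
    AlgSp.overHom (T₂ T D i) ((D' T D i).obj k) := by
  ext
  simp [θ]
  rfl

lemma E4 {k k' : Over i} (g : k ⟶ k') :
    (Over.map (T₂ T D i).hom).map ((D' T D i).map g) ≫ (θ T D i k').hom =
      (θ T D i k).hom ≫ (Over.map T.hom).map (D.map g.left) := by
  ext
  simp [θ]


include ha hc hD hT in
lemma R1 (z : G.obj (op (T₂ T D i))) (x : F.obj (op ((Over.map T.hom).obj c.pt)))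
    (hx : a.app _ x = G.map ((Over.map T.hom).map (cπ c i)).op z) :
    ∃ (k : I) (f : k ⟶ i) (w : F.obj (op ((Over.map T.hom).obj (D.obj k)))),
      a.app _ w = G.map ((Over.map T.hom).map (D.map f)).op z ∧
      F.map ((Over.map T.hom).map (cπ c k)).op w = x := by
  obtain ⟨hc'⟩ := hc' T D c hc i
  let x' := F.map (θpt T D c i).hom.op x
  have hx' : a.app _ x' = G.map (AlgSp.overHom (T₂ T D i) (c' T D c i).pt).op z := by
    change a.app _ (F.map (θpt T D c i).hom.op x) = _
    rw [NatTrans.naturality_apply, hx, ← Functor.map_comp_apply, ← op_comp, E1]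
  obtain ⟨k, xk, hxk⟩ := lp_surj (AlgSp.fiberFun a (T₂ T D i) z) (ha (T₂ T D i) z) (D' T D i)
    (c' T D c i) hc' (fun k => hD k.left) hT ⟨x', hx'⟩
  refine ⟨k.left, k.hom, F.map (θ T D i k).inv.op xk.1, ?_, ?_⟩
  · rw [NatTrans.naturality_apply, xk.2, ← Functor.map_comp_apply, ← op_comp]
    congr 2
  · have h1 := congrArg Subtype.val hxk
    rw [AlgSp.fiberFun_map_coe] at h1
    change F.map ((Over.map (T₂ T D i).hom).map (cπ (c' T D c i) k)).op xk.1 =
      F.map (θpt T D c i).hom.op x at h1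
    have h2 : (Over.map T.hom).map (cπ c k.left) ≫ (θ T D i k).inv =
        (θpt T D c i).inv ≫ (Over.map (T₂ T D i).hom).map (cπ (c' T D c i) k) := by
      rw [Iso.comp_inv_eq, Category.assoc, E2, Iso.inv_hom_id_assoc]
    rw [← Functor.map_comp_apply, ← op_comp, h2, op_comp, Functor.map_comp_apply, h1,
      ← Functor.map_comp_apply, ← op_comp, Iso.inv_hom_id, op_id, Functor.map_id_apply]

include ha hc hD hT in
lemma R2 (z : G.obj (op (T₂ T D i))) (w w' : F.obj (op ((Over.map T.hom).obj (D.obj i))))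
    (hw : a.app _ w = z) (hw' : a.app _ w' = z)
    (h : F.map ((Over.map T.hom).map (cπ c i)).op w =
      F.map ((Over.map T.hom).map (cπ c i)).op w') :
    ∃ (k : I) (f : k ⟶ i), F.map ((Over.map T.hom).map (D.map f)).op w =
      F.map ((Over.map T.hom).map (D.map f)).op w' := by
  obtain ⟨hc'⟩ := hc' T D c hc i
  let k₀ : Over i := Over.mk (𝟙 i)
  have hθ : (θ T D i k₀).hom = AlgSp.overHom (T₂ T D i) ((D' T D i).obj k₀) := by
    ext
    simp [θ, k₀]
    exact ((D ⋙ Over.forget T.left).map_id i).symm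
  have hv : ∀ v : F.obj (op ((Over.map T.hom).obj (D.obj i))), a.app _ v = z →
      a.app _ (F.map (θ T D i k₀).hom.op v) =
        G.map (AlgSp.overHom (T₂ T D i) ((D' T D i).obj k₀)).op z := by
    intro v hv
    rw [NatTrans.naturality_apply, ← hθ]
    exact congrArg (G.map (θ T D i k₀).hom.op) hv
  have key := lp_inj (AlgSp.fiberFun a (T₂ T D i) z) (ha (T₂ T D i) z) (D' T D i)
    (c' T D c i) hc' (fun k => hD k.left) hT k₀ ⟨_, hv w hw⟩ ⟨_, hv w' hw'⟩ (by
      apply Subtype.ext
      rw [AlgSp.fiberFun_map_coe, AlgSp.fiberFun_map_coe]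
      change F.map ((Over.map (T₂ T D i).hom).map (cπ (c' T D c i) k₀)).op
          (F.map (θ T D i k₀).hom.op w) =
        F.map ((Over.map (T₂ T D i).hom).map (cπ (c' T D c i) k₀)).op
          (F.map (θ T D i k₀).hom.op w')
      rw [← Functor.map_comp_apply, ← Functor.map_comp_apply, ← op_comp, E2, op_comp,
        Functor.map_comp_apply, Functor.map_comp_apply]
      exact congrArg _ h)
  obtain ⟨k, g, hg⟩ := key
  refine ⟨k.left, g.left, ?_⟩
  have h1 := congrArg Subtype.val hg
  rw [AlgSp.fiberFun_map_coe, AlgSp.fiberFun_map_coe] at h1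
  change F.map ((Over.map (T₂ T D i).hom).map ((D' T D i).map g)).op
      (F.map (θ T D i k₀).hom.op w) =
    F.map ((Over.map (T₂ T D i).hom).map ((D' T D i).map g)).op
      (F.map (θ T D i k₀).hom.op w') at h1
  rw [← Functor.map_comp_apply, ← Functor.map_comp_apply, ← op_comp, E4, op_comp,
    Functor.map_comp_apply, Functor.map_comp_apply] at h1
  have h2 := congrArg (F.map (θ T D i k).inv.op) h1
  simp only [← Functor.map_comp_apply, ← op_comp, Iso.inv_hom_id, op_id,
    Functor.map_id_apply] at h2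
  exact h2

end rebase


theorem isRelLimitPreserving_comp (S : Scheme.{u}) {F G H : AlgSp.PSp S} (a : F ⟶ G) (b : G ⟶ H)
    (ha : AlgSp.IsRelLimitPreserving a) (hb : AlgSp.IsRelLimitPreserving b) :
    AlgSp.IsRelLimitPreserving (a ≫ b) := by
  intro T y I _ _ D c hc hD hT
  have hcomp : ∀ (X : Over T.left) (v : F.obj (op ((Over.map T.hom).obj X))),
      (a ≫ b).app _ v = b.app _ (a.app _ v) := fun X v => rfl
  have hbG : ∀ {X Y : Over T.left} (f : X ⟶ Y) (v : G.obj (op ((Over.map T.hom).obj Y))),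
      b.app _ v = H.map (AlgSp.overHom T Y).op y →
      b.app _ (G.map ((Over.map T.hom).map f).op v) = H.map (AlgSp.overHom T X).op y := by
    intro X Y f v hv
    rw [NatTrans.naturality_apply, hv, ← Functor.map_comp_apply, ← op_comp,
      AlgSp.map_comp_overHom]
  refine ⟨Types.FilteredColimit.isColimitOf' _ _ ?_ ?_⟩
  · intro x
    have hzc : b.app _ (a.app _ x.1) = H.map (AlgSp.overHom T c.pt).op y := x.2
    obtain ⟨i, zi, hzi⟩ := lp_surj (AlgSp.fiberFun b T y) (hb T y) D c hc hD hT ⟨_, hzc⟩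
    have hzi' : G.map ((Over.map T.hom).map (cπ c i)).op zi.1 = a.app _ x.1 := by
      have := congrArg Subtype.val hzi
      rwa [AlgSp.fiberFun_map_coe] at this
    obtain ⟨k, f, w, hw1, hw2⟩ := R1 a ha T D c hc hD hT i zi.1 x.1 hzi'.symm
    have hw : (a ≫ b).app _ w = H.map (AlgSp.overHom T (D.obj k)).op y := by
      rw [hcomp, hw1]
      exact hbG (D.map f) zi.1 zi.2
    refine ⟨op k, ⟨w, hw⟩, ?_⟩
    apply Subtype.ext
    change x.1 = ((AlgSp.fiberFun (a ≫ b) T y).map (cπ c k).op ⟨w, hw⟩).1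
    rw [AlgSp.fiberFun_map_coe]
    exact hw2.symm
  · intro i x x' h
    obtain ⟨i₀⟩ := i
    change (AlgSp.fiberFun (a ≫ b) T y).map (cπ c i₀).op x =
      (AlgSp.fiberFun (a ≫ b) T y).map (cπ c i₀).op x' at h
    have h1 : F.map ((Over.map T.hom).map (cπ c i₀)).op x.1 =
        F.map ((Over.map T.hom).map (cπ c i₀)).op x'.1 := by
      have := congrArg Subtype.val h
      rwa [AlgSp.fiberFun_map_coe, AlgSp.fiberFun_map_coe] at this
    have hz : b.app _ (a.app _ x.1) = H.map (AlgSp.overHom T (D.obj i₀)).op y := x.2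
    have hz' : b.app _ (a.app _ x'.1) = H.map (AlgSp.overHom T (D.obj i₀)).op y := x'.2
    obtain ⟨k, f, hf⟩ := lp_inj (AlgSp.fiberFun b T y) (hb T y) D c hc hD hT i₀ ⟨_, hz⟩ ⟨_, hz'⟩ (by
      apply Subtype.ext
      rw [AlgSp.fiberFun_map_coe, AlgSp.fiberFun_map_coe]
      change G.map ((Over.map T.hom).map (cπ c i₀)).op (a.app _ x.1) =
        G.map ((Over.map T.hom).map (cπ c i₀)).op (a.app _ x'.1)
      rw [← NatTrans.naturality_apply, ← NatTrans.naturality_apply, h1])
    have hf' : G.map ((Over.map T.hom).map (D.map f)).op (a.app _ x.1) =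
        G.map ((Over.map T.hom).map (D.map f)).op (a.app _ x'.1) := by
      have := congrArg Subtype.val hf
      rwa [AlgSp.fiberFun_map_coe, AlgSp.fiberFun_map_coe] at this
    have hcw : cπ c k ≫ D.map f = cπ c i₀ := c.w f
    obtain ⟨l, g, hg⟩ := R2 a ha T D c hc hD hT k
      (a.app _ (F.map ((Over.map T.hom).map (D.map f)).op x.1))
      (F.map ((Over.map T.hom).map (D.map f)).op x.1)
      (F.map ((Over.map T.hom).map (D.map f)).op x'.1) rfl
      (by rw [NatTrans.naturality_apply, NatTrans.naturality_apply, hf'])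
      (by
        rw [← Functor.map_comp_apply, ← Functor.map_comp_apply, ← op_comp, ← Functor.map_comp, hcw]
        exact h1)
    refine ⟨op l, (g ≫ f).op, ?_⟩
    change (AlgSp.fiberFun (a ≫ b) T y).map (D.map (g ≫ f)).op x =
      (AlgSp.fiberFun (a ≫ b) T y).map (D.map (g ≫ f)).op x'
    apply Subtype.ext
    rw [AlgSp.fiberFun_map_coe, AlgSp.fiberFun_map_coe]
    change F.map ((Over.map T.hom).map (D.map (g ≫ f))).op x.1 =
      F.map ((Over.map T.hom).map (D.map (g ≫ f))).op x'.1
    rw [D.map_comp, Functor.map_comp, op_comp, Functor.map_comp_apply, Functor.map_comp_apply]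
    exact hg


end Groth.Agent.H16.LimPres
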