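import Groth.Agent.H16.LimPres

/-!
# Limit preserving presheaves: rebase lemmas for systems directly over the base `S` (helper16)
-/

set_option autoImplicit false
set_option backward.isDefEq.respectTransparency false
set_option backward.isDefEq.respectTransparency.types false
universe u
open CategoryTheory CategoryTheory.Limits AlgebraicGeometry Opposite
open AlgSp

namespace Groth.Agent.H16.LimPres2

open Groth.Agent.H16.LimPres

section rebase

variable {S : Scheme.{u}} {F G : AlgSp.PSp S} (a : F ⟶ G) (ha : AlgSp.IsRelLimitPreserving a)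
  {I : Type u} [SmallCategory I] [IsCofiltered I] (D : I ⥤ Over S) (c : Cone D)
  (hc : IsLimit ((Over.forget S).mapCone c)) (hD : ∀ i, IsAffine (D.obj i).left)
  (hT : IsAffine c.pt.left) (i : I)

/-- the rebased diagram. -/
abbrev DS : Over i ⥤ Over (D.obj i).left := Over.post (X := i) (D ⋙ Over.forget S)

/-- the rebased cone. -/
abbrev cS : Cone (DS D i) := ((Over.forget S).mapCone c).overPost i

include hc in
lemma hcS : Nonempty (IsLimit ((Over.forget (D.obj i).left).mapCone (cS D c i))) := by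
  have h := (Functor.Initial.isLimitWhiskerEquiv (Over.forget i)
    ((Over.forget S).mapCone c)).symm hc
  exact ⟨h⟩

/-- comparison iso. -/
def θ (k : Over i) :
    (Over.map (D.obj i).hom).obj ((DS D i).obj k) ≅ D.obj k.left :=
  Over.isoMk (Iso.refl _) (by
    change 𝟙 _ ≫ (D.obj k.left).hom = (D.map k.hom).left ≫ (D.obj i).hom
    rw [Category.id_comp, Over.w])

/-- comparison iso at the cone point. -/
def θpt : (Over.map (D.obj i).hom).obj (cS D c i).pt ≅ c.pt :=
  Over.isoMk (Iso.refl _) (by
    change 𝟙 _ ≫ c.pt.hom = (cπ c i).left ≫ (D.obj i).hom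
    rw [Category.id_comp, Over.w])

lemma E1 : (θpt D c i).hom ≫ cπ c i = AlgSp.overHom (D.obj i) (cS D c i).pt := by
  ext
  simp [θpt]
  rfl

lemma E2 (k : Over i) : (Over.map (D.obj i).hom).map (cπ (cS D c i) k) ≫ (θ D i k).hom =
    (θpt D c i).hom ≫ cπ c k.left := by
  ext
  simp [θpt, θ]

lemma E3 (k : Over i) : (θ D i k).hom ≫ D.map k.hom =
    AlgSp.overHom (D.obj i) ((DS D i).obj k) := by
  ext
  simp [θ]
  rfl

lemma E4 {k k' : Over i} (g : k ⟶ k') :
    (Over.map (D.obj i).hom).map ((DS D i).map g) ≫ (θ D i k').hom =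
      (θ D i k).hom ≫ D.map g.left := by
  ext
  simp [θ]

include ha hc hD hT in
lemma R1 (z : G.obj (op (D.obj i))) (x : F.obj (op c.pt))
    (hx : a.app _ x = G.map (cπ c i).op z) :
    ∃ (k : I) (f : k ⟶ i) (w : F.obj (op (D.obj k))),
      a.app _ w = G.map (D.map f).op z ∧ F.map (cπ c k).op w = x := by
  obtain ⟨hc'⟩ := hcS D c hc i
  let x' := F.map (θpt D c i).hom.op x
  have hx' : a.app _ x' = G.map (AlgSp.overHom (D.obj i) (cS D c i).pt).op z := by
    change a.app _ (F.map (θpt D c i).hom.op x) = _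
    rw [NatTrans.naturality_apply, hx, ← Functor.map_comp_apply, ← op_comp, E1]
  obtain ⟨k, xk, hxk⟩ := lp_surj (AlgSp.fiberFun a (D.obj i) z) (ha (D.obj i) z) (DS D i)
    (cS D c i) hc' (fun k => hD k.left) hT ⟨x', hx'⟩
  refine ⟨k.left, k.hom, F.map (θ D i k).inv.op xk.1, ?_, ?_⟩
  · rw [NatTrans.naturality_apply, xk.2, ← Functor.map_comp_apply, ← op_comp]
    congr 2
  · have h1 := congrArg Subtype.val hxk
    rw [AlgSp.fiberFun_map_coe] at h1
    change F.map ((Over.map (D.obj i).hom).map (cπ (cS D c i) k)).op xk.1 =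
      F.map (θpt D c i).hom.op x at h1
    have h2 : cπ c k.left ≫ (θ D i k).inv =
        (θpt D c i).inv ≫ (Over.map (D.obj i).hom).map (cπ (cS D c i) k) := by
      rw [Iso.comp_inv_eq, Category.assoc, E2, Iso.inv_hom_id_assoc]
    rw [← Functor.map_comp_apply, ← op_comp, h2, op_comp, Functor.map_comp_apply, h1,
      ← Functor.map_comp_apply, ← op_comp, Iso.inv_hom_id, op_id, Functor.map_id_apply]

include ha hc hD hT in
lemma R2 (z : G.obj (op (D.obj i))) (w w' : F.obj (op (D.obj i)))
    (hw : a.app _ w = z) (hw' : a.app _ w' = z)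
    (h : F.map (cπ c i).op w = F.map (cπ c i).op w') :
    ∃ (k : I) (f : k ⟶ i), F.map (D.map f).op w = F.map (D.map f).op w' := by
  obtain ⟨hc'⟩ := hcS D c hc i
  let k₀ : Over i := Over.mk (𝟙 i)
  have hθ : (θ D i k₀).hom = AlgSp.overHom (D.obj i) ((DS D i).obj k₀) := by
    ext
    simp [θ, k₀]
    exact ((D ⋙ Over.forget S).map_id i).symm
  have hv : ∀ v : F.obj (op (D.obj i)), a.app _ v = z →
      a.app _ (F.map (θ D i k₀).hom.op v) =
        G.map (AlgSp.overHom (D.obj i) ((DS D i).obj k₀)).op z := by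
    intro v hv
    rw [NatTrans.naturality_apply, ← hθ]
    exact congrArg (G.map (θ D i k₀).hom.op) hv
  have key := lp_inj (AlgSp.fiberFun a (D.obj i) z) (ha (D.obj i) z) (DS D i)
    (cS D c i) hc' (fun k => hD k.left) hT k₀ ⟨_, hv w hw⟩ ⟨_, hv w' hw'⟩ (by
      apply Subtype.ext
      rw [AlgSp.fiberFun_map_coe, AlgSp.fiberFun_map_coe]
      change F.map ((Over.map (D.obj i).hom).map (cπ (cS D c i) k₀)).op
          (F.map (θ D i k₀).hom.op w) =
        F.map ((Over.map (D.obj i).hom).map (cπ (cS D c i) k₀)).op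
          (F.map (θ D i k₀).hom.op w')
      rw [← Functor.map_comp_apply, ← Functor.map_comp_apply, ← op_comp, E2, op_comp,
        Functor.map_comp_apply, Functor.map_comp_apply]
      exact congrArg _ h)
  obtain ⟨k, g, hg⟩ := key
  refine ⟨k.left, g.left, ?_⟩
  have h1 := congrArg Subtype.val hg
  rw [AlgSp.fiberFun_map_coe, AlgSp.fiberFun_map_coe] at h1
  change F.map ((Over.map (D.obj i).hom).map ((DS D i).map g)).op
      (F.map (θ D i k₀).hom.op w) =
    F.map ((Over.map (D.obj i).hom).map ((DS D i).map g)).op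
      (F.map (θ D i k₀).hom.op w') at h1
  rw [← Functor.map_comp_apply, ← Functor.map_comp_apply, ← op_comp, E4, op_comp,
    Functor.map_comp_apply, Functor.map_comp_apply] at h1
  have h2 := congrArg (F.map (θ D i k).inv.op) h1
  simp only [← Functor.map_comp_apply, ← op_comp, Iso.inv_hom_id, op_id,
    Functor.map_id_apply] at h2
  exact h2

end rebase

end Groth.Agent.H16.LimPres2
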