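import Mathlib

/-!
# Étale algebras and nil ideals (helper16)

* `nil_lift_exists`, `nil_lift_unique`: étale algebras lift uniquely along surjections with nil
  kernel.
* `bijective_of_nil`: a morphism of étale algebras which is an isomorphism modulo nil ideals is an
  isomorphism.
* `isIntegral_of_nil`: integrality lifts along surjections with nil kernel.
-/

set_option linter.style.haveILetI false
set_option linter.unnecessarySimpa false
set_option linter.unusedSectionVars false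

universe u

namespace Groth.Agent.H16.NilLift

section Lift

variable {R A B C : Type u} [CommRing R] [CommRing A] [CommRing B] [CommRing C]
  [Algebra R A] [Algebra R B] [Algebra R C]

/-- nil kernel. -/
def NilKer (π : B →ₐ[R] C) : Prop := ∀ x : B, π x = 0 → IsNilpotent x

lemma fg_le_ker_nilpotent (π : B →ₐ[R] C) (hπ : NilKer π) (J : Ideal B) (hJ : J.FG)
    (hle : ∀ x ∈ J, π x = 0) : IsNilpotent J := by
  rw [hJ.isNilpotent_iff_le_nilradical]
  intro x hx
  exact hπ x (hle x hx)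

theorem nil_lift_exists [Algebra.Etale R A] (π : B →ₐ[R] C) (hs : Function.Surjective π)
    (hπ : NilKer π) (f : A →ₐ[R] C) : ∃ l : A →ₐ[R] B, π.comp l = f := by
  obtain ⟨n, φ, hφ, hfg⟩ := Algebra.FinitePresentation.out (R := R) (A := A)
  choose b hb using fun i : Fin n => hs (f (φ (MvPolynomial.X i)))
  let ψ : MvPolynomial (Fin n) R →ₐ[R] B := MvPolynomial.aeval b
  have hψ : π.comp ψ = f.comp φ := by
    apply MvPolynomial.algHom_ext
    intro i
    simp [ψ, hb]
  let J₀ : Ideal B := Ideal.map ψ.toRingHom (RingHom.ker φ.toRingHom)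
  have hJfg : J₀.FG := hfg.map _
  have hJle : ∀ x ∈ J₀, π x = 0 := by
    have : J₀ ≤ RingHom.ker π.toRingHom := by
      rw [Ideal.map_le_iff_le_comap]
      intro x hx
      rw [Ideal.mem_comap, RingHom.mem_ker]
      have h1 : π (ψ x) = f (φ x) := AlgHom.congr_fun hψ x
      have h2 : φ x = 0 := hx
      show π (ψ x) = 0
      rw [h1, h2, map_zero]
    exact fun x hx => this hx
  have hnil : IsNilpotent J₀ := fg_le_ker_nilpotent π hπ J₀ hJfg hJle
  let g : A →ₐ[R] B ⧸ J₀ := AlgHom.liftOfSurjective φ hφ ((Ideal.Quotient.mkₐ R J₀).comp ψ) (by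
    intro x hx
    rw [RingHom.mem_ker]
    show Ideal.Quotient.mk J₀ (ψ x) = 0
    rw [Ideal.Quotient.eq_zero_iff_mem]
    exact Ideal.mem_map_of_mem _ hx)
  refine ⟨Algebra.FormallySmooth.lift J₀ hnil g, ?_⟩
  ext a
  obtain ⟨x, rfl⟩ := hφ a
  have h1 : Ideal.Quotient.mk J₀ (Algebra.FormallySmooth.lift J₀ hnil g (φ x)) =
      Ideal.Quotient.mk J₀ (ψ x) := by
    rw [Algebra.FormallySmooth.mk_lift]
    exact AlgHom.liftOfSurjective_apply φ hφ _ _ x
  have h2 : Algebra.FormallySmooth.lift J₀ hnil g (φ x) - ψ x ∈ J₀ := Ideal.Quotient.eq.mp h1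
  have h3 := hJle _ h2
  rw [map_sub, sub_eq_zero] at h3
  show π (Algebra.FormallySmooth.lift J₀ hnil g (φ x)) = f (φ x)
  rw [h3]
  exact AlgHom.congr_fun hψ x

theorem nil_lift_unique [Algebra.Etale R A] (π : B →ₐ[R] C) (hπ : NilKer π)
    (l₁ l₂ : A →ₐ[R] B) (h : π.comp l₁ = π.comp l₂) : l₁ = l₂ := by
  obtain ⟨s, hs⟩ := (Algebra.FiniteType.out (R := R) (A := A))
  let J₀ : Ideal B := Ideal.span ((fun a => l₁ a - l₂ a) '' (s : Set A))
  have hJfg : J₀.FG := Submodule.fg_span (Set.Finite.image _ s.finite_toSet)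
  have hJle : ∀ x ∈ J₀, π x = 0 := by
    have : J₀ ≤ RingHom.ker π.toRingHom := by
      rw [Ideal.span_le]
      rintro _ ⟨a, _, rfl⟩
      rw [SetLike.mem_coe, RingHom.mem_ker]
      show π (l₁ a - l₂ a) = 0
      rw [map_sub, sub_eq_zero]
      exact AlgHom.congr_fun h a
    exact fun x hx => this hx
  have hnil : IsNilpotent J₀ := fg_le_ker_nilpotent π hπ J₀ hJfg hJle
  refine Algebra.FormallyUnramified.lift_unique J₀ hnil l₁ l₂ ?_
  refine AlgHom.ext_of_adjoin_eq_top hs fun a ha => ?_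
  show Ideal.Quotient.mk J₀ (l₁ a) = Ideal.Quotient.mk J₀ (l₂ a)
  rw [Ideal.Quotient.eq]
  exact Ideal.subset_span ⟨a, ha, rfl⟩

/-- the unique lift. -/
noncomputable def nilLift [Algebra.Etale R A] (π : B →ₐ[R] C) (hs : Function.Surjective π)
    (hπ : NilKer π) (f : A →ₐ[R] C) : A →ₐ[R] B := (nil_lift_exists π hs hπ f).choose

lemma comp_nilLift [Algebra.Etale R A] (π : B →ₐ[R] C) (hs : Function.Surjective π)
    (hπ : NilKer π) (f : A →ₐ[R] C) : π.comp (nilLift π hs hπ f) = f :=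
  (nil_lift_exists π hs hπ f).choose_spec

lemma nilLift_apply [Algebra.Etale R A] (π : B →ₐ[R] C) (hs : Function.Surjective π)
    (hπ : NilKer π) (f : A →ₐ[R] C) (a : A) : π (nilLift π hs hπ f a) = f a :=
  AlgHom.congr_fun (comp_nilLift π hs hπ f) a

end Lift

section Iso

variable {R A A' Ab Ab' : Type u} [CommRing R] [CommRing A] [CommRing A'] [CommRing Ab]
  [CommRing Ab'] [Algebra R A] [Algebra R A'] [Algebra R Ab] [Algebra R Ab']

theorem bijective_of_nil [Algebra.Etale R A] [Algebra.Etale R A'] (ρ : A →ₐ[R] Ab)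
    (hρs : Function.Surjective ρ) (hρ : NilKer ρ) (ρ' : A' →ₐ[R] Ab')
    (hρ's : Function.Surjective ρ') (hρ' : NilKer ρ') (φ : A →ₐ[R] A') (φb : Ab ≃ₐ[R] Ab')
    (h : ρ'.comp φ = φb.toAlgHom.comp ρ) : Function.Bijective φ := by
  let ψ : A' →ₐ[R] A := nilLift ρ hρs hρ (φb.symm.toAlgHom.comp ρ')
  have hψ : ρ.comp ψ = φb.symm.toAlgHom.comp ρ' := comp_nilLift ρ hρs hρ _
  have h1 : ψ.comp φ = AlgHom.id R A := by
    apply nil_lift_unique ρ hρ
    rw [← AlgHom.comp_assoc, hψ, AlgHom.comp_assoc, h, ← AlgHom.comp_assoc]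
    ext a
    simp
  have h2 : φ.comp ψ = AlgHom.id R A' := by
    apply nil_lift_unique ρ' hρ'
    rw [← AlgHom.comp_assoc, h, AlgHom.comp_assoc, hψ, ← AlgHom.comp_assoc]
    ext a
    simp
  refine ⟨fun a a' haa => ?_, fun a' => ⟨ψ a', AlgHom.congr_fun h2 a'⟩⟩
  have := congrArg ψ haa
  rwa [← AlgHom.comp_apply, ← AlgHom.comp_apply, h1] at this

end Iso

section Integral

variable {R A Ab : Type u} [CommRing R] [CommRing A] [CommRing Ab] [Algebra R A] [Algebra R Ab]

theorem isIntegral_of_nil (ρ : A →ₐ[R] Ab) (hρ : NilKer ρ) [Algebra.IsIntegral R Ab] :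
    Algebra.IsIntegral R A := by
  refine ⟨fun a => ?_⟩
  obtain ⟨P, hP, hPa⟩ := Algebra.IsIntegral.isIntegral (R := R) (ρ a)
  have h1 : ρ (Polynomial.aeval a P) = 0 := by
    rw [← Polynomial.aeval_algHom_apply]
    exact hPa
  obtain ⟨k, hk⟩ := hρ _ h1
  refine ⟨P ^ k, hP.pow k, ?_⟩
  show Polynomial.aeval a (P ^ k) = 0
  rw [map_pow, hk]

theorem finite_of_nil [Algebra.Etale R A] (ρ : A →ₐ[R] Ab) (hρ : NilKer ρ)
    [Module.Finite R Ab] : Module.Finite R A := by
  haveI : Algebra.IsIntegral R Ab := inferInstance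
  haveI := isIntegral_of_nil ρ hρ
  exact Algebra.IsIntegral.finite

end Integral

end Groth.Agent.H16.NilLift
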