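import Mathlib
import Groth.Agent.S9436
import Groth.Agent.H16.NilLift

/-!
# Existence of étale lifts along surjections with nil kernel (helper16)
-/

set_option linter.style.haveILetI false
set_option linter.unnecessarySimpa false
set_option linter.unusedSectionVars false

universe u

open TensorProduct

namespace Groth.Agent.H16.NilLift

/-- An étale lift of `Sb` over `R`. -/
structure Lift (R : Type u) (Sb : Type u) [CommRing R] [CommRing Sb] [Algebra R Sb] where
  /-- the lift -/
  A : Type u
  [ring : CommRing A]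
  [alg : Algebra R A]
  /-- the reduction map -/
  ρ : A →ₐ[R] Sb
  etale : Algebra.Etale R A
  surj : Function.Surjective ρ
  nil : NilKer ρ

attribute [instance] Lift.ring Lift.alg Lift.etale

theorem exists_lift {R Rb Sb : Type u} [CommRing R] [CommRing Rb] [CommRing Sb] [Algebra R Rb]
    [Algebra Rb Sb] [Algebra R Sb] [IsScalarTower R Rb Sb]
    (hsurj : Function.Surjective (algebraMap R Rb))
    (hnil : ∀ r : R, algebraMap R Rb r = 0 → IsNilpotent r) [Algebra.Etale Rb Sb] :
    Nonempty (Lift R Sb) := by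
  let I : Ideal R := RingHom.ker (algebraMap R Rb)
  let e₀ : (R ⧸ I) ≃+* Rb := RingHom.quotientKerEquivOfSurjective hsurj
  have he₀ : ∀ r : R, e₀ (Ideal.Quotient.mk I r) = algebraMap R Rb r := fun r => rfl
  letI : Algebra (R ⧸ I) Rb := e₀.toRingHom.toAlgebra
  letI : Algebra (R ⧸ I) Sb := ((algebraMap Rb Sb).comp e₀.toRingHom).toAlgebra
  haveI : IsScalarTower (R ⧸ I) Rb Sb := IsScalarTower.of_algebraMap_eq fun _ => rfl
  haveI : IsScalarTower R (R ⧸ I) Sb := IsScalarTower.of_algebraMap_eq fun r => by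
    show algebraMap R Sb r = algebraMap Rb Sb (e₀ (Ideal.Quotient.mk I r))
    rw [he₀, ← IsScalarTower.algebraMap_apply]
  haveI : Algebra.Etale (R ⧸ I) Rb :=
    Algebra.Etale.of_equiv (AlgEquiv.ofRingEquiv (f := e₀) fun _ => rfl)
  haveI : Algebra.Etale (R ⧸ I) Sb := Algebra.Etale.comp (R ⧸ I) Rb Sb
  obtain ⟨S, _, _, hS, ⟨e⟩⟩ := Groth.Agent.S9436.result R I Sb
  let ρ : S →ₐ[R] Sb :=
    (e.toAlgHom.restrictScalars R).comp (Algebra.TensorProduct.includeRight (R := R) (A := R ⧸ I))
  have hρ : ∀ s, ρ s = e (1 ⊗ₜ s) := fun _ => rfl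
  have hinc : Function.Surjective
      (Algebra.TensorProduct.includeRight (R := R) (A := R ⧸ I) (B := S)) := by
    intro x
    induction x using TensorProduct.induction_on with
    | zero => exact ⟨0, map_zero _⟩
    | tmul r s =>
      obtain ⟨r, rfl⟩ := Ideal.Quotient.mk_surjective r
      refine ⟨r • s, ?_⟩
      rw [map_smul, Algebra.TensorProduct.includeRight_apply, TensorProduct.smul_tmul']
      congr 1
      rw [Algebra.smul_def, mul_one]
      rfl
    | add x y hx hy =>
      obtain ⟨a, rfl⟩ := hx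
      obtain ⟨b, rfl⟩ := hy
      exact ⟨a + b, map_add _ _ _⟩
  refine ⟨⟨S, ρ, hS, ?_, ?_⟩⟩
  · intro y
    obtain ⟨x, rfl⟩ := e.surjective y
    obtain ⟨s, rfl⟩ := hinc x
    exact ⟨s, rfl⟩
  · intro s hs
    have h1 : (1 : R ⧸ I) ⊗ₜ[R] s = 0 := by
      apply e.injective
      rw [map_zero]
      exact hs
    have h2 := congrArg (TensorProduct.quotTensorEquivQuotSMul S I) h1
    rw [map_zero, TensorProduct.quotTensorEquivQuotSMul_mk_one_tmul] at h2
    have h3 : s ∈ (I • ⊤ : Submodule R S) := (Submodule.Quotient.mk_eq_zero _).mp h2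
    have h4 : (I • ⊤ : Submodule R S) ≤ (nilradical S).restrictScalars R := by
      rw [Submodule.smul_le]
      intro r hr x _
      show r • x ∈ nilradical S
      rw [Algebra.smul_def]
      refine Ideal.mul_mem_right _ _ ?_
      exact (hnil r hr).map _
    exact h4 h3

end Groth.Agent.H16.NilLift
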