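import Mathlib
import Groth.Agent.H16.NilLift

/-!
# Unbundled forms of nil-lifting for étale ring maps; localization of nil surjections (helper16)
-/

set_option linter.style.haveILetI false
set_option linter.unnecessarySimpa false
set_option linter.unusedSectionVars false

universe u

namespace Groth.Agent.H16.NilLift

/-- nil kernel for ring homs -/
def NilKerH {B C : Type u} [CommRing B] [CommRing C] (π : B →+* C) : Prop :=
  ∀ x, π x = 0 → IsNilpotent x

section

variable {R A B C : Type u} [CommRing R] [CommRing A] [CommRing B] [CommRing C]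

theorem lift_hom_exists (α : R →+* A) (hα : α.Etale) (β : R →+* B) (π : B →+* C)
    (hπs : Function.Surjective π) (hπn : NilKerH π) (f : A →+* C)
    (h : f.comp α = π.comp β) : ∃ l : A →+* B, l.comp α = β ∧ π.comp l = f := by
  algebraize [α]
  letI : Algebra R B := β.toAlgebra
  letI : Algebra R C := (π.comp β).toAlgebra
  let fA : A →ₐ[R] C := ⟨f, fun r => RingHom.congr_fun h r⟩
  let πA : B →ₐ[R] C := ⟨π, fun r => rfl⟩
  obtain ⟨l, hl⟩ := nil_lift_exists πA hπs hπn fA
  exact ⟨l.toRingHom, RingHom.ext fun r => l.commutes r,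
    RingHom.ext fun a => AlgHom.congr_fun hl a⟩

theorem lift_hom_unique (α : R →+* A) (hα : α.Etale) (π : B →+* C) (hπn : NilKerH π)
    (l₁ l₂ : A →+* B) (h1 : l₁.comp α = l₂.comp α) (h2 : π.comp l₁ = π.comp l₂) : l₁ = l₂ := by
  algebraize [α]
  letI : Algebra R B := (l₁.comp α).toAlgebra
  letI : Algebra R C := (π.comp (l₁.comp α)).toAlgebra
  let L₁ : A →ₐ[R] B := ⟨l₁, fun r => rfl⟩
  let L₂ : A →ₐ[R] B := ⟨l₂, fun r => (RingHom.congr_fun h1 r).symm⟩
  let πA : B →ₐ[R] C := ⟨π, fun r => rfl⟩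
  have := nil_lift_unique πA hπn L₁ L₂ (AlgHom.ext fun a => RingHom.congr_fun h2 a)
  exact RingHom.ext fun a => AlgHom.congr_fun this a

end

section

variable {R A A' Ab : Type u} [CommRing R] [CommRing A] [CommRing A'] [CommRing Ab]

theorem bijective_of_nil_hom (a : R →+* A) (ha : a.Etale) (a' : R →+* A') (ha' : a'.Etale)
    (ρ : A →+* Ab) (hρs : Function.Surjective ρ) (hρn : NilKerH ρ)
    (ρ' : A' →+* Ab) (hρ'n : NilKerH ρ')
    (φ : A →+* A') (h1 : φ.comp a = a') (h2 : ρ'.comp φ = ρ) : Function.Bijective φ := by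
  obtain ⟨ψ, hψ1, hψ2⟩ := lift_hom_exists a' ha' a ρ hρs hρn ρ' (by
    rw [← h1, ← RingHom.comp_assoc, h2])
  have e1 : ψ.comp φ = RingHom.id A := by
    apply lift_hom_unique a ha ρ hρn
    · rw [RingHom.comp_assoc, h1, hψ1, RingHom.id_comp]
    · rw [← RingHom.comp_assoc, hψ2, h2, RingHom.comp_id]
  have e2 : φ.comp ψ = RingHom.id A' := by
    apply lift_hom_unique a' ha' ρ' hρ'n
    · rw [RingHom.comp_assoc, hψ1, h1, RingHom.id_comp]
    · rw [← RingHom.comp_assoc, h2, hψ2, RingHom.comp_id]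
  refine ⟨fun x y hxy => ?_, fun y => ⟨ψ y, RingHom.congr_fun e2 y⟩⟩
  have := congrArg ψ hxy
  have hx := RingHom.congr_fun e1 x
  have hy := RingHom.congr_fun e1 y
  simp only [RingHom.comp_apply, RingHom.id_apply] at hx hy
  rw [hx, hy] at this
  exact this

end

section Loc

variable {A S A' S' : Type u} [CommRing A] [CommRing S] [CommRing A'] [CommRing S']
  [Algebra A A'] [Algebra S S']

theorem nil_localization (ρ : A →+* S) (hρs : Function.Surjective ρ) (hρn : NilKerH ρ) (a : A)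
    [IsLocalization.Away a A'] [IsLocalization.Away (ρ a) S'] (ρ' : A' →+* S')
    (h : ρ'.comp (algebraMap A A') = (algebraMap S S').comp ρ) :
    Function.Surjective ρ' ∧ NilKerH ρ' := by
  have hu : IsUnit (algebraMap A A' a) := IsLocalization.Away.algebraMap_isUnit a
  have hh : ∀ x, ρ' (algebraMap A A' x) = algebraMap S S' (ρ x) := fun x => RingHom.congr_fun h x
  constructor
  · intro s'
    obtain ⟨n, s, hs⟩ := IsLocalization.Away.surj (ρ a) s'
    obtain ⟨x, rfl⟩ := hρs s
    obtain ⟨u, hu'⟩ := hu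
    refine ⟨algebraMap A A' x * ((u⁻¹ : A'ˣ) : A') ^ n, ?_⟩
    have hun : ρ' ((u : A') ^ n) * ρ' (((u⁻¹ : A'ˣ) : A') ^ n) = 1 := by
      rw [← map_mul, ← mul_pow]; simp
    have hx : ρ' (algebraMap A A' x) = s' * ρ' ((u : A') ^ n) := by
      rw [hh, ← hs, map_pow ρ', hu', hh]
    rw [map_mul, hx, mul_assoc, hun, mul_one]
  · intro y hy
    obtain ⟨n, x, hx⟩ := IsLocalization.Away.surj a y
    have h1 : algebraMap S S' (ρ x) = 0 := by
      rw [← hh, ← hx, map_mul, hy, zero_mul]
    obtain ⟨⟨_, k, rfl⟩, hk⟩ := (IsLocalization.map_eq_zero_iff (Submonoid.powers (ρ a)) S' _).mp h1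
    have h2 : ρ (a ^ k * x) = 0 := by
      rw [map_mul, map_pow]; exact hk
    obtain ⟨N, hN⟩ := hρn _ h2
    have h3 : (algebraMap A A' a) ^ (k * N) * (algebraMap A A' x) ^ N = 0 := by
      rw [← map_pow, ← map_pow, ← map_mul, pow_mul, ← mul_pow, hN, map_zero]
    have h4 : (algebraMap A A' x) ^ N = 0 := by
      have := (hu.pow (k * N)).mul_right_eq_zero.mp h3
      exact this
    refine ⟨N, ?_⟩
    have h5 : (y * algebraMap A A' a ^ n) ^ N = 0 := by rw [hx, h4]
    rw [mul_pow] at h5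
    exact ((hu.pow n).pow N).mul_left_eq_zero.mp h5

end Loc

end Groth.Agent.H16.NilLift
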