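import Groth.Agent.H16.ZetaPts2

/-!
# Zeta function of the affine line over `X`
-/

set_option autoImplicit false
set_option linter.style.haveILetI false
set_option linter.unusedSectionVars false
universe u
open AlgebraicGeometry CategoryTheory

namespace Groth.Agent.H16.ZetaFin
section
set_option backward.isDefEq.respectTransparency false
set_option backward.isDefEq.respectTransparency.types false
variable {k : Type u} [Field k] [Finite k]

/-- existence of extensions of every positive degree, in the same universe. -/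
lemma exists_extension (m : ℕ) (hm : 0 < m) :
    ∃ (k' : Type u) (_ : Field k') (_ : Algebra k k') (_ : Finite k'),
      Module.finrank k k' = m := by
  obtain ⟨p, hp⟩ := CharP.exists k
  haveI := hp
  haveI : Fact p.Prime := ⟨CharP.char_is_prime k p⟩
  haveI : NeZero m := ⟨hm.ne'⟩
  refine ⟨ULift.{u} (FiniteField.Extension k p m), inferInstance, inferInstance, inferInstance, ?_⟩
  rw [LinearEquiv.finrank_eq (ULift.moduleEquiv (R := k) (M := FiniteField.Extension k p m))]
  exact FiniteField.finrank_extension k p m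

/-- morphisms into the affine line. -/
noncomputable def homAffEquiv (T X : Scheme.{u}) :
    (T ⟶ 𝔸(PUnit.{u + 1}; X)) ≃ (T ⟶ X) × (PUnit.{u + 1} → Γ(T, ⊤)) where
  toFun h := (h ≫ (𝔸(PUnit.{u + 1}; X) ↘ X), fun i => h.appTop (AffineSpace.coord X i))
  invFun p := AffineSpace.homOfVector p.1 p.2
  left_inv h := by
    apply AffineSpace.hom_ext
    · simp
    · intro i; simp
  right_inv p := by
    ext : 1
    · simp
    · funext i; simp

lemma pointCount_affineLine {X : Scheme.{u}} (f : X ⟶ Spec (CommRingCat.of k))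
    (k' : Type u) [Field k'] [Algebra k k'] [Finite k'] :
    SgaExt.pointCount ((𝔸(PUnit.{u + 1}; X) ↘ X) ≫ f) k' =
      SgaExt.pointCount f k' * Nat.card k' := by
  unfold SgaExt.pointCount
  let e : {h : Spec (CommRingCat.of k') ⟶ 𝔸(PUnit.{u + 1}; X) //
        h ≫ (𝔸(PUnit.{u + 1}; X) ↘ X) ≫ f = Spec.map (CommRingCat.ofHom (algebraMap k k'))} ≃
      {g : Spec (CommRingCat.of k') ⟶ X //
        g ≫ f = Spec.map (CommRingCat.ofHom (algebraMap k k'))} ×
        (PUnit.{u + 1} → Γ(Spec (CommRingCat.of k'), ⊤)) :=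
    { toFun := fun h => (⟨h.1 ≫ (𝔸(PUnit.{u + 1}; X) ↘ X), by
          rw [Category.assoc]; exact h.2⟩,
        fun i => h.1.appTop (AffineSpace.coord X i))
      invFun := fun p => ⟨AffineSpace.homOfVector p.1.1 p.2, by
        rw [AffineSpace.homOfVector_over_assoc]; exact p.1.2⟩
      left_inv := fun h => by
        apply Subtype.ext
        exact (homAffEquiv _ X).left_inv h.1
      right_inv := fun p => by
        apply Prod.ext
        · apply Subtype.ext
          simp
        · funext i
          simp }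
  rw [Nat.card_congr e, Nat.card_prod]
  congr 1
  have e2 : (PUnit.{u + 1} → Γ(Spec (CommRingCat.of k'), ⊤)) ≃ k' :=
    (Equiv.funUnique _ _).trans (Scheme.ΓSpecIso (CommRingCat.of k')).commRingCatIsoToRingEquiv.toEquiv
  exact Nat.card_congr e2

open PowerSeries in
theorem zetaFun_affineLine {X : Scheme.{u}} (f : X ⟶ Spec (CommRingCat.of k))
    [LocallyOfFiniteType f] [QuasiCompact f] :
    Zeta.zetaFun ((𝔸(PUnit.{u + 1}; X) ↘ X) ≫ f) =
      PowerSeries.rescale (Nat.card k : ℚ) (Zeta.zetaFun f) := by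
  haveI : LocallyOfFiniteType ((𝔸(PUnit.{u + 1}; X) ↘ X) ≫ f) := inferInstance
  haveI : QuasiCompact ((𝔸(PUnit.{u + 1}; X) ↘ X) ≫ f) := inferInstance
  have hn : ∀ m, Zeta.nPts ((𝔸(PUnit.{u + 1}; X) ↘ X) ≫ f) m =
      (Nat.card k) ^ m * Zeta.nPts f m := by
    intro m
    rcases Nat.eq_zero_or_pos m with rfl | hm
    · simp [Zeta.nPts]
    obtain ⟨k', _, _, _, hk'⟩ := exists_extension (k := k) m hm
    haveI : Module.Finite k k' := Module.Finite.of_finite
    rw [← hk', ← pointCount_eq_nPts, ← pointCount_eq_nPts, pointCount_affineLine, mul_comm,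
      Module.natCard_eq_pow_finrank (K := k) (V := k')]
  have hl : Zeta.logZeta ((𝔸(PUnit.{u + 1}; X) ↘ X) ≫ f) =
      rescale (Nat.card k : ℚ) (Zeta.logZeta f) := by
    ext m
    rw [coeff_rescale]
    simp only [Zeta.logZeta, coeff_mk]
    rw [hn m]
    push_cast
    ring
  have hc : constantCoeff (Zeta.logZeta f) = 0 := by
    rw [← coeff_zero_eq_constantCoeff_apply, Zeta.logZeta, coeff_mk]
    simp
  unfold Zeta.zetaFun
  rw [hl, rescale_eq_subst (Nat.card k : ℚ) (Zeta.logZeta f),
    rescale_eq_subst (Nat.card k : ℚ) (subst (Zeta.logZeta f) (exp ℚ)),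
    subst_comp_subst_apply (HasSubst.of_constantCoeff_zero' hc) (HasSubst.smul_X' _)]

end
end Groth.Agent.H16.ZetaFin
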