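import Mathlib
import Groth.Agent.H88.ProjChart
import Groth.Agent.H16.ZetaPts3

/-!
# Field-valued points of projective space over a field, counted by the strata `x_i ≠ 0, x_j = 0 (j > i)`
-/

set_option autoImplicit false
set_option linter.style.haveILetI false
set_option linter.unusedSectionVars false
set_option linter.unusedVariables false
universe u
open AlgebraicGeometry CategoryTheory HomogeneousLocalization

namespace Groth.Agent.H16.ProjPts
open Groth.Agent.H88.ProjChart Groth.Agent.H18.ProjUPSym Groth.Agent.H18.ProjUPUniq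

section
set_option backward.isDefEq.respectTransparency false
set_option backward.isDefEq.respectTransparency.types false

variable (n : ℕ) (k : Type u) [Field k]

instance isScalarTower_polyGrading :
    IsScalarTower k (CohB1.polyGrading n k 0) (MvPolynomial (Fin (n + 1)) k) :=
  IsScalarTower.of_algebraMap_eq (R := k) (S := ↥(CohB1.polyGrading n k 0))
    (A := MvPolynomial (Fin (n + 1)) k) (fun _ => rfl)

instance finiteType_polyGrading :
    Algebra.FiniteType (CohB1.polyGrading n k 0) (MvPolynomial (Fin (n + 1)) k) :=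
  Algebra.FiniteType.of_restrictScalars_finiteType k _ _

theorem algebraMap_polyGrading_zero_surjective :
    Function.Surjective (algebraMap k (CohB1.polyGrading n k 0)) := by
  rintro ⟨p, hp⟩
  have hp' : p ∈ MvPolynomial.homogeneousSubmodule (Fin (n + 1)) k 0 := hp
  rw [MvPolynomial.homogeneousSubmodule_zero] at hp'
  obtain ⟨r, hr⟩ := Submodule.mem_one.mp hp'
  exact ⟨r, Subtype.ext hr⟩

instance isProper_projSpace_toSpec : IsProper (CohB1.ProjSpace.toSpec n k) := by
  haveI : IsClosedImmersion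
      (Spec.map (CommRingCat.ofHom (algebraMap k (CohB1.polyGrading n k 0)))) :=
    IsClosedImmersion.spec_of_surjective _ (algebraMap_polyGrading_zero_surjective n k)
  exact inferInstanceAs (IsProper (Proj.toSpecZero (CohB1.polyGrading n k) ≫
    Spec.map (CommRingCat.ofHom (algebraMap k (CohB1.polyGrading n k 0)))))

/-- the chart `D₊(X_i) = Spec k[X_j/X_i] ⟶ P^n`. -/
noncomputable abbrev ch (i : Fin (n + 1)) :
    Spec (CommRingCat.of (B n k i)) ⟶ CohB1.ProjSpace n k :=
  Proj.awayι (CohB1.polyGrading n k) (MvPolynomial.X i) (hT n k i) Nat.one_pos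

/-- the fraction `X_j / X_i`. -/
noncomputable abbrev fr (i j : Fin (n + 1)) : B n k i :=
  uFracG (CohB1.polyGrading n k) (hT n k i) (hT n k j)

variable (K : Type u) [Field K] [Algebra k K]

variable {n k K}

lemma exists_factor (g : Spec (CommRingCat.of K) ⟶ CohB1.ProjSpace n k)
    (x : Spec (CommRingCat.of K)) (i : Fin (n + 1))
    (h : g.base x ∈ Proj.basicOpen (CohB1.polyGrading n k) (MvPolynomial.X i)) :
    ∃ φ : B n k i →+* K, g = Spec.map (CommRingCat.ofHom φ) ≫ ch n k i := by
  haveI : Subsingleton (Spec (CommRingCat.of K)) :=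
    inferInstanceAs (Subsingleton (PrimeSpectrum K))
  have hr : Set.range g.base ⊆ Set.range (ch n k i).base := by
    rintro _ ⟨y, rfl⟩
    obtain rfl : y = x := Subsingleton.elim _ _
    have := Proj.opensRange_awayι (CohB1.polyGrading n k) (MvPolynomial.X i) (hT n k i)
      Nat.one_pos
    rw [← this] at h
    exact h
  refine ⟨(Spec.preimage (IsOpenImmersion.lift (ch n k i) g hr)).hom, ?_⟩
  rw [CommRingCat.ofHom_hom, Spec.map_preimage, IsOpenImmersion.lift_fac]

lemma fr_eq (i j : Fin (n + 1)) :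
    fr n k i j = Away.isLocalizationElem (𝒜 := CohB1.polyGrading n k) (hT n k i) (hT n k j) := by
  unfold fr uFracG Away.isLocalizationElem
  congr 1
  exact (pow_one _).symm

lemma mem_basicOpen_iff (i : Fin (n + 1)) (φ : B n k i →+* K) (x : Spec (CommRingCat.of K))
    (j : Fin (n + 1)) :
    (Spec.map (CommRingCat.ofHom φ) ≫ ch n k i).base x ∈
        Proj.basicOpen (CohB1.polyGrading n k) (MvPolynomial.X j) ↔ φ (fr n k i j) ≠ 0 := by
  have h1 : (Spec.map (CommRingCat.ofHom φ) ≫ ch n k i).base x ∈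
        Proj.basicOpen (CohB1.polyGrading n k) (MvPolynomial.X j) ↔
      (Spec.map (CommRingCat.ofHom φ)).base x ∈
        (ch n k i) ⁻¹ᵁ Proj.basicOpen (CohB1.polyGrading n k) (MvPolynomial.X j) := by
    rw [Scheme.Hom.comp_base]
    rfl
  rw [h1, Proj.awayι_preimage_basicOpen (CohB1.polyGrading n k) (hT n k i) Nat.one_pos
    (hT n k j) Nat.one_pos, ← fr_eq]
  have hx : (x : PrimeSpectrum K).asIdeal = ⊥ := by
    have := (x : PrimeSpectrum K).isPrime
    exact ((Ideal.eq_bot_or_top _).resolve_right this.ne_top)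
  show fr n k i j ∉ Ideal.comap φ (x : PrimeSpectrum K).asIdeal ↔ _
  rw [Ideal.mem_comap, hx, Ideal.mem_bot]

lemma comp_toSpec (i : Fin (n + 1)) (φ : B n k i →+* K) :
    (Spec.map (CommRingCat.ofHom φ) ≫ ch n k i) ≫ CohB1.ProjSpace.toSpec n k =
      Spec.map (CommRingCat.ofHom (φ.comp (constMapG (CohB1.polyGrading n k) (MvPolynomial.X i)))) := by
  unfold CohB1.ProjSpace.toSpec
  rw [Category.assoc, Proj.awayι_toSpecZero_assoc, ← Spec.map_comp, ← Spec.map_comp]
  rfl

lemma hom_ext' (i : Fin (n + 1)) (φ φ' : B n k i →+* K)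
    (hc : φ.comp (constMapG (CohB1.polyGrading n k) (MvPolynomial.X i)) =
      φ'.comp (constMapG (CohB1.polyGrading n k) (MvPolynomial.X i)))
    (hf : ∀ j : Fin (n + 1), j ≠ i → φ (fr n k i j) = φ' (fr n k i j)) : φ = φ' := by
  have h : φ.comp (chartEquiv n k i : Q n k i →+* B n k i) =
      φ'.comp (chartEquiv n k i : Q n k i →+* B n k i) := by
    apply MvPolynomial.ringHom_ext
    · intro r
      simp only [RingHom.comp_apply, RingHom.coe_coe, chartEquiv_C]
      exact congrFun (congrArg DFunLike.coe hc) r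
    · intro j
      simp only [RingHom.comp_apply, RingHom.coe_coe, chartEquiv_X]
      exact hf j.1 j.2
  ext b
  obtain ⟨q, rfl⟩ := (chartEquiv n k i).surjective b
  exact congrFun (congrArg DFunLike.coe h) q

/-- the ring map on the chart with prescribed values on the fractions. -/
noncomputable def mkHom (i : Fin (n + 1)) (y : {j : Fin (n + 1) // j ≠ i} → K) : B n k i →+* K :=
  (MvPolynomial.eval₂Hom (algebraMap k K) y).comp
    ((chartEquiv n k i).symm : B n k i →+* Q n k i)

lemma mkHom_const (i : Fin (n + 1)) (y : {j : Fin (n + 1) // j ≠ i} → K) :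
    (mkHom i y).comp (constMapG (CohB1.polyGrading n k) (MvPolynomial.X i)) = algebraMap k K := by
  ext r
  unfold mkHom
  simp only [RingHom.comp_apply, RingHom.coe_coe]
  rw [← chartEquiv_C, RingEquiv.symm_apply_apply, MvPolynomial.coe_eval₂Hom, MvPolynomial.eval₂_C]

lemma mkHom_fr (i : Fin (n + 1)) (y : {j : Fin (n + 1) // j ≠ i} → K) (j : Fin (n + 1))
    (hj : j ≠ i) : mkHom i y (fr n k i j) = y ⟨j, hj⟩ := by
  unfold mkHom fr
  simp only [RingHom.comp_apply, RingHom.coe_coe]
  rw [← chartEquiv_X n k i ⟨j, hj⟩, RingEquiv.symm_apply_apply, MvPolynomial.coe_eval₂Hom,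
    MvPolynomial.eval₂_X]

lemma fr_self (i : Fin (n + 1)) : fr n k i i = 1 := by
  unfold fr uFracG
  apply HomogeneousLocalization.val_injective
  rw [HomogeneousLocalization.Away.val_mk, HomogeneousLocalization.val_one]
  have : (⟨MvPolynomial.X i ^ 1, 1, rfl⟩ : Submonoid.powers (MvPolynomial.X i : MvPolynomial (Fin (n + 1)) k)) =
      ⟨MvPolynomial.X i, 1, pow_one (MvPolynomial.X i : MvPolynomial (Fin (n + 1)) k)⟩ :=
    Subtype.ext (pow_one (MvPolynomial.X i : MvPolynomial (Fin (n + 1)) k))
  rw [this]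
  exact Localization.mk_self_mk (MvPolynomial.X i : MvPolynomial (Fin (n + 1)) k) _

/-- extension by zero of the free coordinates `y_j`, `j < i`. -/
noncomputable def ext0 (i : Fin (n + 1)) (y : Fin i.val → K) : {j : Fin (n + 1) // j ≠ i} → K :=
  fun j => if h : j.1.val < i.val then y ⟨j.1.val, h⟩ else 0

variable (n k K) in
/-- the `K`-points of `P^n_k` over `k`. -/
abbrev Pts : Type u := {g : Spec (CommRingCat.of K) ⟶ CohB1.ProjSpace n k //
  g ≫ CohB1.ProjSpace.toSpec n k = Spec.map (CommRingCat.ofHom (algebraMap k K))}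

/-- the parametrisation of the points by strata. -/
noncomputable def F : (Σ i : Fin (n + 1), (Fin i.val → K)) → Pts n k K := fun p =>
  ⟨Spec.map (CommRingCat.ofHom (mkHom p.1 (ext0 p.1 p.2))) ≫ ch n k p.1, by
    rw [comp_toSpec, mkHom_const]⟩

lemma F_mem_self (p : Σ i : Fin (n + 1), (Fin i.val → K)) (x : Spec (CommRingCat.of K)) :
    (F p).1.base x ∈ Proj.basicOpen (CohB1.polyGrading n k) (MvPolynomial.X p.1) := by
  unfold F
  rw [mem_basicOpen_iff, fr_self, map_one]
  exact one_ne_zero

lemma F_not_mem (p : Σ i : Fin (n + 1), (Fin i.val → K)) (x : Spec (CommRingCat.of K))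
    (j : Fin (n + 1)) (hj : p.1 < j) :
    (F p).1.base x ∉ Proj.basicOpen (CohB1.polyGrading n k) (MvPolynomial.X j) := by
  unfold F
  rw [mem_basicOpen_iff, not_not, mkHom_fr _ _ _ hj.ne']
  unfold ext0
  rw [dif_neg]
  exact not_lt.mpr (Fin.le_def.mp hj.le)

lemma ofHom_injective {i : Fin (n + 1)} {φ φ' : B n k i →+* K}
    (h : Spec.map (CommRingCat.ofHom φ) = Spec.map (CommRingCat.ofHom φ')) : φ = φ' := by
  have := Spec.map_injective h
  exact congrArg CommRingCat.Hom.hom this

lemma F_injective : Function.Injective (F (n := n) (k := k) (K := K)) := by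
  haveI : Nonempty (Spec (CommRingCat.of K)) := inferInstanceAs (Nonempty (PrimeSpectrum K))
  obtain ⟨x⟩ := ‹Nonempty (Spec (CommRingCat.of K))›
  rintro ⟨i, y⟩ ⟨i', y'⟩ h
  have hii : i = i' := by
    have m1 := F_mem_self (n := n) (k := k) (K := K) ⟨i', y'⟩ x
    have m2 := F_mem_self (n := n) (k := k) (K := K) ⟨i, y⟩ x
    rcases lt_trichotomy i i' with hlt | heq | hgt
    · rw [← h] at m1
      exact absurd m1 (F_not_mem ⟨i, y⟩ x i' hlt)
    · exact heq
    · rw [h] at m2
      exact absurd m2 (F_not_mem ⟨i', y'⟩ x i hgt)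
  subst hii
  have hg : Spec.map (CommRingCat.ofHom (mkHom i (ext0 i y))) ≫ ch n k i =
      Spec.map (CommRingCat.ofHom (mkHom i (ext0 i y'))) ≫ ch n k i := congrArg Subtype.val h
  rw [cancel_mono] at hg
  have hφ := ofHom_injective hg
  have hy : y = y' := by
    funext j'
    have hne : (⟨j'.val, lt_trans j'.2 i.2⟩ : Fin (n + 1)) ≠ i := by
      intro e
      have := congrArg Fin.val e
      simp only at this
      exact (lt_irrefl _ (this ▸ j'.2))
    have h1 := mkHom_fr (k := k) i (ext0 i y) _ hne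
    have h2 := mkHom_fr (k := k) i (ext0 i y') _ hne
    rw [hφ, h2] at h1
    unfold ext0 at h1
    rw [dif_pos (show (⟨j'.val, lt_trans j'.2 i.2⟩ : Fin (n + 1)).val < i.val from j'.2),
      dif_pos (show (⟨j'.val, lt_trans j'.2 i.2⟩ : Fin (n + 1)).val < i.val from j'.2)] at h1
    exact h1.symm
  rw [hy]

lemma F_surjective : Function.Surjective (F (n := n) (k := k) (K := K)) := by
  classical
  haveI : Nonempty (Spec (CommRingCat.of K)) := inferInstanceAs (Nonempty (PrimeSpectrum K))
  obtain ⟨x⟩ := ‹Nonempty (Spec (CommRingCat.of K))›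
  rintro ⟨g, hg⟩
  let S : Finset (Fin (n + 1)) := Finset.univ.filter
    (fun j => g.base x ∈ Proj.basicOpen (CohB1.polyGrading n k) (MvPolynomial.X j))
  have hne : S.Nonempty := by
    obtain ⟨j, hj⟩ := Groth.Agent.H18.ProjUPData.Dp_cover n k (g.base x)
    exact ⟨j, Finset.mem_filter.mpr ⟨Finset.mem_univ _, hj⟩⟩
  obtain ⟨i, hiS, hmax⟩ : ∃ i : Fin (n + 1),
      g.base x ∈ Proj.basicOpen (CohB1.polyGrading n k) (MvPolynomial.X i) ∧
      ∀ j, g.base x ∈ Proj.basicOpen (CohB1.polyGrading n k) (MvPolynomial.X j) → j ≤ i :=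
    ⟨S.max' hne, (Finset.mem_filter.mp (S.max'_mem hne)).2,
      fun j hj => S.le_max' j (Finset.mem_filter.mpr ⟨Finset.mem_univ _, hj⟩)⟩
  clear_value S
  clear hne S
  obtain ⟨φ, rfl⟩ := exists_factor g x i hiS
  rw [comp_toSpec] at hg
  have hc : φ.comp (constMapG (CohB1.polyGrading n k) (MvPolynomial.X i)) = algebraMap k K := by
    have := Spec.map_injective hg
    exact congrArg CommRingCat.Hom.hom this
  let y : Fin i.val → K := fun j' => φ (fr n k i ⟨j'.val, lt_trans j'.2 i.2⟩)
  have hφ : φ = mkHom i (ext0 i y) := by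
    apply hom_ext'
    · rw [hc, mkHom_const]
    · intro j hj
      rw [mkHom_fr _ _ _ hj]
      unfold ext0
      by_cases hlt : j.val < i.val
      · rw [dif_pos hlt]
      · rw [dif_neg hlt]
        by_contra hne0
        have hjm := (mem_basicOpen_iff i φ x j).mpr hne0
        have hle := hmax j hjm
        exact hj (le_antisymm hle (Fin.le_def.mpr (not_lt.mp hlt)))
  refine ⟨⟨i, y⟩, Subtype.ext ?_⟩
  show Spec.map (CommRingCat.ofHom (mkHom i (ext0 i y))) ≫ ch n k i = _
  rw [← hφ]

variable (n k K) in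
theorem pointCount_projSpace [Finite K] :
    SgaExt.pointCount (CohB1.ProjSpace.toSpec n k) K =
      ∑ i ∈ Finset.range (n + 1), Nat.card K ^ i := by
  unfold SgaExt.pointCount
  rw [← Nat.card_congr (Equiv.ofBijective F ⟨F_injective (n := n) (k := k) (K := K), F_surjective⟩),
    Nat.card_sigma]
  simp_rw [Nat.card_fun, Nat.card_fin]
  exact Fin.sum_univ_eq_sum_range (fun i => Nat.card K ^ i) (n + 1)

variable (n k) in
theorem nPts_projSpace [Finite k] (m : ℕ) (hm : 1 ≤ m) :
    Zeta.nPts (CohB1.ProjSpace.toSpec n k) m =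
      ∑ i ∈ Finset.range (n + 1), (Nat.card k ^ m) ^ i := by
  obtain ⟨k', _, _, _, hk'⟩ := Groth.Agent.H16.ZetaFin.exists_extension (k := k) m hm
  haveI : Module.Finite k k' := Module.Finite.of_finite
  rw [← hk', ← Groth.Agent.H16.ZetaFin.pointCount_eq_nPts, pointCount_projSpace,
    Module.natCard_eq_pow_finrank (K := k) (V := k')]

end
end Groth.Agent.H16.ProjPts
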