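import Mathlib
import Groth.Agent.H88.ProjChart
import Groth.Agent.H18.ProjSpaceGlobal

/-!
# Projective space over a ring (and over a scheme) is smooth and proper
-/

set_option autoImplicit false
set_option linter.style.haveILetI false
set_option linter.unusedSectionVars false
set_option linter.unusedVariables false
universe u

open CategoryTheory CategoryTheory.Limits AlgebraicGeometry HomogeneousLocalization
open Groth.Agent.H88.ProjChart Groth.Agent.H18.ProjUPSym Groth.Agent.H18.ProjUPUniq

namespace Groth.Agent.H16.ProjSmooth

set_option backward.isDefEq.respectTransparency false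
set_option backward.isDefEq.respectTransparency.types false

variable (n : ℕ) (R : Type u) [CommRing R]

instance isScalarTower_polyGrading :
    IsScalarTower R (CohB1.polyGrading n R 0) (MvPolynomial (Fin (n + 1)) R) :=
  IsScalarTower.of_algebraMap_eq (R := R) (S := ↥(CohB1.polyGrading n R 0))
    (A := MvPolynomial (Fin (n + 1)) R) (fun _ => rfl)

instance finiteType_polyGrading :
    Algebra.FiniteType (CohB1.polyGrading n R 0) (MvPolynomial (Fin (n + 1)) R) :=
  Algebra.FiniteType.of_restrictScalars_finiteType R _ _

theorem algebraMap_polyGrading_zero_surjective :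
    Function.Surjective (algebraMap R (CohB1.polyGrading n R 0)) := by
  rintro ⟨p, hp⟩
  have hp' : p ∈ MvPolynomial.homogeneousSubmodule (Fin (n + 1)) R 0 := hp
  rw [MvPolynomial.homogeneousSubmodule_zero] at hp'
  obtain ⟨r, hr⟩ := Submodule.mem_one.mp hp'
  exact ⟨r, Subtype.ext hr⟩

/-- Projective space over a ring is proper. -/
instance isProper_toSpec : IsProper (CohB1.ProjSpace.toSpec n R) := by
  haveI : IsClosedImmersion
      (Spec.map (CommRingCat.ofHom (algebraMap R (CohB1.polyGrading n R 0)))) :=
    IsClosedImmersion.spec_of_surjective _ (algebraMap_polyGrading_zero_surjective n R)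
  exact inferInstanceAs (IsProper (Proj.toSpecZero (CohB1.polyGrading n R) ≫
    Spec.map (CommRingCat.ofHom (algebraMap R (CohB1.polyGrading n R 0)))))

/-- the chart `D₊(X_i) = Spec R[X_j/X_i] ⟶ P^n`. -/
noncomputable abbrev ch (i : Fin (n + 1)) :
    Spec (CommRingCat.of (B n R i)) ⟶ CohB1.ProjSpace n R :=
  Proj.awayι (CohB1.polyGrading n R) (MvPolynomial.X i) (hT n R i) Nat.one_pos

instance (i : Fin (n + 1)) : IsOpenImmersion (ch n R i) := by
  unfold ch; infer_instance

theorem ch_toSpec (i : Fin (n + 1)) :
    ch n R i ≫ CohB1.ProjSpace.toSpec n R =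
      Spec.map (CommRingCat.ofHom (constMapG (CohB1.polyGrading n R) (MvPolynomial.X i))) := by
  unfold CohB1.ProjSpace.toSpec
  rw [Proj.awayι_toSpecZero_assoc, ← Spec.map_comp]
  rfl

theorem smooth_constMapG (i : Fin (n + 1)) :
    (constMapG (CohB1.polyGrading n R) (MvPolynomial.X i)).Smooth := by
  have h : constMapG (CohB1.polyGrading n R) (MvPolynomial.X i) =
      (chartEquiv n R i).toRingHom.comp (algebraMap R (Q n R i)) :=
    RingHom.ext fun r => (chartEquiv_C n R i r).symm
  rw [h]
  refine RingHom.Smooth.comp ?_ (RingHom.Smooth.of_bijective (chartEquiv n R i).bijective)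
  rw [RingHom.smooth_algebraMap]
  exact ⟨inferInstance, inferInstance⟩

/-- Projective space over a ring is smooth. -/
instance smooth_toSpec : Smooth (CohB1.ProjSpace.toSpec n R) := by
  let 𝒰 := (Proj.affineOpenCoverOfIrrelevantLESpan (CohB1.polyGrading n R)
    (MvPolynomial.X : Fin (n + 1) → MvPolynomial (Fin (n + 1)) R) (fun i => hT n R i)
    (fun _ => Nat.one_pos) (Groth.Agent.H18.ProjSpaceGlobal.irrelevant_le_span n R)).openCover
  rw [IsZariskiLocalAtSource.iff_of_openCover (P := @Smooth) 𝒰]
  intro i
  have h : 𝒰.f i ≫ CohB1.ProjSpace.toSpec n R =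
      Spec.map (CommRingCat.ofHom (constMapG (CohB1.polyGrading n R) (MvPolynomial.X i))) :=
    ch_toSpec n R i
  rw [h, HasRingHomProperty.Spec_iff (P := @Smooth)]
  exact smooth_constMapG n R i

/-- Projective space over a scheme is proper over the base. -/
instance isProper_toBase (S : Scheme.{u}) : IsProper (CohB1.ProjSpaceOver.toBase n S) := by
  unfold CohB1.ProjSpaceOver.toBase; infer_instance

/-- Projective space over a scheme is smooth over the base. -/
instance smooth_toBase (S : Scheme.{u}) : Smooth (CohB1.ProjSpaceOver.toBase n S) := by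
  unfold CohB1.ProjSpaceOver.toBase; infer_instance

end Groth.Agent.H16.ProjSmooth
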