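import Groth.Prelude.Def_SpSeq
import Groth.Agent.H34.SubobjRefine

/-!
# Subquotients of subobjects in an abelian category (helper16)

`SpSeq.subquot Z B h = Z / B` for subobjects `B ≤ Z` of `X`.
* `sup_factors` : membership in a sup up to refinement; the subobject lattice is modular.
* `sqι, sqq, sq_shortExact` : for `U ≤ V ≤ W`, `0 → V/U → W/U → W/V → 0`.
* `subquot_iso_of` : a morphism `φ` inducing an iso `V/U ≅ V'/U'` (4 elementwise conditions).
* `butterfly_d`, `gr_iso` : the two Zassenhaus-type isomorphisms used for spectral sequences of filtered complexes.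
-/

set_option autoImplicit false
open CategoryTheory CategoryTheory.Limits
universe v u

namespace Groth.Agent.H16.SubQuot

open Groth.Agent.H34 SpSeq

variable {A : Type u} [Category.{v} A] [Abelian A]

lemma sup_image_eq {X A₁ A₂ : A} (s : A₁ ⟶ X) (t : A₂ ⟶ X) :
    imageSubobject s ⊔ imageSubobject t = imageSubobject (biprod.desc s t) := by
  apply le_antisymm
  · exact sup_le (SpSeq.FilCx.imageSubobject_le_of_fac biprod.inl (by simp))
      (SpSeq.FilCx.imageSubobject_le_of_fac biprod.inr (by simp))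
  · refine imageSubobject_le _ (biprod.desc
      (factorThruImageSubobject s ≫ Subobject.ofLE _ _ le_sup_left)
      (factorThruImageSubobject t ≫ Subobject.ofLE _ _ le_sup_right)) ?_
    ext <;> simp

lemma factors_neg {X T : A} (S : Subobject X) (x : T ⟶ X) (h : S.Factors x) : S.Factors (-x) := by
  rw [factors_iff_comp_cokernel_zero] at h ⊢
  rw [Preadditive.neg_comp, h, neg_zero]

lemma factors_sub {X T : A} (S : Subobject X) (x y : T ⟶ X) (hx : S.Factors x) (hy : S.Factors y) :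
    S.Factors (x - y) := by
  rw [factors_iff_comp_cokernel_zero] at hx hy ⊢
  rw [Preadditive.sub_comp, hx, hy, sub_zero]

lemma factors_precomp {X T T' : A} (S : Subobject X) (π : T' ⟶ T) (x : T ⟶ X) (h : S.Factors x) :
    S.Factors (π ≫ x) := by
  rw [factors_iff_comp_cokernel_zero] at h ⊢
  rw [Category.assoc, h, comp_zero]

/-- Membership in a sup of two subobjects, up to refinement. -/
lemma sup_factors {X T : A} (S S' : Subobject X) (x : T ⟶ X) (h : (S ⊔ S').Factors x) :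
    ∃ (T' : A) (π : T' ⟶ T) (_ : Epi π) (a b : T' ⟶ X),
      S.Factors a ∧ S'.Factors b ∧ π ≫ x = a + b := by
  have h' : (imageSubobject S.arrow ⊔ imageSubobject S'.arrow).Factors x := by
    rwa [imageSubobject_mono, imageSubobject_mono, Subobject.mk_arrow, Subobject.mk_arrow]
  rw [sup_image_eq, imageSubobject_factors_iff] at h'
  obtain ⟨T', π, hπ, y, hy⟩ := h'
  refine ⟨T', π, hπ, (y ≫ biprod.fst) ≫ S.arrow, (y ≫ biprod.snd) ≫ S'.arrow,
    Subobject.factors_comp_arrow _, Subobject.factors_comp_arrow _, ?_⟩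
  rw [hy, biprod.desc_eq, Preadditive.comp_add, Category.assoc, Category.assoc]

lemma sup_factors_of {X T : A} (S S' : Subobject X) (a b : T ⟶ X) (ha : S.Factors a)
    (hb : S'.Factors b) : (S ⊔ S').Factors (a + b) :=
  Subobject.factors_add _ _ (Subobject.sup_factors_of_factors_left ha)
    (Subobject.sup_factors_of_factors_right hb)

/-- The subobject lattice of an object of an abelian category is modular. -/
instance {X : A} : IsModularLattice (Subobject X) where
  sup_inf_le_assoc_of_le := by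
    intro x y z hxz
    apply subobject_le_of_forall_factors
    intro T t ht
    have h1 := (Subobject.inf_factors t).1 ht
    obtain ⟨T', π, hπ, a, b, ha, hb, hab⟩ := sup_factors _ _ _ h1.1
    apply factors_of_epi_comp _ π
    rw [hab]
    refine sup_factors_of _ _ _ _ ha ((Subobject.inf_factors b).2 ⟨hb, ?_⟩)
    have : b = π ≫ t - a := by rw [hab]; abel
    rw [this]
    exact factors_sub _ _ _ (factors_precomp _ _ _ h1.2) (Subobject.factors_of_le _ hxz ha)

/-- if `x ≫ cokernel.π m = 0` for a mono `m`, then `x` lifts through `m`. -/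
lemma lift_of_comp_cokernel_zero {B Z T : A} (m : B ⟶ Z) [Mono m] (x : T ⟶ Z)
    (h : x ≫ cokernel.π m = 0) : ∃ y : T ⟶ B, y ≫ m = x :=
  ⟨Abelian.monoLift m x h, Abelian.monoLift_comp m x h⟩

section Basic

variable {X : A} (Z B : Subobject X) (h : B ≤ Z)

/-- the projection `Z ⟶ Z/B` -/
noncomputable def sqπ : (Z : A) ⟶ subquot Z B h := cokernel.π (B.ofLE Z h)

instance : Epi (sqπ Z B h) := inferInstanceAs (Epi (cokernel.π (B.ofLE Z h)))

@[reassoc]
lemma sqπ_condition : B.ofLE Z h ≫ sqπ Z B h = 0 := cokernel.condition _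

/-- descent from `Z/B` -/
noncomputable def sqDesc {Y : A} (f : (Z : A) ⟶ Y) (hf : B.ofLE Z h ≫ f = 0) : subquot Z B h ⟶ Y :=
  cokernel.desc (B.ofLE Z h) f hf

@[reassoc (attr := simp)]
lemma sqπ_desc {Y : A} (f : (Z : A) ⟶ Y) (hf : B.ofLE Z h ≫ f = 0) :
    sqπ Z B h ≫ sqDesc Z B h f hf = f := cokernel.π_desc _ _ _

lemma sq_lift {T : A} (x : T ⟶ (Z : A)) (hx : x ≫ sqπ Z B h = 0) :
    ∃ y : T ⟶ (B : A), y ≫ B.ofLE Z h = x :=
  lift_of_comp_cokernel_zero (B.ofLE Z h) x hx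

lemma sq_surj {T : A} (x : T ⟶ subquot Z B h) :
    ∃ (T' : A) (π : T' ⟶ T) (_ : Epi π) (x' : T' ⟶ (Z : A)), π ≫ x = x' ≫ sqπ Z B h :=
  surjective_up_to_refinements_of_epi (sqπ Z B h) x

end Basic

section Chain

variable {X : A} (U V W : Subobject X) (hUV : U ≤ V) (hVW : V ≤ W)

/-- `V/U ⟶ W/U` for `U ≤ V ≤ W`. -/
noncomputable def sqι : subquot V U hUV ⟶ subquot W U (hUV.trans hVW) :=
  sqDesc V U hUV (V.ofLE W hVW ≫ sqπ W U (hUV.trans hVW)) (by
    rw [← Category.assoc, Subobject.ofLE_comp_ofLE, sqπ_condition])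

/-- `W/U ⟶ W/V` for `U ≤ V ≤ W`. -/
noncomputable def sqq : subquot W U (hUV.trans hVW) ⟶ subquot W V hVW :=
  sqDesc W U (hUV.trans hVW) (sqπ W V hVW) (by
    rw [← Subobject.ofLE_comp_ofLE U V W hUV hVW, Category.assoc, sqπ_condition, comp_zero])

@[reassoc]
lemma π_sqι : sqπ V U hUV ≫ sqι U V W hUV hVW =
    V.ofLE W hVW ≫ sqπ W U (hUV.trans hVW) := sqπ_desc _ _ _ _ _

@[reassoc]
lemma π_sqq : sqπ W U (hUV.trans hVW) ≫ sqq U V W hUV hVW = sqπ W V hVW := sqπ_desc _ _ _ _ _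

instance : Epi (sqq U V W hUV hVW) := epi_of_epi_fac (π_sqq U V W hUV hVW)

instance : Mono (sqι U V W hUV hVW) := by
  apply Preadditive.mono_of_cancel_zero
  intro T a ha
  obtain ⟨T', π, hπ, a', ha'⟩ := sq_surj V U hUV a
  have h1 : (a' ≫ V.ofLE W hVW) ≫ sqπ W U (hUV.trans hVW) = 0 := by
    rw [Category.assoc, ← π_sqι U V W hUV hVW, ← Category.assoc, ← ha', Category.assoc, ha, comp_zero]
  obtain ⟨u, hu⟩ := sq_lift _ _ _ _ h1
  have h3 : u ≫ U.ofLE V hUV = a' := by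
    rw [← cancel_mono (V.ofLE W hVW), Category.assoc, Subobject.ofLE_comp_ofLE, hu]
  rw [← cancel_epi π, comp_zero, ha', ← h3, Category.assoc, sqπ_condition, comp_zero]

lemma sqι_sqq : sqι U V W hUV hVW ≫ sqq U V W hUV hVW = 0 := by
  rw [← cancel_epi (sqπ V U hUV), π_sqι_assoc, π_sqq, sqπ_condition, comp_zero]

lemma sq_exact : (ShortComplex.mk _ _ (sqι_sqq U V W hUV hVW)).Exact := by
  rw [ShortComplex.exact_iff_exact_up_to_refinements]
  intro T x hx
  dsimp at x hx ⊢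
  obtain ⟨T', π, hπ, x', hx'⟩ := sq_surj W U (hUV.trans hVW) x
  have h1 : x' ≫ sqπ W V hVW = 0 := by
    rw [← π_sqq U V W hUV hVW, ← Category.assoc, ← hx', Category.assoc, hx, comp_zero]
  obtain ⟨v, hv⟩ := sq_lift _ _ _ _ h1
  refine ⟨T', π, hπ, v ≫ sqπ V U hUV, ?_⟩
  rw [Category.assoc, π_sqι, ← Category.assoc, hv, hx']

lemma sq_shortExact : (ShortComplex.mk _ _ (sqι_sqq U V W hUV hVW)).ShortExact where
  exact := sq_exact U V W hUV hVW
  mono_f := inferInstanceAs (Mono (sqι U V W hUV hVW))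
  epi_g := inferInstanceAs (Epi (sqq U V W hUV hVW))

end Chain

lemma isZero_subquot_self {X : A} (Z : Subobject X) : IsZero (subquot Z Z le_rfl) := by
  unfold subquot
  have : IsIso (Z.ofLE Z le_rfl) := by rw [Subobject.ofLE_refl]; infer_instance
  exact isZero_cokernel_of_epi _

/-- transport of subquotients along equalities -/
noncomputable def subquotCongr {X : A} {Z Z' B B' : Subobject X} (h : B ≤ Z) (h' : B' ≤ Z')
    (eZ : Z = Z') (eB : B = B') : subquot Z B h ≅ subquot Z' B' h' := by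
  subst eZ; subst eB; exact Iso.refl _

section IsoOf

variable {X Y : A} (φ : X ⟶ Y) (U V : Subobject X) (hUV : U ≤ V) (U' V' : Subobject Y)
  (hUV' : U' ≤ V')

/-- A morphism `φ : X ⟶ Y` induces an isomorphism `V/U ≅ V'/U'` provided `φ V ≤ V'`, `φ U ≤ U'`,
`V ∩ φ⁻¹ U' ≤ U` and `V' ≤ φ V + U'` (stated on generalized elements). -/
theorem subquot_iso_of
    (h1 : ∀ {T : A} (x : T ⟶ X), V.Factors x → V'.Factors (x ≫ φ))
    (h2 : ∀ {T : A} (x : T ⟶ X), U.Factors x → U'.Factors (x ≫ φ))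
    (h3 : ∀ {T : A} (x : T ⟶ X), V.Factors x → U'.Factors (x ≫ φ) → U.Factors x)
    (h4 : ∀ {T : A} (y : T ⟶ Y), V'.Factors y → ∃ (T' : A) (π : T' ⟶ T) (_ : Epi π) (x : T' ⟶ X),
      V.Factors x ∧ U'.Factors (π ≫ y - x ≫ φ)) :
    Nonempty (subquot V U hUV ≅ subquot V' U' hUV') := by
  -- the induced map on `V`
  let ψ : (V : A) ⟶ (V' : A) := V'.factorThru (V.arrow ≫ φ) (h1 _ V.factors_self)
  have hψ : ψ ≫ V'.arrow = V.arrow ≫ φ := Subobject.factorThru_arrow _ _ _
  have hU : U.ofLE V hUV ≫ ψ ≫ sqπ V' U' hUV' = 0 := by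
    have hf : U'.Factors (U.arrow ≫ φ) := h2 _ U.factors_self
    have : U.ofLE V hUV ≫ ψ = U'.factorThru _ hf ≫ U'.ofLE V' hUV' := by
      rw [← cancel_mono V'.arrow, Category.assoc, hψ, Subobject.ofLE_arrow_assoc, Category.assoc,
        Subobject.ofLE_arrow, Subobject.factorThru_arrow]
    rw [reassoc_of% this, sqπ_condition, comp_zero]
  let f : subquot V U hUV ⟶ subquot V' U' hUV' := sqDesc V U hUV (ψ ≫ sqπ V' U' hUV') hU
  have hf : sqπ V U hUV ≫ f = ψ ≫ sqπ V' U' hUV' := sqπ_desc _ _ _ _ _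
  have hmono : Mono f := by
    apply Preadditive.mono_of_cancel_zero
    intro T a ha
    obtain ⟨T', π, hπ, a', ha'⟩ := sq_surj V U hUV a
    have e1 : (a' ≫ ψ) ≫ sqπ V' U' hUV' = 0 := by
      rw [Category.assoc, ← hf, ← Category.assoc, ← ha', Category.assoc, ha, comp_zero]
    obtain ⟨u', hu'⟩ := sq_lift _ _ _ _ e1
    have e2 : U.Factors (a' ≫ V.arrow) := by
      apply h3 _ (Subobject.factors_comp_arrow _)
      have : (a' ≫ V.arrow) ≫ φ = u' ≫ U'.arrow := by
        rw [Category.assoc, ← hψ, ← Category.assoc, ← hu', Category.assoc, Subobject.ofLE_arrow]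
      rw [this]
      exact Subobject.factors_comp_arrow _
    have e3 : U.factorThru _ e2 ≫ U.ofLE V hUV = a' := by
      rw [← cancel_mono V.arrow, Category.assoc, Subobject.ofLE_arrow, Subobject.factorThru_arrow]
    rw [← cancel_epi π, comp_zero, ha', ← e3, Category.assoc, sqπ_condition, comp_zero]
  have hepi : Epi f := by
    rw [epi_iff_surjective_up_to_refinements]
    intro T b
    obtain ⟨T', π, hπ, b', hb'⟩ := sq_surj V' U' hUV' b
    obtain ⟨T'', π', hπ', x, hx, hx'⟩ := h4 (b' ≫ V'.arrow) (Subobject.factors_comp_arrow _)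
    refine ⟨T'', π' ≫ π, inferInstance, V.factorThru x hx ≫ sqπ V U hUV, ?_⟩
    rw [Category.assoc, Category.assoc, hf, hb', ← sub_eq_zero, ← Category.assoc, ← Category.assoc,
      ← Preadditive.sub_comp]
    have e1 : π' ≫ b' - V.factorThru x hx ≫ ψ = U'.factorThru _ hx' ≫ U'.ofLE V' hUV' := by
      rw [← cancel_mono V'.arrow, Category.assoc, Subobject.ofLE_arrow, Subobject.factorThru_arrow,
        Preadditive.sub_comp, Category.assoc, Category.assoc, hψ, Subobject.factorThru_arrow_assoc]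
    rw [e1, Category.assoc, sqπ_condition, comp_zero]
  have : IsIso f := isIso_of_mono_of_epi f
  exact ⟨asIso f⟩

/-- the special case `φ = 𝟙` (second isomorphism theorem). -/
theorem subquot_iso_of_le {X : A} (U V U' V' : Subobject X) (hUV : U ≤ V) (hUV' : U' ≤ V')
    (h1 : V ≤ V') (h2 : U ≤ U') (h3 : V ⊓ U' ≤ U) (h4 : V' ≤ V ⊔ U') :
    Nonempty (subquot V U hUV ≅ subquot V' U' hUV') := by
  refine subquot_iso_of (𝟙 X) U V hUV U' V' hUV' ?_ ?_ ?_ ?_
  · intro T x hx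
    rw [Category.comp_id]
    exact Subobject.factors_of_le _ h1 hx
  · intro T x hx
    rw [Category.comp_id]
    exact Subobject.factors_of_le _ h2 hx
  · intro T x hx hx'
    rw [Category.comp_id] at hx'
    exact Subobject.factors_of_le _ h3 ((Subobject.inf_factors x).2 ⟨hx, hx'⟩)
  · intro T y hy
    obtain ⟨T', π, hπ, a, b, ha, hb, hab⟩ := sup_factors _ _ _ (Subobject.factors_of_le _ h4 hy)
    refine ⟨T', π, hπ, a, ha, ?_⟩
    rw [Category.comp_id, hab, add_sub_cancel_left]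
    exact hb

end IsoOf

section Butterfly

lemma image_factors_of {X Y T : A} (φ : X ⟶ Y) (F : Subobject X) (x : T ⟶ X) (hx : F.Factors x) :
    (imageSubobject (F.arrow ≫ φ)).Factors (x ≫ φ) := by
  have : x ≫ φ = F.factorThru x hx ≫ (F.arrow ≫ φ) := by
    rw [← Category.assoc, Subobject.factorThru_arrow]
  rw [this]
  exact imageSubobject_factors_comp_self _ _

lemma image_factors_exists {X Y T : A} (φ : X ⟶ Y) (F : Subobject X) (y : T ⟶ Y)
    (h : (imageSubobject (F.arrow ≫ φ)).Factors y) :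
    ∃ (T' : A) (π : T' ⟶ T) (_ : Epi π) (x : T' ⟶ X), F.Factors x ∧ π ≫ y = x ≫ φ := by
  obtain ⟨T', π, hπ, z, hz⟩ := (imageSubobject_factors_iff _ _).1 h
  exact ⟨T', π, hπ, z ≫ F.arrow, Subobject.factors_comp_arrow _, by rw [hz, Category.assoc]⟩

variable {X Y : A} (φ : X ⟶ Y) (F0 F1 : Subobject X) (G0 G1 : Subobject Y)

/-- The "differential" isomorphism : `Z_r/Z_{r+1} ≅ B_{r+1}/B_r` in abstract form. -/
theorem butterfly_d (hF : F1 ≤ F0) (hG : G1 ≤ G0)
    (hZ : (F0 ⊓ (Subobject.pullback φ).obj G1) ⊔ F1 ≤ (F0 ⊓ (Subobject.pullback φ).obj G0) ⊔ F1)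
    (hB : (G0 ⊓ imageSubobject (F1.arrow ≫ φ)) ⊔ G1 ≤ (G0 ⊓ imageSubobject (F0.arrow ≫ φ)) ⊔ G1) :
    Nonempty (subquot ((F0 ⊓ (Subobject.pullback φ).obj G0) ⊔ F1)
        ((F0 ⊓ (Subobject.pullback φ).obj G1) ⊔ F1) hZ ≅
      subquot ((G0 ⊓ imageSubobject (F0.arrow ≫ φ)) ⊔ G1)
        ((G0 ⊓ imageSubobject (F1.arrow ≫ φ)) ⊔ G1) hB) := by
  set V₀ := F0 ⊓ (Subobject.pullback φ).obj G0 with hV₀
  set Z₁ := (F0 ⊓ (Subobject.pullback φ).obj G1) ⊔ F1 with hZ₁
  set B1 := (G0 ⊓ imageSubobject (F0.arrow ≫ φ)) ⊔ G1 with hB1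
  set B0 := (G0 ⊓ imageSubobject (F1.arrow ≫ φ)) ⊔ G1 with hB0
  obtain ⟨ea⟩ := subquot_iso_of_le (V₀ ⊓ Z₁) V₀ Z₁ (V₀ ⊔ F1) inf_le_left hZ le_sup_left
    inf_le_right le_rfl (sup_le le_sup_left (le_sup_right.trans le_sup_right))
  suffices heb : Nonempty (subquot V₀ (V₀ ⊓ Z₁) inf_le_left ≅ subquot B1 B0 hB) by
    obtain ⟨eb⟩ := heb
    exact ⟨ea.symm ≪≫ eb⟩
  refine subquot_iso_of φ (V₀ ⊓ Z₁) V₀ inf_le_left B0 B1 hB ?_ ?_ ?_ ?_
  · -- h1
    intro T x hx
    obtain ⟨hx0, hxG⟩ := (Subobject.inf_factors x).1 hx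
    rw [pullback_factors_iff] at hxG
    exact Subobject.sup_factors_of_factors_left
      ((Subobject.inf_factors _).2 ⟨hxG, image_factors_of φ F0 x hx0⟩)
  · -- h2
    intro T x hx
    obtain ⟨hxV, hxZ⟩ := (Subobject.inf_factors x).1 hx
    obtain ⟨hx0, hxG⟩ := (Subobject.inf_factors x).1 hxV
    rw [pullback_factors_iff] at hxG
    obtain ⟨T', π, hπ, a, b, ha, hb, hab⟩ := sup_factors _ _ _ hxZ
    obtain ⟨ha0, haG⟩ := (Subobject.inf_factors a).1 ha
    rw [pullback_factors_iff] at haG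
    apply factors_of_epi_comp _ π
    have e1 : π ≫ x ≫ φ = b ≫ φ + a ≫ φ := by
      rw [← Category.assoc, hab, Preadditive.add_comp, add_comm]
    rw [e1]
    refine sup_factors_of _ _ _ _ ((Subobject.inf_factors _).2 ⟨?_, image_factors_of φ F1 b hb⟩) haG
    have e2 : b ≫ φ = π ≫ x ≫ φ - a ≫ φ := by rw [e1]; abel
    rw [e2]
    exact factors_sub _ _ _ (factors_precomp _ _ _ hxG) (Subobject.factors_of_le _ hG haG)
  · -- h3
    intro T x hx hx'
    obtain ⟨hx0, hxG⟩ := (Subobject.inf_factors x).1 hx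
    rw [pullback_factors_iff] at hxG
    refine (Subobject.inf_factors x).2 ⟨hx, ?_⟩
    obtain ⟨T', π, hπ, c, e, hc, he, hce⟩ := sup_factors _ _ _ hx'
    obtain ⟨hc0, hcI⟩ := (Subobject.inf_factors c).1 hc
    obtain ⟨T'', π', hπ', b, hb, hbc⟩ := image_factors_exists φ F1 c hcI
    apply factors_of_epi_comp _ (π' ≫ π)
    have e1 : (π' ≫ π) ≫ x = ((π' ≫ π) ≫ x - b) + b := by abel
    rw [e1]
    refine sup_factors_of _ _ _ _ ((Subobject.inf_factors _).2 ⟨?_, ?_⟩) hb
    · exact factors_sub _ _ _ (factors_precomp _ _ _ hx0) (Subobject.factors_of_le _ hF hb)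
    · rw [pullback_factors_iff]
      have e2 : ((π' ≫ π) ≫ x - b) ≫ φ = π' ≫ e := by
        rw [Preadditive.sub_comp, Category.assoc, Category.assoc, hce, Preadditive.comp_add, hbc,
          add_sub_cancel_left]
      rw [e2]
      exact factors_precomp _ _ _ he
  · -- h4
    intro T y hy
    obtain ⟨T', π, hπ, c, e, hc, he, hce⟩ := sup_factors _ _ _ hy
    obtain ⟨hc0, hcI⟩ := (Subobject.inf_factors c).1 hc
    obtain ⟨T'', π', hπ', a, ha, hac⟩ := image_factors_exists φ F0 c hcI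
    refine ⟨T'', π' ≫ π, inferInstance, a, (Subobject.inf_factors _).2 ⟨ha, ?_⟩, ?_⟩
    · rw [pullback_factors_iff, ← hac]
      exact factors_precomp _ _ _ hc0
    · have e2 : (π' ≫ π) ≫ y - a ≫ φ = π' ≫ e := by
        rw [Category.assoc, hce, Preadditive.comp_add, hac, add_sub_cancel_left]
      rw [e2]
      exact Subobject.sup_factors_of_factors_right (factors_precomp _ _ _ he)

end Butterfly

section Gr

variable {X : A} (F0 F1 Z I : Subobject X)

/-- `(F0∩Z + I)/(F1∩Z + I) ≅ (F0∩Z + F1)/(F0∩I + F1)` : the graded piece of the filtration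
induced on `Z/I`. -/
theorem gr_iso (hF : F1 ≤ F0) (hIZ : I ≤ Z) (h : (F1 ⊓ Z) ⊔ I ≤ (F0 ⊓ Z) ⊔ I) (h' : (F0 ⊓ I) ⊔ F1 ≤ (F0 ⊓ Z) ⊔ F1) :
    Nonempty (subquot ((F0 ⊓ Z) ⊔ I) ((F1 ⊓ Z) ⊔ I) h ≅
      subquot ((F0 ⊓ Z) ⊔ F1) ((F0 ⊓ I) ⊔ F1) h') := by
  have hU : (F1 ⊓ Z) ⊔ (F0 ⊓ I) ≤ F0 ⊓ Z :=
    sup_le (inf_le_inf_right _ hF) (inf_le_inf_left _ hIZ)
  obtain ⟨ea⟩ := subquot_iso_of_le ((F1 ⊓ Z) ⊔ (F0 ⊓ I)) (F0 ⊓ Z) ((F1 ⊓ Z) ⊔ I) ((F0 ⊓ Z) ⊔ I)
    hU h le_sup_left (sup_le le_sup_left (inf_le_right.trans le_sup_right)) (by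
      rw [inf_comm, sup_inf_assoc_of_le I (inf_le_inf_right Z hF)]
      refine sup_le_sup_left ?_ _
      exact le_inf (inf_le_right.trans inf_le_left) inf_le_left)
    (sup_le le_sup_left (le_sup_right.trans le_sup_right))
  obtain ⟨eb⟩ := subquot_iso_of_le ((F1 ⊓ Z) ⊔ (F0 ⊓ I)) (F0 ⊓ Z) ((F0 ⊓ I) ⊔ F1) ((F0 ⊓ Z) ⊔ F1)
    hU h' le_sup_left (sup_le (inf_le_left.trans le_sup_right) le_sup_left) (by
      rw [inf_comm, sup_inf_assoc_of_le F1 (inf_le_inf_left F0 hIZ), sup_comm]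
      refine sup_le_sup_right ?_ _
      exact le_inf inf_le_left (inf_le_right.trans inf_le_right))
    (sup_le le_sup_left (le_sup_right.trans le_sup_right))
  exact ⟨ea.symm ≪≫ eb⟩

end Gr

section Homology

variable (S : ShortComplex A)

lemma image_le_kernel : imageSubobject S.f ≤ kernelSubobject S.g :=
  le_kernelSubobject _ _ (imageSubobject_arrow_comp_eq_zero S.zero)

/-- homology of a short complex as the subquotient `Ker g / Im f` of the middle object -/
theorem homology_iso_subquot :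
    Nonempty (subquot (kernelSubobject S.g) (imageSubobject S.f) (image_le_kernel S) ≅
      S.homology) := by
  set Zs := kernelSubobject S.g with hZs
  set Is := imageSubobject S.f with hIs
  have hle : Is ≤ Zs := image_le_kernel S
  have hZg : Zs.arrow ≫ S.g = 0 := kernelSubobject_arrow_comp S.g
  let θ : (Zs : A) ⟶ S.homology := S.liftCycles Zs.arrow hZg ≫ S.homologyπ
  have hθ' : ∀ {T : A} (a : T ⟶ (Zs : A)), a ≫ θ =
      S.liftCycles (a ≫ Zs.arrow) (by rw [Category.assoc, hZg, comp_zero]) ≫ S.homologyπ := by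
    intro T a
    rw [← S.comp_liftCycles_assoc]
  have hθ : Is.ofLE Zs hle ≫ θ = 0 := by
    rw [hθ', S.liftCycles_comp_homologyπ_eq_zero_iff_up_to_refinements]
    obtain ⟨T', π, hπ, y, hy⟩ := (imageSubobject_factors_iff S.f Is.arrow).1 Is.factors_self
    exact ⟨T', π, hπ, y, by rw [Subobject.ofLE_arrow, hy]⟩
  let f : subquot Zs Is hle ⟶ S.homology := sqDesc Zs Is hle θ hθ
  have hf : sqπ Zs Is hle ≫ f = θ := sqπ_desc _ _ _ _ _
  have hmono : Mono f := by
    apply Preadditive.mono_of_cancel_zero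
    intro T a ha
    obtain ⟨T', π, hπ, a', ha'⟩ := sq_surj Zs Is hle a
    have e1 : a' ≫ θ = 0 := by
      rw [← hf, ← Category.assoc, ← ha', Category.assoc, ha, comp_zero]
    rw [hθ', S.liftCycles_comp_homologyπ_eq_zero_iff_up_to_refinements] at e1
    obtain ⟨T'', π', hπ', x₁, hx₁⟩ := e1
    have e2 : Is.Factors (π' ≫ a' ≫ Zs.arrow) := by
      rw [hx₁]; exact imageSubobject_factors_comp_self _ _
    have e3 : Is.factorThru _ e2 ≫ Is.ofLE Zs hle = π' ≫ a' := by
      rw [← cancel_mono Zs.arrow, Category.assoc, Subobject.ofLE_arrow,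
        Subobject.factorThru_arrow, Category.assoc]
    rw [← cancel_epi π, ← cancel_epi π', comp_zero, comp_zero, ha', ← Category.assoc, ← e3,
      Category.assoc, sqπ_condition, comp_zero]
  have hepi : Epi f := by
    rw [epi_iff_surjective_up_to_refinements]
    intro T γ
    obtain ⟨T', π, hπ, z, hz, hγ⟩ := S.eq_liftCycles_homologyπ_up_to_refinements γ
    have hzf : Zs.Factors z := kernelSubobject_factors S.g z hz
    refine ⟨T', π, hπ, Zs.factorThru z hzf ≫ sqπ Zs Is hle, ?_⟩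
    rw [Category.assoc, hf, hθ', hγ]
    congr 1
    rw [← cancel_mono S.iCycles, S.liftCycles_i, S.liftCycles_i, Subobject.factorThru_arrow]
  have : IsIso f := isIso_of_mono_of_epi f
  exact ⟨asIso f⟩

end Homology

end Groth.Agent.H16.SubQuot
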