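import Mathlib
import Groth.Agent.H16.NilLift2
import Groth.Agent.H16.NilLift3
import Groth.Prelude.Def_FEt

/-!
# Gluing étale lifts along a thickening (helper16)
-/

set_option linter.style.haveILetI false
set_option linter.unnecessarySimpa false
set_option linter.unusedSectionVars false

universe u

open AlgebraicGeometry CategoryTheory Limits Opposite
open AlgebraicGeometry.Scheme AlgebraicGeometry.Scheme.AffineZariskiSite
open Groth.Agent.H16.NilLift

namespace Groth.Agent.H16.ThickFEt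

section Cat

variable {R A B C : CommRingCat.{u}}

lemma cat_lift_exists (α : R ⟶ A) (hα : α.hom.Etale) (β : R ⟶ B) (π : B ⟶ C)
    (hπs : Function.Surjective π.hom) (hπn : NilKerH π.hom) (f : A ⟶ C)
    (h : α ≫ f = β ≫ π) : ∃ l : A ⟶ B, α ≫ l = β ∧ l ≫ π = f := by
  obtain ⟨l, h1, h2⟩ := lift_hom_exists α.hom hα β.hom π.hom hπs hπn f.hom (by
    rw [← CommRingCat.hom_comp, ← CommRingCat.hom_comp, h])
  exact ⟨CommRingCat.ofHom l, CommRingCat.hom_ext h1, CommRingCat.hom_ext h2⟩

lemma cat_lift_unique (α : R ⟶ A) (hα : α.hom.Etale) (π : B ⟶ C) (hπn : NilKerH π.hom)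
    (l₁ l₂ : A ⟶ B) (h1 : α ≫ l₁ = α ≫ l₂) (h2 : l₁ ≫ π = l₂ ≫ π) : l₁ = l₂ := by
  apply CommRingCat.hom_ext
  refine lift_hom_unique α.hom hα π.hom hπn l₁.hom l₂.hom ?_ ?_
  · rw [← CommRingCat.hom_comp, ← CommRingCat.hom_comp, h1]
  · rw [← CommRingCat.hom_comp, ← CommRingCat.hom_comp, h2]

end Cat

section Sys

set_option backward.isDefEq.respectTransparency false
set_option backward.isDefEq.respectTransparency.types false

variable {U X' : Scheme.{u}} (q : U ⟶ X')

/-- A system of étale lifts of the sections of `U` over the affine opens of `X'`. -/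
structure LiftSys where
  /-- the lifts -/
  A : X'.AffineZariskiSite → CommRingCat.{u}
  /-- structure maps -/
  α : ∀ V, Γ(X', V.1) ⟶ A V
  /-- reduction maps -/
  ρ : ∀ V, A V ⟶ Γ(U, q ⁻¹ᵁ V.1)
  fac : ∀ V, α V ≫ ρ V = q.app V.1
  etale : ∀ V, (α V).hom.Etale
  surj : ∀ V, Function.Surjective (ρ V).hom
  nil : ∀ V, NilKerH (ρ V).hom

variable {q} (D : LiftSys q)

/-- restriction on `X'` -/
abbrev resX {V W : X'.AffineZariskiSite} (h : V ≤ W) : Γ(X', W.1) ⟶ Γ(X', V.1) :=
  X'.presheaf.map (homOfLE (toOpens_mono h)).op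

/-- restriction on `U` -/
abbrev resU (q : U ⟶ X') {V W : X'.AffineZariskiSite} (h : V ≤ W) :
    Γ(U, q ⁻¹ᵁ W.1) ⟶ Γ(U, q ⁻¹ᵁ V.1) :=
  U.presheaf.map (homOfLE (q.preimage_mono (toOpens_mono h))).op

lemma app_resU {V W : X'.AffineZariskiSite} (h : V ≤ W) :
    q.app W.1 ≫ resU q h = resX h ≫ q.app V.1 :=
  (q.naturality (homOfLE (toOpens_mono h)).op).symm

lemma LiftSys.exists_m {V W : X'.AffineZariskiSite} (h : V ≤ W) :
    ∃ m : D.A W ⟶ D.A V, D.α W ≫ m = resX h ≫ D.α V ∧ m ≫ D.ρ V = D.ρ W ≫ resU q h := by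
  refine cat_lift_exists (D.α W) (D.etale W) (resX h ≫ D.α V) (D.ρ V) (D.surj V) (D.nil V)
    (D.ρ W ≫ resU q h) ?_
  rw [← Category.assoc, D.fac, Category.assoc, D.fac, app_resU]

/-- the transition maps. -/
noncomputable def LiftSys.m {V W : X'.AffineZariskiSite} (h : V ≤ W) : D.A W ⟶ D.A V :=
  (D.exists_m h).choose

lemma LiftSys.α_m {V W : X'.AffineZariskiSite} (h : V ≤ W) : D.α W ≫ D.m h = resX h ≫ D.α V :=
  (D.exists_m h).choose_spec.1

lemma LiftSys.m_ρ {V W : X'.AffineZariskiSite} (h : V ≤ W) : D.m h ≫ D.ρ V = D.ρ W ≫ resU q h :=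
  (D.exists_m h).choose_spec.2

lemma LiftSys.m_unique {V W : X'.AffineZariskiSite} (h : V ≤ W) (l : D.A W ⟶ D.A V)
    (h1 : D.α W ≫ l = resX h ≫ D.α V) (h2 : l ≫ D.ρ V = D.ρ W ≫ resU q h) : l = D.m h :=
  cat_lift_unique (D.α W) (D.etale W) (D.ρ V) (D.nil V) _ _ (h1.trans (D.α_m h).symm)
    (h2.trans (D.m_ρ h).symm)

/-- the presheaf of lifts. -/
noncomputable def LiftSys.F : X'.AffineZariskiSiteᵒᵖ ⥤ CommRingCat.{u} where
  obj V := D.A V.unop
  map {W V} f := D.m f.unop.le
  map_id W := by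
    symm
    apply D.m_unique
    · simp [resX]
    · simp [resU]
  map_comp {W V T} f g := by
    symm
    apply D.m_unique
    · rw [← Category.assoc, D.α_m, Category.assoc, D.α_m, ← Category.assoc]
      congr 1
      simp only [resX, ← Functor.map_comp]
      rfl
    · rw [Category.assoc, D.m_ρ, ← Category.assoc, D.m_ρ, Category.assoc]
      congr 1
      simp only [resU, ← Functor.map_comp]
      rfl

/-- the structure map. -/
noncomputable def LiftSys.αN : (toOpensFunctor X').op ⋙ X'.presheaf ⟶ D.F where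
  app V := D.α V.unop
  naturality {W V} f := (D.α_m f.unop.le).symm

lemma LiftSys.coequifibered [IsAffineHom q] : D.αN.Coequifibered := by
  refine coequifibered_iff_forall_isLocalizationAway.mpr fun W f => ?_
  have hVW : W.basicOpen f ≤ W := W.basicOpen_le f
  -- the algebra structures
  letI algR : Algebra Γ(X', W.1) Γ(X', X'.basicOpen f) :=
    (X'.presheaf.map (homOfLE (X'.basicOpen_le f)).op).hom.toAlgebra
  letI algS : Algebra Γ(U, q ⁻¹ᵁ W.1) Γ(U, q ⁻¹ᵁ X'.basicOpen f) :=
    (U.presheaf.map (homOfLE (q.preimage_mono (X'.basicOpen_le f))).op).hom.toAlgebra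
  have locR : IsLocalization.Away f Γ(X', X'.basicOpen f) := W.2.isLocalization_basicOpen f
  have locS : IsLocalization.Away ((q.app W.1).hom f) Γ(U, q ⁻¹ᵁ X'.basicOpen f) := by
    let : Algebra Γ(U, q ⁻¹ᵁ W.1) Γ(U, U.basicOpen (q.app _ f)) :=
      (U.presheaf.map (homOfLE (U.basicOpen_le _)).op).hom.toAlgebra
    dsimp +instances [algS]
    rw! (castMode := .all) [q.preimage_basicOpen f]
    exact isLocalization_basicOpen_of_qcqs (q.isCompact_preimage W.2.isCompact)
        (q.isQuasiSeparated_preimage W.2.isQuasiSeparated) (q.app _ f)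
  let a : D.A W := (D.α W).hom f
  have hρa : (D.ρ W).hom a = (q.app W.1).hom f := by
    have := congrArg (fun g => g.hom f) (D.fac W)
    simpa using this
  haveI locS' : IsLocalization.Away ((D.ρ W).hom a) Γ(U, q ⁻¹ᵁ X'.basicOpen f) := by
    rw [hρa]; exact locS
  -- units
  have hu1 : IsUnit ((D.m hVW).hom a) := by
    have h1 : (D.m hVW).hom a = (D.α (W.basicOpen f)).hom ((resX hVW).hom f) := by
      have := congrArg (fun g => g.hom f) (D.α_m hVW)
      simpa using this
    rw [h1]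
    exact (IsLocalization.Away.algebraMap_isUnit (S := Γ(X', X'.basicOpen f)) f).map _
  have hu2 : IsUnit ((D.ρ W ≫ resU q hVW).hom a) := by
    show IsUnit ((resU q hVW).hom ((D.ρ W).hom a))
    exact IsLocalization.Away.algebraMap_isUnit (S := Γ(U, q ⁻¹ᵁ X'.basicOpen f)) _
  -- the maps out of the localization
  let φ : Localization.Away a →+* D.A (W.basicOpen f) := IsLocalization.Away.lift a hu1
  let ρA : Localization.Away a →+* Γ(U, q ⁻¹ᵁ X'.basicOpen f) := IsLocalization.Away.lift a hu2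
  have hφ : φ.comp (algebraMap _ _) = (D.m hVW).hom := IsLocalization.Away.lift_comp a hu1
  have hρA : ρA.comp (algebraMap _ _) = (D.ρ W ≫ resU q hVW).hom :=
    IsLocalization.Away.lift_comp a hu2
  obtain ⟨hρAs, hρAn⟩ := nil_localization (A' := Localization.Away a)
    (S' := Γ(U, q ⁻¹ᵁ X'.basicOpen f)) (D.ρ W).hom (D.surj W) (D.nil W) a ρA (by
      rw [hρA]; rfl)
  have hbij : Function.Bijective φ := by
    refine bijective_of_nil_hom (R := Γ(X', W.1))
      ((algebraMap (D.A W) (Localization.Away a)).comp (D.α W).hom) ?_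
      (resX hVW ≫ D.α (W.basicOpen f)).hom ?_ ρA hρAs hρAn (D.ρ (W.basicOpen f)).hom
      (D.nil _) φ ?_ ?_
    · exact RingHom.Etale.stableUnderComposition _ _ (D.etale W)
        (RingHom.etale_algebraMap.mpr (Algebra.Etale.of_isLocalizationAway a))
    · rw [CommRingCat.hom_comp]
      refine RingHom.Etale.stableUnderComposition _ _ ?_ (D.etale _)
      have : (algebraMap Γ(X', W.1) Γ(X', X'.basicOpen f)).Etale :=
        RingHom.etale_algebraMap.mpr (Algebra.Etale.of_isLocalizationAway f)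
      exact this
    · rw [← RingHom.comp_assoc, hφ, ← CommRingCat.hom_comp, D.α_m]
    · apply IsLocalization.ringHom_ext (Submonoid.powers a)
      rw [RingHom.comp_assoc, hφ, hρA, ← CommRingCat.hom_comp, D.m_ρ]
  letI : Algebra (D.A W) (D.A (W.basicOpen f)) := (D.m hVW).hom.toAlgebra
  let φA : Localization.Away a →ₐ[D.A W] D.A (W.basicOpen f) :=
    ⟨φ, fun x => RingHom.congr_fun hφ x⟩
  have key : IsLocalization.Away a (D.A (W.basicOpen f)) :=
    IsLocalization.isLocalization_of_algEquiv (Submonoid.powers a)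
      (AlgEquiv.ofBijective φA hbij)
  exact key

end Sys

section Glue

set_option backward.isDefEq.respectTransparency false
set_option backward.isDefEq.respectTransparency.types false

lemma finite_hom_of_nil {R A Ab : Type u} [CommRing R] [CommRing A] [CommRing Ab] (α : R →+* A)
    (hα : α.Etale) (ρ : A →+* Ab) (hρ : NilKerH ρ) (hfin : (ρ.comp α).Finite) : α.Finite := by
  algebraize [α]
  letI : Algebra R Ab := (ρ.comp α).toAlgebra
  let ρA : A →ₐ[R] Ab := ⟨ρ, fun r => rfl⟩
  haveI : Module.Finite R Ab := hfin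
  exact finite_of_nil ρA hρ

variable {U X' : Scheme.{u}} {q : U ⟶ X'} (D : LiftSys q) [IsAffineHom q]

/-- the gluing data. -/
noncomputable def LiftSys.gd : (directedCover X').RelativeGluingData :=
  relativeGluingData D.coequifibered

instance : (D.gd.functor ⋙ Scheme.forget).IsLocallyDirected :=
  Cover.RelativeGluingData.instIsLocallyDirectedI₀CompFunctorForgetOfIsThin ..

/-- the glued scheme. -/
noncomputable def LiftSys.glued : Scheme.{u} := D.gd.glued

/-- the structure morphism. -/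
noncomputable def LiftSys.toBase : D.glued ⟶ X' := D.gd.toBase

lemma LiftSys.toBase_of (P : MorphismProperty Scheme.{u}) [IsZariskiLocalAtTarget P]
    (h : ∀ V, P (Spec.map (D.α V))) : P D.toBase := by
  refine (IsZariskiLocalAtTarget.iff_of_openCover (P := P) (directedCover X')).mpr fun V => ?_
  have sq := (D.gd.isPullback_natTrans_ι_toBase V).flip
  have h1 : sq.isoPullback.hom ≫ pullback.snd D.gd.toBase ((directedCover X').f V) =
      D.gd.natTrans.app V := sq.isoPullback_hom_snd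
  rw [← MorphismProperty.cancel_left_of_respectsIso P sq.isoPullback.hom]
  show P (sq.isoPullback.hom ≫ pullback.snd D.gd.toBase ((directedCover X').f V))
  rw [h1]
  show P (Spec.map (D.α V) ≫ V.2.isoSpec.inv)
  rw [MorphismProperty.cancel_right_of_respectsIso P]
  exact h V

instance LiftSys.etale_toBase : Etale D.toBase :=
  D.toBase_of @Etale fun V => HasRingHomProperty.Spec_iff.mpr (D.etale V)

lemma LiftSys.isFinite_toBase [IsFinite q] : IsFinite D.toBase :=
  D.toBase_of @IsFinite fun V => (IsFinite.SpecMap_iff _).mpr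
    (finite_hom_of_nil (D.α V).hom (D.etale V) (D.ρ V).hom (D.nil V) (by
      rw [← CommRingCat.hom_comp, D.fac]
      exact q.finite_app V.1 V.2))

end Glue

section J

set_option backward.isDefEq.respectTransparency false
set_option backward.isDefEq.respectTransparency.types false
set_option backward.defeqAttrib.useBackward true

variable {U X' : Scheme.{u}} {q : U ⟶ X'} (D : LiftSys q) [IsAffineHom q]

/-- the lifted closed immersion. -/
noncomputable def LiftSys.j : U ⟶ D.glued :=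
  Scheme.OpenCover.glueMorphismsOfLocallyDirected
    ((directedCover X').pullback₁ q)
    (fun V ↦ (pullbackRestrictIsoRestrict q _).hom ≫
      (q ⁻¹ᵁ V.1).toSpecΓ ≫ Spec.map (D.ρ V) ≫ D.gd.cover.f V) fun {V W : X'.AffineZariskiSite} i ↦ by
  have : (pullbackRestrictIsoRestrict q V.1).inv ≫
      Cover.trans ((directedCover X').pullback₁ q) i ≫
      (pullbackRestrictIsoRestrict q W.1).hom = U.homOfLE
        (q.preimage_mono (toOpens_mono i.1.1)) := by
    rw [← cancel_mono (Scheme.Opens.ι _)]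
    simp +instances [Cover.trans, Cover.locallyDirectedPullbackCover]
  rw [← Iso.inv_comp_eq, reassoc_of% this, ← Scheme.Opens.toSpecΓ_SpecMap_presheaf_map_assoc,
    ← Spec.map_comp_assoc]
  dsimp
  rw [← colimit.w D.gd.functor i]
  dsimp [LiftSys.gd, relativeGluingData]
  rw [← Spec.map_comp_assoc]
  have hm : D.F.map i.op ≫ D.ρ V = D.ρ W ≫ resU q (i.1.1 : V ≤ W) := D.m_ρ (i.1.1 : V ≤ W)
  rw [hm]

@[reassoc]
lemma LiftSys.ι_j (V : X'.AffineZariskiSite) :
    (q ⁻¹ᵁ V.1).ι ≫ D.j = (q ⁻¹ᵁ V.1).toSpecΓ ≫ Spec.map (D.ρ V) ≫ D.gd.cover.f V := by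
  rw [← cancel_epi (pullbackRestrictIsoRestrict q V.1).hom, ← Category.assoc]
  trans ((directedCover X').pullback₁ q).f V ≫ D.j
  · congr 1; simp
  delta LiftSys.j
  generalize_proofs
  rename_i H
  exact Scheme.OpenCover.map_glueMorphismsOfLocallyDirected _ _ H _

lemma LiftSys.cover_f_toBase (V : X'.AffineZariskiSite) :
    D.gd.cover.f V ≫ D.toBase = Spec.map (D.α V) ≫ V.2.fromSpec := by
  have := D.gd.ι_toBase V
  rw [LiftSys.toBase]
  refine this.trans ?_
  show (Spec.map (D.α V) ≫ V.2.isoSpec.inv) ≫ V.1.ι = _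
  rw [Category.assoc, IsAffineOpen.isoSpec_inv_ι]

lemma LiftSys.toBase_preimage (V : X'.AffineZariskiSite) :
    D.toBase ⁻¹ᵁ V.1 = (D.gd.cover.f V).opensRange := by
  simpa using! D.gd.toBase_preimage_eq_opensRange_ι V

@[reassoc (attr := simp)]
lemma LiftSys.j_toBase : D.j ≫ D.toBase = q := by
  refine Scheme.Cover.hom_ext (U.openCoverOfIsOpenCover _
    (.comap (iSup_affineOpens_eq_top X') q.base.1)) _ _ fun V ↦ ?_
  refine (D.ι_j_assoc ⟨V.1, V.2⟩ _).trans ?_
  rw [D.cover_f_toBase, ← Spec.map_comp_assoc, D.fac]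
  change (q ⁻¹ᵁ V.1).toSpecΓ ≫ Spec.map (q.app _) ≫ V.2.fromSpec = (q ⁻¹ᵁ V.1).ι ≫ _
  simp

lemma LiftSys.j_of (P : MorphismProperty Scheme.{u}) [IsZariskiLocalAtTarget P]
    (h : ∀ V, P (Spec.map (D.ρ V))) : P D.j := by
  refine (IsZariskiLocalAtTarget.iff_of_openCover (P := P) D.gd.cover).mpr fun V ↦ ?_
  let e := IsOpenImmersion.isoOfRangeEq (pullback.fst D.j (D.gd.cover.f V)) (q ⁻¹ᵁ V.1).ι
    (by
      rw [Scheme.Pullback.range_fst, Scheme.Opens.range_ι]
      have h1 := congrArg (fun O : D.glued.Opens => D.j ⁻¹ᵁ O) (D.toBase_preimage V)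
      simp only [← Scheme.Hom.comp_preimage, D.j_toBase] at h1
      exact congrArg (fun O : U.Opens => (O : Set U)) h1.symm)
  rw [← MorphismProperty.cancel_left_of_respectsIso P (e ≪≫ (V.2.preimage q).isoSpec).inv]
  convert_to! P (Spec.map (D.ρ V))
  · rw [← cancel_mono (D.gd.cover.f V)]
    simp only [Iso.trans_inv, Category.assoc]
    rw [← cancel_epi (V.2.preimage q).isoSpec.hom, Iso.hom_inv_id_assoc]
    have : e.inv ≫ pullback.snd D.j (D.gd.cover.f V) ≫ D.gd.cover.f V =
        (q ⁻¹ᵁ V.1).ι ≫ D.j := by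
      rw [← pullback.condition, ← Category.assoc]
      congr 1
      exact IsOpenImmersion.isoOfRangeEq_inv_fac _ _ _
    refine this.trans ?_
    rw [D.ι_j, IsAffineOpen.isoSpec_hom]
  exact h V

end J

section Final

set_option backward.isDefEq.respectTransparency false
set_option backward.isDefEq.respectTransparency.types false

lemma spec_surjective_of_nil {A S : CommRingCat.{u}} (ρ : A ⟶ S)
    (hs : Function.Surjective ρ.hom) (hn : NilKerH ρ.hom) : Surjective (Spec.map ρ) := by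
  refine ⟨fun x => ?_⟩
  have hx : x ∈ Set.range (PrimeSpectrum.comap ρ.hom) := by
    rw [_root_.range_comap_of_surjective _ _ hs, PrimeSpectrum.mem_zeroLocus]
    intro a ha
    obtain ⟨n, hn'⟩ := hn a ha
    exact x.isPrime.mem_of_pow_mem n (hn' ▸ x.asIdeal.zero_mem)
  obtain ⟨y, hy⟩ := hx
  exact ⟨y, hy⟩

variable {X X' : Scheme.{u}} (i : X ⟶ X')

lemma thick_nil [Surjective i] (V : X'.Opens) (hV : IsAffineOpen V) (r : Γ(X', V))
    (hr : (i.app V).hom r = 0) : IsNilpotent r := by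
  rw [Scheme.isNilpotent_iff_basicOpen_eq_bot_of_isCompact hV.isCompact, eq_bot_iff]
  intro x hx
  obtain ⟨y, rfl⟩ := i.surjective x
  have h1 : y ∈ i ⁻¹ᵁ X'.basicOpen r := hx
  rw [Scheme.preimage_basicOpen] at h1
  have h2 : X.basicOpen ((i.app V).hom r) = ⊥ := by rw [hr]; exact Scheme.basicOpen_zero _ _
  rw [show X.basicOpen ((ConcreteCategory.hom (i.app V)) r) = X.basicOpen ((i.app V).hom r)
    from rfl, h2] at h1
  exact h1

theorem essSurj [IsClosedImmersion i] [Surjective i] : (FEt.restrict i).EssSurj := by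
  refine ⟨fun P => ?_⟩
  haveI hPf : IsFinite P.hom := P.prop.1
  haveI hPe : Etale P.hom := P.prop.2
  let q : P.left ⟶ X' := P.hom ≫ i
  haveI : IsFinite q := inferInstance
  haveI : IsAffineHom q := inferInstance
  have hL : ∀ V : X'.AffineZariskiSite, ∃ (A : CommRingCat.{u}) (α : Γ(X', V.1) ⟶ A)
      (ρ : A ⟶ Γ(P.left, q ⁻¹ᵁ V.1)), α ≫ ρ = q.app V.1 ∧ α.hom.Etale ∧
      Function.Surjective ρ.hom ∧ NilKerH ρ.hom := by
    intro V
    letI : Algebra Γ(X', V.1) Γ(X, i ⁻¹ᵁ V.1) := (i.app V.1).hom.toAlgebra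
    letI : Algebra Γ(X, i ⁻¹ᵁ V.1) Γ(P.left, q ⁻¹ᵁ V.1) := (P.hom.app (i ⁻¹ᵁ V.1)).hom.toAlgebra
    letI : Algebra Γ(X', V.1) Γ(P.left, q ⁻¹ᵁ V.1) := (q.app V.1).hom.toAlgebra
    haveI : IsScalarTower Γ(X', V.1) Γ(X, i ⁻¹ᵁ V.1) Γ(P.left, q ⁻¹ᵁ V.1) :=
      IsScalarTower.of_algebraMap_eq' (by
        simp only [RingHom.algebraMap_toAlgebra, q, ← CommRingCat.hom_comp]
        rfl)
    haveI : Algebra.Etale Γ(X, i ⁻¹ᵁ V.1) Γ(P.left, q ⁻¹ᵁ V.1) := by
      have h := HasRingHomProperty.appLE (P := @Etale) P.hom inferInstance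
        ⟨i ⁻¹ᵁ V.1, V.2.preimage i⟩ ⟨P.hom ⁻¹ᵁ (i ⁻¹ᵁ V.1), (V.2.preimage i).preimage P.hom⟩ le_rfl
      rw [← Scheme.Hom.app_eq_appLE] at h
      exact h
    obtain ⟨L⟩ := exists_lift (R := Γ(X', V.1)) (Rb := Γ(X, i ⁻¹ᵁ V.1))
      (Sb := Γ(P.left, q ⁻¹ᵁ V.1)) (i.app_surjective V.1 V.2) (thick_nil i V.1 V.2)
    refine ⟨CommRingCat.of L.A, CommRingCat.ofHom (algebraMap _ L.A),
      CommRingCat.ofHom L.ρ.toRingHom, ?_, ?_, L.surj, L.nil⟩
    · ext r
      exact L.ρ.commutes r
    · exact RingHom.etale_algebraMap.mpr L.etale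
  choose A α ρ hfac het hsurj hnil using hL
  let D : LiftSys q := ⟨A, α, ρ, hfac, het, hsurj, hnil⟩
  have hfin : IsFinite D.toBase := D.isFinite_toBase
  haveI hetb : Etale D.toBase := D.etale_toBase
  let P' : FEt.Cat X' := MorphismProperty.Over.mk ⊤ D.toBase ⟨hfin, hetb⟩
  haveI hjc : IsClosedImmersion D.j := D.j_of @IsClosedImmersion fun V =>
    IsClosedImmersion.spec_of_surjective _ (D.surj V)
  haveI hjs : Surjective D.j := D.j_of @Surjective fun V =>
    spec_surjective_of_nil _ (D.surj V) (D.nil V)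
  let θ : P.left ⟶ pullback D.toBase i := pullback.lift D.j P.hom D.j_toBase
  haveI : Etale θ := MorphismProperty.of_postcomp (W := @Etale) (W' := @Etale) θ
    (pullback.snd D.toBase i) inferInstance (by rw [pullback.lift_snd]; infer_instance)
  haveI : Mono θ := mono_of_mono_fac (pullback.lift_fst _ _ _)
  haveI : IsOpenImmersion θ := IsOpenImmersion.of_flat_of_mono θ
  haveI : Surjective θ := ⟨fun x => by
    obtain ⟨u, hu⟩ := hjs.surj (pullback.fst D.toBase i x)
    refine ⟨u, ?_⟩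
    apply (pullback.fst D.toBase i).isClosedEmbedding.injective
    rw [← Scheme.Hom.comp_apply, pullback.lift_fst, hu]⟩
  haveI : IsIso θ := (isIso_iff_isOpenImmersion_and_surjective θ).mpr ⟨inferInstance, inferInstance⟩
  refine ⟨P', ⟨MorphismProperty.Over.isoMk (asIso θ).symm ?_⟩⟩
  show inv θ ≫ P.hom = pullback.snd D.toBase i
  rw [IsIso.inv_comp_eq, pullback.lift_snd]

end Final

end Groth.Agent.H16.ThickFEt
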