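import Mathlib
import Groth.Agent.H54.IntegralDim

/-!
# Bounding the number of points of a finite type algebra of dimension `≤ r` in finite fields
-/

set_option autoImplicit false
set_option linter.style.haveILetI false
universe u

namespace Groth.Agent.H16.ZetaCount

/-- fibre bound: if `R` is generated by `N` elements as a module over `P`, there are at most `N`
`k`-algebra homs `R → L` (L a field) with given restriction to `P`. -/
lemma card_fiber_le {k P R L : Type*} [Field k] [CommRing P] [CommRing R] [Field L] [Algebra k P]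
    [Algebra k R] [Algebra k L] (g : P →ₐ[k] R) (N : ℕ) (a : Fin N → R)
    (ha : ∀ x : R, ∃ p : Fin N → P, x = ∑ j, g (p j) * a j) (ρ : P →ₐ[k] L) :
    Finite {ψ : R →ₐ[k] L // ψ.comp g = ρ} ∧ Nat.card {ψ : R →ₐ[k] L // ψ.comp g = ρ} ≤ N := by
  classical
  set S := {ψ : R →ₐ[k] L // ψ.comp g = ρ}
  have LI : LinearIndependent L (fun ψ : S => ((ψ.1 : R →* L) : R → L)) :=
    (linearIndependent_monoidHom R L).comp (fun ψ : S => (ψ.1 : R →* L)) (fun ψ ψ' h => by
      apply Subtype.ext
      ext x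
      exact DFunLike.congr_fun h x)
  have LI2 : LinearIndependent L (fun ψ : S => (fun j => ψ.1 (a j) : Fin N → L)) := by
    rw [linearIndependent_iff'] at LI ⊢
    intro s c hc ψ hψ
    refine LI s c ?_ ψ hψ
    funext x
    obtain ⟨p, rfl⟩ := ha x
    simp only [Finset.sum_apply, Pi.smul_apply, smul_eq_mul, Pi.zero_apply]
    have key : ∀ ψ : S, (ψ.1 : R → L) (∑ j, g (p j) * a j) = ∑ j, ρ (p j) * ψ.1 (a j) := by
      intro ψ
      rw [map_sum]
      refine Finset.sum_congr rfl fun j _ => ?_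
      rw [map_mul]
      congr 1
      exact DFunLike.congr_fun ψ.2 (p j)
    have hc' : ∀ j, ∑ ψ ∈ s, c ψ * ψ.1 (a j) = 0 := by
      intro j
      have := congrFun hc j
      simpa using this
    calc ∑ ψ ∈ s, c ψ * ((ψ.1 : R →* L) : R → L) (∑ j, g (p j) * a j)
        = ∑ ψ ∈ s, c ψ * ∑ j, ρ (p j) * ψ.1 (a j) := by
          refine Finset.sum_congr rfl fun ψ _ => ?_
          rw [← key ψ]; rfl
      _ = ∑ j, ρ (p j) * ∑ ψ ∈ s, c ψ * ψ.1 (a j) := by
          simp_rw [Finset.mul_sum]
          rw [Finset.sum_comm]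
          refine Finset.sum_congr rfl fun j _ => Finset.sum_congr rfl fun ψ _ => by ring
      _ = 0 := by simp [hc']
  haveI : Finite S := LI2.finite_of_isNoetherian
  refine ⟨inferInstance, ?_⟩
  letI := Fintype.ofFinite S
  have := LI2.fintype_card_le_finrank
  rw [Nat.card_eq_fintype_card]
  simpa using this

lemma exists_bound (k : Type u) [Field k] (R : Type u) [CommRing R] [Algebra k R]
    [Algebra.FiniteType k R] (r : ℕ) (hr : ringKrullDim R ≤ r) :
    ∃ c : ℕ, ∀ (L : Type u) [Field L] [Algebra k L] [Finite L],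
      Finite (R →ₐ[k] L) ∧ Nat.card (R →ₐ[k] L) ≤ c * Nat.card L ^ r := by
  classical
  rcases subsingleton_or_nontrivial R with h | h
  · refine ⟨0, fun L _ _ _ => ?_⟩
    haveI : IsEmpty (R →ₐ[k] L) := ⟨fun ψ => by
      have := ψ.map_one
      rw [Subsingleton.elim (1 : R) 0, map_zero] at this
      exact zero_ne_one this⟩
    exact ⟨inferInstance, by simp⟩
  · obtain ⟨s, g, ginj, gfin⟩ := exists_finite_inj_algHom_of_fg k R
    have hs : s ≤ r := by
      have h1 : ringKrullDim R = ringKrullDim (MvPolynomial (Fin s) k) :=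
        Groth.Agent.H54.ringKrullDim_eq_of_ringHom_isIntegral_of_injective g.toRingHom
          (RingHom.Finite.to_isIntegral gfin) ginj
      rw [h1, Groth.Agent.H54.ringKrullDim_mvPolynomial_field] at hr
      exact_mod_cast hr
    letI := g.toRingHom.toAlgebra
    haveI : Module.Finite (MvPolynomial (Fin s) k) R := gfin
    obtain ⟨N, a, ha⟩ := Module.Finite.exists_fin (R := MvPolynomial (Fin s) k) (M := R)
    have ha' : ∀ x : R, ∃ p : Fin N → MvPolynomial (Fin s) k, x = ∑ j, g (p j) * a j := by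
      intro x
      have hx : x ∈ Submodule.span (MvPolynomial (Fin s) k) (Set.range a) := by
        rw [ha]; trivial
      obtain ⟨c, hc⟩ := (Submodule.mem_span_range_iff_exists_fun _).mp hx
      exact ⟨c, hc.symm⟩
    refine ⟨N, fun L _ _ _ => ?_⟩
    let res : (R →ₐ[k] L) → (MvPolynomial (Fin s) k →ₐ[k] L) := fun ψ => ψ.comp g
    let ev : (MvPolynomial (Fin s) k →ₐ[k] L) → (Fin s → L) := fun ρ i => ρ (MvPolynomial.X i)
    have hev : Function.Injective ev := fun ρ ρ' h => MvPolynomial.algHom_ext fun i => congrFun h i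
    haveI : Finite (MvPolynomial (Fin s) k →ₐ[k] L) := Finite.of_injective ev hev
    have hfib : ∀ ρ, Nat.card {ψ : R →ₐ[k] L // ψ.comp g = ρ} ≤ N :=
      fun ρ => (card_fiber_le g N a ha' ρ).2
    haveI hfibfin : ∀ ρ, Finite {ψ : R →ₐ[k] L // ψ.comp g = ρ} :=
      fun ρ => (card_fiber_le g N a ha' ρ).1
    let e : (R →ₐ[k] L) ≃ Σ ρ : MvPolynomial (Fin s) k →ₐ[k] L, {ψ : R →ₐ[k] L // ψ.comp g = ρ} :=
      (Equiv.sigmaFiberEquiv res).symm
    haveI : Finite (R →ₐ[k] L) := Finite.of_equiv _ e.symm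
    refine ⟨inferInstance, ?_⟩
    letI := Fintype.ofFinite (MvPolynomial (Fin s) k →ₐ[k] L)
    rw [Nat.card_congr e, Nat.card_sigma]
    calc ∑ ρ, Nat.card {ψ : R →ₐ[k] L // ψ.comp g = ρ}
        ≤ ∑ _ρ : MvPolynomial (Fin s) k →ₐ[k] L, N := Finset.sum_le_sum fun ρ _ => hfib ρ
      _ = Nat.card (MvPolynomial (Fin s) k →ₐ[k] L) * N := by
          rw [Finset.sum_const, smul_eq_mul, Finset.card_univ, Nat.card_eq_fintype_card]
      _ ≤ Nat.card (Fin s → L) * N :=
          Nat.mul_le_mul_right _ (Nat.card_le_card_of_injective ev hev)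
      _ = Nat.card L ^ s * N := by rw [Nat.card_fun, Nat.card_fin]
      _ ≤ Nat.card L ^ r * N :=
          Nat.mul_le_mul_right _ (Nat.pow_le_pow_right Nat.card_pos hs)
      _ = N * Nat.card L ^ r := mul_comm _ _

end Groth.Agent.H16.ZetaCount
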