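import Mathlib

/-!
# Finiteness of the set of ideals containing all `a ^ N - a` in a finite type algebra over a
finite field, and scheme-level consequences (closed points of bounded residue degree).
-/

set_option autoImplicit false
set_option linter.style.haveILetI false
universe u

namespace Groth.Agent.H16.ZetaFin

open Polynomial in
lemma finite_ideals_of_pow_sub (k A : Type*) [Field k] [Finite k] [CommRing A]
    (φ : k →+* A) (hφ : φ.FiniteType) (N : ℕ) (hN : 2 ≤ N) :
    {p : Ideal A | ∀ a : A, a ^ N - a ∈ p}.Finite := by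
  classical
  letI := φ.toAlgebra
  haveI : Algebra.FiniteType k A := hφ
  let I : Ideal A := Ideal.span (Set.range fun a : A => a ^ N - a)
  haveI : Algebra.IsIntegral k (A ⧸ I) := by
    constructor
    intro b
    obtain ⟨a, rfl⟩ := Ideal.Quotient.mk_surjective b
    refine ⟨X ^ N - X, monic_X_pow_sub (by rw [degree_X]; exact_mod_cast hN), ?_⟩
    have : (Ideal.Quotient.mk I a) ^ N - Ideal.Quotient.mk I a = 0 := by
      rw [← map_pow, ← map_sub, Ideal.Quotient.eq_zero_iff_mem]
      exact Ideal.subset_span ⟨a, rfl⟩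
    simpa using this
  haveI : Algebra.FiniteType k (A ⧸ I) :=
    Algebra.FiniteType.of_surjective (Ideal.Quotient.mkₐ k I) (Ideal.Quotient.mkₐ_surjective k I)
  haveI : Module.Finite k (A ⧸ I) := Algebra.IsIntegral.finite
  haveI : Finite (A ⧸ I) := Module.finite_of_finite k
  haveI : Finite (Ideal (A ⧸ I)) := Finite.of_injective (fun J : Ideal (A ⧸ I) => (J : Set (A ⧸ I)))
    SetLike.coe_injective
  refine Set.Finite.subset (Set.finite_range (Ideal.comap (Ideal.Quotient.mk I))) ?_
  intro p hp
  refine ⟨Ideal.map (Ideal.Quotient.mk I) p, ?_⟩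
  rw [Ideal.comap_map_of_surjective _ Ideal.Quotient.mk_surjective]
  have : Ideal.comap (Ideal.Quotient.mk I) ⊥ = I := by
    rw [← RingHom.ker_eq_comap_bot, Ideal.mk_ker]
  rw [this]
  refine sup_eq_left.mpr ?_
  rw [Ideal.span_le]
  rintro _ ⟨a, rfl⟩
  exact hp a

end Groth.Agent.H16.ZetaFin
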