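import Groth.Agent.H16.ZetaFin
import Groth.Agent.H65.ExpSubst
import Groth.Prelude.Def_W4c1zetahwZeta
set_option autoImplicit false
set_option linter.style.haveILetI false
universe u
open AlgebraicGeometry CategoryTheory

namespace Groth.Agent.H16.ZetaFin
section
set_option backward.isDefEq.respectTransparency false
set_option backward.isDefEq.respectTransparency.types false
variable {k : Type u} [Field k] [Finite k]

omit [Finite k] in
lemma bij_residueField_spec (y : Spec (CommRingCat.of k)) :
    ∃ ψ : k →+* (Spec (CommRingCat.of k)).residueField y, Function.Bijective ψ := by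
  haveI : y.asIdeal.IsMaximal := Ideal.IsPrime.isMaximal' (R := k) (I := y.asIdeal) y.isPrime
  refine ⟨(Scheme.Spec.residueFieldIso (CommRingCat.of k) y).inv.hom.comp
    (algebraMap k y.asIdeal.ResidueField), RingHom.injective _, ?_⟩
  rw [RingHom.coe_comp]
  refine Function.Surjective.comp ?_ (Ideal.algebraMap_residueField_surjective y.asIdeal)
  exact (ConcreteCategory.bijective_of_isIso (Scheme.Spec.residueFieldIso (CommRingCat.of k) y).inv).2

lemma card_residueField {X : Scheme.{u}} (f : X ⟶ Spec (CommRingCat.of k)) (x : X) (e : ℕ)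
    (he : 0 < e) (hx : EGA4loc.residueDegree f x = e) :
    Finite (X.residueField x) ∧ Nat.card (X.residueField x) = (Nat.card k) ^ e := by
  obtain ⟨ψ, hψ⟩ := bij_residueField_spec (f.base x)
  letI alg : Algebra ((Spec (CommRingCat.of k)).residueField (f.base x)) (X.residueField x) :=
    (f.residueFieldMap x).hom.toAlgebra
  have hfin : Module.finrank ((Spec (CommRingCat.of k)).residueField (f.base x))
      (X.residueField x) = e := hx
  haveI : Module.Finite ((Spec (CommRingCat.of k)).residueField (f.base x))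
      (X.residueField x) := Module.finite_of_finrank_pos (by rw [hfin]; exact he)
  haveI : Finite ((Spec (CommRingCat.of k)).residueField (f.base x)) :=
    Finite.of_surjective ψ hψ.2
  haveI : Finite (X.residueField x) :=
    Module.finite_of_finite ((Spec (CommRingCat.of k)).residueField (f.base x))
  refine ⟨inferInstance, ?_⟩
  rw [Module.natCard_eq_pow_finrank (K := (Spec (CommRingCat.of k)).residueField (f.base x)),
    hfin, ← Nat.card_eq_of_bijective ψ hψ]

omit [Finite k] in
lemma ker_eval_inj {X : Scheme.{u}} {U : X.Opens} (hU : IsAffineOpen U) {x x' : X} (hx : x ∈ U)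
    (hx' : x' ∈ U)
    (h : RingHom.ker (X.evaluation U x hx).hom = RingHom.ker (X.evaluation U x' hx').hom) :
    x = x' := by
  have key : ∀ a : Γ(X, U), x ∈ X.basicOpen a ↔ x' ∈ X.basicOpen a := by
    intro a
    rw [← Scheme.evaluation_ne_zero_iff_mem_basicOpen X x hx a,
      ← Scheme.evaluation_ne_zero_iff_mem_basicOpen X x' hx' a]
    have := congrArg (a ∈ ·) h
    simp only [RingHom.mem_ker] at this
    exact not_congr (iff_of_eq this)
  refine Inseparable.eq ?_
  rw [inseparable_iff_forall_isOpen]
  intro s hs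
  constructor
  · intro hxs
    obtain ⟨a, ha1, ha2⟩ := hU.exists_basicOpen_le (V := ⟨s, hs⟩) ⟨x, hxs⟩ hx
    exact ha1 ((key a).mp ha2)
  · intro hxs
    obtain ⟨a, ha1, ha2⟩ := hU.exists_basicOpen_le (V := ⟨s, hs⟩) ⟨x', hxs⟩ hx'
    exact ha1 ((key a).mpr ha2)

lemma finite_deg {X : Scheme.{u}} (f : X ⟶ Spec (CommRingCat.of k)) [LocallyOfFiniteType f]
    [QuasiCompact f] (e : ℕ) (he : 0 < e) :
    {x : X | EGA4loc.residueDegree f x = e}.Finite := by
  classical
  haveI : CompactSpace X := QuasiCompact.compactSpace_of_compactSpace f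
  set N := (Nat.card k) ^ e with hNdef
  have hN : 2 ≤ N := by
    have h1 : 2 ≤ Nat.card k := Finite.one_lt_card
    exact h1.trans (Nat.le_self_pow he.ne' _)
  have hU : ∀ U : X.Opens, IsAffineOpen U →
      {x : X | x ∈ U ∧ EGA4loc.residueDegree f x = e}.Finite := by
    intro U hU
    let φ : k →+* Γ(X, U) :=
      (f.appLE ⊤ U (by simp)).hom.comp (Scheme.ΓSpecIso (CommRingCat.of k)).inv.hom
    have hφ : φ.FiniteType :=
      (Scheme.Hom.finiteType_appLE f (isAffineOpen_top _) hU _).comp
        (RingHom.FiniteType.of_surjective _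
          (ConcreteCategory.bijective_of_isIso (Scheme.ΓSpecIso (CommRingCat.of k)).inv).2)
    have F := finite_ideals_of_pow_sub k Γ(X, U) φ hφ N hN
    let K : X → Ideal Γ(X, U) := fun x =>
      if hx : x ∈ U then RingHom.ker (X.evaluation U x hx).hom else ⊥
    refine Set.Finite.of_finite_image (f := K) (F.subset ?_) ?_
    · rintro _ ⟨x, ⟨hxU, hxe⟩, rfl⟩
      simp only [K, dif_pos hxU]
      intro a
      rw [RingHom.mem_ker, map_sub, map_pow]
      obtain ⟨hfin, hcard⟩ := card_residueField f x e he hxe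
      haveI := hfin
      letI := Fintype.ofFinite (X.residueField x)
      have := FiniteField.pow_card ((X.evaluation U x hxU).hom a)
      rw [← Nat.card_eq_fintype_card, hcard] at this
      rw [this, sub_self]
    · rintro x ⟨hxU, _⟩ x' ⟨hxU', _⟩ h
      simp only [K, dif_pos hxU, dif_pos hxU'] at h
      exact ker_eval_inj hU hxU hxU' h
  obtain ⟨t, ht⟩ := isCompact_univ.elim_finite_subcover
    (fun U : X.affineOpens => ((U : X.Opens) : Set X)) (fun U => U.1.isOpen)
    (fun x _ => by
      obtain ⟨_, ⟨U, hU', rfl⟩, hxU, -⟩ :=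
        X.isBasis_affineOpens.exists_subset_of_mem_open (Set.mem_univ x) isOpen_univ
      exact Set.mem_iUnion.mpr ⟨⟨U, hU'⟩, hxU⟩)
  refine Set.Finite.subset (Set.Finite.biUnion t.finite_toSet (fun U _ => hU U.1 U.2)) ?_
  intro x hx
  obtain ⟨U, hUt, hxU⟩ := Set.mem_iUnion₂.mp (ht (Set.mem_univ x))
  exact Set.mem_iUnion₂.mpr ⟨U, hUt, hxU, hx⟩

omit [Finite k] in
/-- immersions (more generally morphisms surjective on stalks) induce bijections on residue
fields. -/
lemma residueFieldMap_bijective {X Y : Scheme.{u}} (g : Y ⟶ X) [IsPreimmersion g] (y : Y) :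
    Function.Bijective (g.residueFieldMap y).hom := by
  refine ⟨RingHom.injective _, ?_⟩
  have h1 : Function.Surjective ((X.residue (g.base y)) ≫ g.residueFieldMap y).hom := by
    rw [Scheme.residue_residueFieldMap]
    rw [CommRingCat.hom_comp, RingHom.coe_comp]
    exact (Y.residue_surjective y).comp (g.stalkMap_surjective y)
  rw [CommRingCat.hom_comp, RingHom.coe_comp] at h1
  exact Function.Surjective.of_comp h1

omit [Finite k] in
lemma residueDegree_comp {X Y S : Scheme.{u}} (g : Y ⟶ X) (f : X ⟶ S) (y : Y)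
    (hb : Function.Bijective (g.residueFieldMap y).hom) :
    EGA4loc.residueDegree (g ≫ f) y = EGA4loc.residueDegree f (g.base y) := by
  unfold EGA4loc.residueDegree
  letI a1 : Algebra (S.residueField (f.base (g.base y))) (X.residueField (g.base y)) :=
    (f.residueFieldMap (g.base y)).hom.toAlgebra
  letI a2 : Algebra (S.residueField (f.base (g.base y))) (Y.residueField y) :=
    ((g ≫ f).residueFieldMap y).hom.toAlgebra
  let e : X.residueField (g.base y) ≃ₗ[S.residueField (f.base (g.base y))] Y.residueField y :=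
    { RingEquiv.ofBijective _ hb with
      map_smul' := by
        intro c a
        change (g.residueFieldMap y).hom ((f.residueFieldMap (g.base y)).hom c * a) =
          ((g ≫ f).residueFieldMap y).hom c * (g.residueFieldMap y).hom a
        rw [map_mul, Scheme.residueFieldMap_comp]
        rfl }
  exact (LinearEquiv.finrank_eq e).symm

omit [Finite k] in
lemma isClosed_map_iff {X Y : Scheme.{u}} (f : X ⟶ Spec (CommRingCat.of k))
    [LocallyOfFiniteType f] (g : Y ⟶ X) [IsImmersion g] (y : Y) :
    IsClosed ({g.base y} : Set X) ↔ IsClosed ({y} : Set Y) := by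
  haveI : JacobsonSpace X := LocallyOfFiniteType.jacobsonSpace f
  constructor
  · intro h
    exact preimage_closedPoints_subset g.isEmbedding.injective g.continuous h
  · intro h
    exact g.closePoints_subset_preimage_closedPoints h

theorem degCount_eq_sum {X : Scheme.{u}} (f : X ⟶ Spec (CommRingCat.of k)) [LocallyOfFiniteType f]
    [QuasiCompact f] {ι : Type u} [Fintype ι] (Y : ι → Scheme.{u}) (g : ∀ i, Y i ⟶ X)
    [∀ i, IsImmersion (g i)]
    (hpart : ∀ x : X, IsClosed ({x} : Set X) → ∃! i, x ∈ Set.range (g i).base) (e : ℕ)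
    (he : 0 < e) :
    Zeta.degCount f e = ∑ i, Zeta.degCount (g i ≫ f) e := by
  unfold Zeta.degCount
  let A := { x : X // IsClosed ({x} : Set X) ∧ EGA4loc.residueDegree f x = e }
  let B := fun i => { y : Y i // IsClosed ({y} : Set (Y i)) ∧
    EGA4loc.residueDegree (g i ≫ f) y = e }
  let Φ : (Σ i, B i) → A := fun p => ⟨(g p.1).base p.2.1,
    (isClosed_map_iff f (g p.1) p.2.1).mpr p.2.2.1, by
      rw [← residueDegree_comp _ _ _ (residueFieldMap_bijective _ _)]; exact p.2.2.2⟩
  have hΦ : Function.Bijective Φ := by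
    constructor
    · rintro ⟨i, y, hy⟩ ⟨i', y', hy'⟩ h
      have hxx : (g i).base y = (g i').base y' := congrArg Subtype.val h
      have hcl : IsClosed ({(g i).base y} : Set X) := (isClosed_map_iff f (g i) y).mpr hy.1
      obtain ⟨j, _, hj⟩ := hpart _ hcl
      have h1 : i = j := hj i ⟨y, rfl⟩
      have h2 : i' = j := hj i' ⟨y', hxx.symm⟩
      obtain rfl : i = i' := h1.trans h2.symm
      have : y = y' := (g i).isEmbedding.injective hxx
      subst this
      rfl
    · rintro ⟨x, hx, hxe⟩
      obtain ⟨i, ⟨y, rfl⟩, _⟩ := hpart x hx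
      refine ⟨⟨i, y, (isClosed_map_iff f (g i) y).mp hx, ?_⟩, rfl⟩
      rw [residueDegree_comp _ _ _ (residueFieldMap_bijective _ _)]; exact hxe
  haveI : Finite A :=
    ((finite_deg f e he).subset (fun x (hx : IsClosed ({x} : Set X) ∧
      EGA4loc.residueDegree f x = e) => hx.2)).to_subtype
  haveI : ∀ i, Finite (B i) := fun i =>
    Finite.of_injective (fun b => Φ ⟨i, b⟩) (fun b b' h => by
      have := hΦ.1 h
      exact eq_of_heq (Sigma.mk.inj this).2)
  rw [← Nat.card_eq_of_bijective Φ hΦ, Nat.card_sigma]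

open PowerSeries in
theorem zetaFun_eq_prod {X : Scheme.{u}} (f : X ⟶ Spec (CommRingCat.of k)) [LocallyOfFiniteType f]
    [QuasiCompact f] {ι : Type u} [Fintype ι] (Y : ι → Scheme.{u}) (g : ∀ i, Y i ⟶ X)
    [∀ i, IsImmersion (g i)]
    (hpart : ∀ x : X, IsClosed ({x} : Set X) → ∃! i, x ∈ Set.range (g i).base) :
    Zeta.zetaFun f = ∏ i, Zeta.zetaFun (g i ≫ f) := by
  classical
  have hn : ∀ m, Zeta.nPts f m = ∑ i, Zeta.nPts (g i ≫ f) m := by
    intro m
    unfold Zeta.nPts
    rw [Finset.sum_comm]
    refine Finset.sum_congr rfl fun e he => ?_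
    rw [degCount_eq_sum f Y g hpart e (Nat.pos_of_mem_divisors he), Finset.mul_sum]
  have hl : Zeta.logZeta f = ∑ i, Zeta.logZeta (g i ≫ f) := by
    ext m
    rw [map_sum]
    simp only [Zeta.logZeta, coeff_mk]
    rw [hn m, Nat.cast_sum, Finset.sum_div]
  have hc : ∀ i, constantCoeff (Zeta.logZeta (g i ≫ f)) = 0 := by
    intro i
    rw [← coeff_zero_eq_constantCoeff_apply, Zeta.logZeta, coeff_mk]
    simp
  change Groth.Agent.H65.expS (Zeta.logZeta f) = ∏ i, Groth.Agent.H65.expS (Zeta.logZeta (g i ≫ f))
  rw [hl, Groth.Agent.H65.expS_sum _ _ (fun i _ => hc i)]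
end
end Groth.Agent.H16.ZetaFin
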