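import Groth.Agent.H16.ZetaPts
import Groth.Prelude.Def_SgaExt

/-!
# Counting `k'`-points of a finite type scheme over a finite field
-/

set_option autoImplicit false
set_option linter.style.haveILetI false
set_option linter.unusedSectionVars false
universe u
open AlgebraicGeometry CategoryTheory

namespace Groth.Agent.H16.ZetaFin
section
set_option backward.isDefEq.respectTransparency false
set_option backward.isDefEq.respectTransparency.types false
variable {k : Type u} [Field k]

/-- canonical iso `k ≅ κ(y)` for `y : Spec k`. -/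
noncomputable def ψ (y : Spec (CommRingCat.of k)) :
    CommRingCat.of k ⟶ (Spec (CommRingCat.of k)).residueField y :=
  CommRingCat.ofHom (algebraMap k y.asIdeal.ResidueField) ≫
    (Scheme.Spec.residueFieldIso (CommRingCat.of k) y).inv

lemma ψ_bijective (y : Spec (CommRingCat.of k)) : Function.Bijective (ψ y).hom := by
  haveI : y.asIdeal.IsMaximal := Ideal.IsPrime.isMaximal' (R := k) (I := y.asIdeal) y.isPrime
  refine ⟨RingHom.injective _, ?_⟩
  rw [ψ, CommRingCat.hom_comp, RingHom.coe_comp]
  refine Function.Surjective.comp ?_ (Ideal.algebraMap_residueField_surjective y.asIdeal)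
  exact (ConcreteCategory.bijective_of_isIso (Scheme.Spec.residueFieldIso (CommRingCat.of k) y).inv).2

instance (y : Spec (CommRingCat.of k)) : IsIso (ψ y) :=
  (ConcreteCategory.isIso_iff_bijective _).mpr (ψ_bijective y)

lemma SpecMap_ψ (y : Spec (CommRingCat.of k)) :
    Spec.map (ψ y) = (Spec (CommRingCat.of k)).fromSpecResidueField y := by
  rw [ψ, Spec.map_comp]
  exact Scheme.Spec.map_residueFieldIso_inv_eq_fromSpecResidueField _ _

lemma comp_eq_iff {X : Scheme.{u}} (f : X ⟶ Spec (CommRingCat.of k)) (k' : Type u) [Field k']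
    [Algebra k k'] (x : X) (φ : X.residueField x ⟶ CommRingCat.of k') :
    (Spec.map φ ≫ X.fromSpecResidueField x) ≫ f =
        Spec.map (CommRingCat.ofHom (algebraMap k k')) ↔
      f.residueFieldMap x ≫ φ = inv (ψ (f.base x)) ≫ CommRingCat.ofHom (algebraMap k k') := by
  rw [Category.assoc, ← Scheme.Hom.SpecMap_residueFieldMap_fromSpecResidueField, ← SpecMap_ψ,
    ← Spec.map_comp, ← Spec.map_comp, Spec.map_inj, IsIso.eq_inv_comp, Category.assoc]

lemma card_fiber {X : Scheme.{u}} (f : X ⟶ Spec (CommRingCat.of k)) (k' : Type u) [Field k']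
    [Algebra k k'] [Finite k'] (x : X) :
    Nat.card {φ : X.residueField x ⟶ CommRingCat.of k' //
        f.residueFieldMap x ≫ φ = inv (ψ (f.base x)) ≫ CommRingCat.ofHom (algebraMap k k')} =
      if EGA4loc.residueDegree f x ∣ Module.finrank k k' then EGA4loc.residueDegree f x else 0 := by
  letI a1 : Algebra ((Spec (CommRingCat.of k)).residueField (f.base x)) (X.residueField x) :=
    (f.residueFieldMap x).hom.toAlgebra
  letI a2 : Algebra ((Spec (CommRingCat.of k)).residueField (f.base x)) k' :=
    (inv (ψ (f.base x)) ≫ CommRingCat.ofHom (algebraMap k k')).hom.toAlgebra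
  have hr : Module.finrank ((Spec (CommRingCat.of k)).residueField (f.base x)) k' =
      Module.finrank k k' := by
    have := Algebra.rank_eq_of_equiv_equiv (R := k) (S := k')
      (R' := (Spec (CommRingCat.of k)).residueField (f.base x)) (S' := k')
      (RingEquiv.ofBijective _ (ψ_bijective (f.base x))) (RingEquiv.refl k') (by
        ext c
        change (inv (ψ (f.base x)) ≫ CommRingCat.ofHom (algebraMap k k')).hom
          ((ψ (f.base x)).hom c) = algebraMap k k' c
        rw [← CommRingCat.comp_apply, IsIso.hom_inv_id_assoc]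
        rfl)
    unfold Module.finrank
    rw [this]
  let E : {φ : X.residueField x ⟶ CommRingCat.of k' //
        f.residueFieldMap x ≫ φ = inv (ψ (f.base x)) ≫ CommRingCat.ofHom (algebraMap k k')} ≃
      (X.residueField x →ₐ[(Spec (CommRingCat.of k)).residueField (f.base x)] k') :=
    { toFun := fun φ => { φ.1.hom with
        commutes' := fun c => by
          have := congrArg (fun t => t.hom c) φ.2
          exact this }
      invFun := fun a => ⟨CommRingCat.ofHom a.toRingHom, by
        ext c
        exact a.commutes c⟩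
      left_inv := fun φ => by ext; rfl
      right_inv := fun a => by ext; rfl }
  rw [Nat.card_congr E]
  split_ifs with h
  · exact FiniteField.natCard_algHom_of_finrank_dvd (by rw [hr]; exact h)
  · haveI : IsEmpty (X.residueField x →ₐ[(Spec (CommRingCat.of k)).residueField (f.base x)] k') := by
      rw [← not_nonempty_iff, FiniteField.nonempty_algHom_iff_finrank_dvd, hr]
      exact h
    exact Nat.card_of_isEmpty

lemma isClosed_of_deg [Finite k] {X : Scheme.{u}} (f : X ⟶ Spec (CommRingCat.of k))
    [LocallyOfFiniteType f] (x : X) (e : ℕ) (he : 0 < e) (hx : EGA4loc.residueDegree f x = e) :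
    IsClosed ({x} : Set X) := by
  haveI : JacobsonSpace X := LocallyOfFiniteType.jacobsonSpace f
  rw [isClosed_singleton_iff_locallyOfFiniteType]
  haveI : LocallyOfFiniteType (X.fromSpecResidueField x ≫ f) := by
    rw [← Scheme.Hom.SpecMap_residueFieldMap_fromSpecResidueField, ← SpecMap_ψ, ← Spec.map_comp,
      HasRingHomProperty.Spec_iff (P := @LocallyOfFiniteType)]
    obtain ⟨hfin, -⟩ := card_residueField f x e he hx
    haveI := hfin
    apply RingHom.FiniteType.of_finite
    letI := (ψ (f.base x) ≫ f.residueFieldMap x).hom.toAlgebra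
    exact (inferInstance : Module.Finite k (X.residueField x))
  exact locallyOfFiniteType_of_comp (X.fromSpecResidueField x) f

lemma dvd_of_nonempty_fiber {X : Scheme.{u}} (f : X ⟶ Spec (CommRingCat.of k)) (k' : Type u)
    [Field k'] [Algebra k k'] [Finite k'] (x : X)
    (h : Nonempty {φ : X.residueField x ⟶ CommRingCat.of k' //
        f.residueFieldMap x ≫ φ = inv (ψ (f.base x)) ≫ CommRingCat.ofHom (algebraMap k k')}) :
    EGA4loc.residueDegree f x ∣ Module.finrank k k' := by
  by_contra hn
  have hc0 := card_fiber f k' x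
  rw [if_neg hn] at hc0
  -- Nat.card = 0 and nonempty: so infinite; but injects into functions? use finiteness of algHoms
  letI a1 : Algebra ((Spec (CommRingCat.of k)).residueField (f.base x)) (X.residueField x) :=
    (f.residueFieldMap x).hom.toAlgebra
  obtain ⟨φ, hφ⟩ := h
  -- κ(x) embeds in k' hence is finite
  haveI : Finite (X.residueField x) := Finite.of_injective φ.hom (RingHom.injective _)
  haveI : Finite (X.residueField x → k') := inferInstance
  haveI : Finite {φ : X.residueField x ⟶ CommRingCat.of k' //
        f.residueFieldMap x ≫ φ = inv (ψ (f.base x)) ≫ CommRingCat.ofHom (algebraMap k k')} :=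
    Finite.of_injective (fun φ => (φ.1.hom : X.residueField x → k')) (fun a b hab => by
      apply Subtype.ext
      ext c
      exact congrFun hab c)
  haveI : Nonempty {φ : X.residueField x ⟶ CommRingCat.of k' //
        f.residueFieldMap x ≫ φ = inv (ψ (f.base x)) ≫ CommRingCat.ofHom (algebraMap k k')} :=
    ⟨⟨φ, hφ⟩⟩
  exact (Nat.card_pos (α := {φ : X.residueField x ⟶ CommRingCat.of k' //
        f.residueFieldMap x ≫ φ = inv (ψ (f.base x)) ≫
          CommRingCat.ofHom (algebraMap k k')})).ne' hc0

theorem pointCount_eq_nPts [Finite k] {X : Scheme.{u}} (f : X ⟶ Spec (CommRingCat.of k))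
    [LocallyOfFiniteType f] [QuasiCompact f]
    (k' : Type u) [Field k'] [Algebra k k'] [Finite k'] :
    SgaExt.pointCount f k' = Zeta.nPts f (Module.finrank k k') := by
  classical
  haveI : Module.Finite k k' := Module.Finite.of_finite
  set r := Module.finrank k k' with hr
  have hr0 : 0 < r := Module.finrank_pos
  unfold SgaExt.pointCount
  let Q : (Σ x : X, X.residueField x ⟶ CommRingCat.of k') → Prop := fun p =>
    f.residueFieldMap p.1 ≫ p.2 = inv (ψ (f.base p.1)) ≫ CommRingCat.ofHom (algebraMap k k')
  have e1 : {g : Spec (CommRingCat.of k') ⟶ X //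
      g ≫ f = Spec.map (CommRingCat.ofHom (algebraMap k k'))} ≃ {p // Q p} :=
    (Scheme.SpecToEquivOfField k' X).subtypeEquiv (fun g => by
      have hg : g = Spec.map ((Scheme.SpecToEquivOfField k' X) g).2 ≫
          X.fromSpecResidueField ((Scheme.SpecToEquivOfField k' X) g).1 :=
        ((Scheme.SpecToEquivOfField k' X).left_inv g).symm
      conv_lhs => rw [hg]
      exact comp_eq_iff f k' _ _)
  let T : X → Type u := fun x => {φ : X.residueField x ⟶ CommRingCat.of k' // Q ⟨x, φ⟩}
  have e2 : {p // Q p} ≃ Σ x, T x :=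
    { toFun := fun p => ⟨p.1.1, p.1.2, p.2⟩
      invFun := fun q => ⟨⟨q.1, q.2.1⟩, q.2.2⟩
      left_inv := fun _ => rfl
      right_inv := fun _ => rfl }
  let D : Set X := {x | EGA4loc.residueDegree f x ∈ r.divisors}
  have hD : D.Finite := by
    have : D ⊆ ⋃ e ∈ r.divisors, {x | EGA4loc.residueDegree f x = e} :=
      fun x hx => Set.mem_iUnion₂.mpr ⟨_, hx, rfl⟩
    exact (Set.Finite.biUnion r.divisors.finite_toSet
      (fun e he => finite_deg f e (Nat.pos_of_mem_divisors he))).subset this
  have hT : ∀ x, T x → x ∈ hD.toFinset := by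
    intro x t
    rw [Set.Finite.mem_toFinset]
    exact Nat.mem_divisors.mpr ⟨dvd_of_nonempty_fiber f k' x ⟨t⟩, hr0.ne'⟩
  have e3 : (Σ x : {x // x ∈ hD.toFinset}, T x.1) ≃ Σ x, T x :=
    Equiv.sigmaSubtypeEquivOfSubset T (fun x => x ∈ hD.toFinset) hT
  have hcard : ∀ x ∈ hD.toFinset, Nat.card (T x) = EGA4loc.residueDegree f x := by
    intro x hx
    rw [Set.Finite.mem_toFinset] at hx
    have := card_fiber f k' x
    rw [if_pos (Nat.mem_divisors.mp hx).1] at this
    exact this
  haveI : ∀ x : {x // x ∈ hD.toFinset}, Finite (T x.1) := by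
    intro x
    have h1 := hcard x.1 x.2
    have h2 : 0 < EGA4loc.residueDegree f x.1 :=
      Nat.pos_of_mem_divisors ((Set.Finite.mem_toFinset hD).mp x.2)
    exact Nat.finite_of_card_ne_zero (by rw [h1]; exact h2.ne')
  rw [Nat.card_congr (e1.trans (e2.trans e3.symm)), Nat.card_sigma,
    Finset.sum_coe_sort hD.toFinset (fun x => Nat.card (T x)), Finset.sum_congr rfl hcard]
  unfold Zeta.nPts
  rw [← Finset.sum_fiberwise_of_maps_to (s := hD.toFinset) (t := r.divisors)
    (g := fun x => EGA4loc.residueDegree f x) (fun x hx => (Set.Finite.mem_toFinset hD).mp hx)]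
  refine Finset.sum_congr rfl fun e he => ?_
  have he0 := Nat.pos_of_mem_divisors he
  rw [Finset.sum_congr rfl (fun x hx => (Finset.mem_filter.mp hx).2), Finset.sum_const,
    smul_eq_mul, mul_comm]
  congr 1
  unfold Zeta.degCount
  refine (Nat.subtype_card _ fun x => ?_).symm
  rw [Finset.mem_filter, Set.Finite.mem_toFinset]
  constructor
  · rintro ⟨-, hxe⟩
    exact ⟨isClosed_of_deg f x e he0 hxe, hxe⟩
  · rintro ⟨-, hxe⟩
    exact ⟨by change EGA4loc.residueDegree f x ∈ r.divisors; rw [hxe]; exact he, hxe⟩

end
end Groth.Agent.H16.ZetaFin
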