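import Groth.Agent.H16.ZetaPts3
import Groth.Agent.H16.ExpK

/-!
# Zeta function of a base change along a finite extension
-/

set_option autoImplicit false
set_option linter.style.haveILetI false
set_option linter.unusedSectionVars false
universe u
open AlgebraicGeometry CategoryTheory CategoryTheory.Limits

namespace Groth.Agent.H16.ZetaFin
section
set_option backward.isDefEq.respectTransparency false
set_option backward.isDefEq.respectTransparency.types false
variable {k : Type u} [Field k] [Finite k]

lemma pointCount_baseChange {X : Scheme.{u}} (f : X ⟶ Spec (CommRingCat.of k))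
    (k' : Type u) [Field k'] [Algebra k k'] (k'' : Type u) [Field k''] [Algebra k' k'']
    [Algebra k k''] [IsScalarTower k k' k''] :
    SgaExt.pointCount (pullback.snd f (Spec.map (CommRingCat.ofHom (algebraMap k k')))) k'' =
      SgaExt.pointCount f k'' := by
  unfold SgaExt.pointCount
  have hcomp : Spec.map (CommRingCat.ofHom (algebraMap k' k'')) ≫
      Spec.map (CommRingCat.ofHom (algebraMap k k')) =
      Spec.map (CommRingCat.ofHom (algebraMap k k'')) := by
    rw [← Spec.map_comp, ← CommRingCat.ofHom_comp, IsScalarTower.algebraMap_eq k k' k'']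
  refine Nat.card_congr
    { toFun := fun h => ⟨h.1 ≫ pullback.fst _ _, by
        rw [Category.assoc, pullback.condition, ← Category.assoc, h.2, hcomp]⟩
      invFun := fun g => ⟨pullback.lift g.1 (Spec.map (CommRingCat.ofHom (algebraMap k' k'')))
        (by rw [g.2, hcomp]), by simp⟩
      left_inv := fun h => by
        apply Subtype.ext
        apply pullback.hom_ext
        · simp
        · simp [h.2]
      right_inv := fun g => by
        apply Subtype.ext
        simp }

lemma nPts_baseChange {X : Scheme.{u}} (f : X ⟶ Spec (CommRingCat.of k)) [LocallyOfFiniteType f]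
    [QuasiCompact f] (k' : Type u) [Field k'] [Algebra k k'] [Finite k'] (m : ℕ) (hm : 0 < m) :
    Zeta.nPts (pullback.snd f (Spec.map (CommRingCat.ofHom (algebraMap k k')))) m =
      Zeta.nPts f (Module.finrank k k' * m) := by
  obtain ⟨k'', _, _, _, hk''⟩ := exists_extension (k := k') m hm
  letI : Algebra k k'' := ((algebraMap k' k'').comp (algebraMap k k')).toAlgebra
  haveI : IsScalarTower k k' k'' := IsScalarTower.of_algebraMap_eq (fun _ => rfl)
  haveI : LocallyOfFiniteType (pullback.snd f (Spec.map (CommRingCat.ofHom (algebraMap k k')))) :=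
    inferInstance
  haveI : QuasiCompact (pullback.snd f (Spec.map (CommRingCat.ofHom (algebraMap k k')))) :=
    inferInstance
  haveI : Module.Finite k k' := Module.Finite.of_finite
  haveI : Module.Finite k' k'' := Module.Finite.of_finite
  rw [← hk'', ← pointCount_eq_nPts (k := k'), pointCount_baseChange f k' k'', pointCount_eq_nPts,
    Module.finrank_mul_finrank]

open PowerSeries in
theorem zetaFun_baseChange {X : Scheme.{u}} (f : X ⟶ Spec (CommRingCat.of k))
    [LocallyOfFiniteType f] [QuasiCompact f]
    (k' : Type u) [Field k'] [Algebra k k'] [Finite k'] (ξ : ℂ)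
    (hξ : IsPrimitiveRoot ξ (Module.finrank k k')) :
    PowerSeries.subst ((PowerSeries.X : PowerSeries ℂ) ^ Module.finrank k k')
        (PowerSeries.map (algebraMap ℚ ℂ) (Zeta.zetaFun
          (pullback.snd f (Spec.map (CommRingCat.ofHom (algebraMap k k')))))) =
      ∏ i ∈ Finset.range (Module.finrank k k'),
        PowerSeries.rescale (ξ ^ i) (PowerSeries.map (algebraMap ℚ ℂ) (Zeta.zetaFun f)) := by
  haveI : Module.Finite k k' := Module.Finite.of_finite
  set r := Module.finrank k k' with hrdef
  have hr : r ≠ 0 := (Module.finrank_pos (R := k) (M := k')).ne'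
  have hcc : ∀ {Y : Scheme.{u}} {K : Type u} [Field K] (g : Y ⟶ Spec (CommRingCat.of K)),
      constantCoeff (Zeta.logZeta g) = 0 := by
    intro Y K _ g
    rw [← coeff_zero_eq_constantCoeff_apply, Zeta.logZeta, coeff_mk]
    simp
  have hccC : ∀ {Y : Scheme.{u}} {K : Type u} [Field K] (g : Y ⟶ Spec (CommRingCat.of K)),
      constantCoeff (map (algebraMap ℚ ℂ) (Zeta.logZeta g)) = 0 := by
    intro Y K _ g
    rw [← coeff_zero_eq_constantCoeff_apply, coeff_map, coeff_zero_eq_constantCoeff_apply, hcc,
      map_zero]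
  have hmapZ : ∀ {Y : Scheme.{u}} {K : Type u} [Field K] (g : Y ⟶ Spec (CommRingCat.of K)),
      map (algebraMap ℚ ℂ) (Zeta.zetaFun g) =
        ExpK.expS (map (algebraMap ℚ ℂ) (Zeta.logZeta g)) := by
    intro Y K _ g
    unfold Zeta.zetaFun ExpK.expS
    have := PowerSeries.map_subst (h := algebraMap ℚ ℂ)
      (HasSubst.of_constantCoeff_zero' (hcc g)) (exp ℚ)
    rw [map_exp] at this
    exact this
  have hX : constantCoeff ((PowerSeries.X : PowerSeries ℂ) ^ r) = 0 := by
    rw [map_pow, constantCoeff_X, zero_pow hr]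
  rw [hmapZ, hmapZ, ExpK.subst_expS hX (hccC _)]
  simp_rw [ExpK.rescale_expS _ (hccC f)]
  rw [← ExpK.expS_sum _ _ (fun i _ => by
    rw [← coeff_zero_eq_constantCoeff_apply, coeff_rescale, coeff_zero_eq_constantCoeff_apply,
      hccC, mul_zero])]
  congr 1
  ext n
  rw [coeff_subst_X_pow hr, map_sum]
  simp only [coeff_rescale, coeff_map, Zeta.logZeta, coeff_mk, Algebra.algebraMap_self,
    RingHom.id_apply]
  rw [← Finset.sum_mul]
  have hsum : ∑ i ∈ Finset.range r, (ξ ^ i) ^ n = if r ∣ n then (r : ℂ) else 0 := by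
    have h1 : ∀ i, (ξ ^ i) ^ n = (ξ ^ n) ^ i := fun i => by rw [← pow_mul, ← pow_mul, mul_comm]
    simp_rw [h1]
    split_ifs with h
    · obtain ⟨m, rfl⟩ := h
      have : ξ ^ (r * m) = 1 := by rw [pow_mul, hξ.pow_eq_one, one_pow]
      simp [this]
    · have hne : ξ ^ n ≠ 1 := fun h1 => h ((hξ.pow_eq_one_iff_dvd n).mp h1)
      have h2 : (ξ ^ n) ^ r = 1 := by rw [← pow_mul, mul_comm, pow_mul, hξ.pow_eq_one, one_pow]
      have := geom_sum_mul (ξ ^ n) r
      rw [h2, sub_self] at this
      exact (mul_eq_zero.mp this).resolve_right (sub_ne_zero.mpr hne)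
  rw [hsum]
  split_ifs with h
  · obtain ⟨m, rfl⟩ := h
    rcases Nat.eq_zero_or_pos m with rfl | hm
    · simp
    · rw [Nat.mul_div_cancel_left m (Nat.pos_of_ne_zero hr), nPts_baseChange f k' m hm]
      have hr' : (r : ℂ) ≠ 0 := Nat.cast_ne_zero.mpr hr
      have hm' : (m : ℂ) ≠ 0 := Nat.cast_ne_zero.mpr hm.ne'
      simp only [map_div₀, map_natCast, Nat.cast_mul, ← hrdef]
      field_simp
      simp only [map_mul, map_natCast]
      ring
  · simp

end
end Groth.Agent.H16.ZetaFin
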