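import Groth.Agent.H16.ZetaPts3
import Groth.Agent.H16.ZetaCount

/-!
# Bound on the number of points: `#X(F_{q^e}) ≤ c q^{re}` for `dim X ≤ r`
-/

set_option autoImplicit false
set_option linter.style.haveILetI false
set_option linter.unusedSectionVars false
universe u
open AlgebraicGeometry CategoryTheory CategoryTheory.Limits

namespace Groth.Agent.H16.ZetaFin
section
set_option backward.isDefEq.respectTransparency false
set_option backward.isDefEq.respectTransparency.types false
variable {k : Type u} [Field k] [Finite k]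

lemma affine_bound (A : CommRingCat.{u}) (φ : CommRingCat.of k ⟶ A) (hφ : φ.hom.FiniteType)
    (r : ℕ) (hr : ringKrullDim A ≤ r) :
    ∃ c : ℕ, ∀ (k' : Type u) [Field k'] [Algebra k k'] [Finite k'],
      Finite {g : Spec (CommRingCat.of k') ⟶ Spec A //
        g ≫ Spec.map φ = Spec.map (CommRingCat.ofHom (algebraMap k k'))} ∧
      Nat.card {g : Spec (CommRingCat.of k') ⟶ Spec A //
        g ≫ Spec.map φ = Spec.map (CommRingCat.ofHom (algebraMap k k'))} ≤ c * Nat.card k' ^ r := by
  letI := φ.hom.toAlgebra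
  haveI : Algebra.FiniteType k A := hφ
  obtain ⟨c, hc⟩ := Groth.Agent.H16.ZetaCount.exists_bound k A r hr
  refine ⟨c, fun k' _ _ _ => ?_⟩
  let e : {g : Spec (CommRingCat.of k') ⟶ Spec A //
        g ≫ Spec.map φ = Spec.map (CommRingCat.ofHom (algebraMap k k'))} ≃ (A →ₐ[k] k') :=
    { toFun := fun g => { (Spec.preimage g.1).hom with
        commutes' := fun c => by
          have h1 : φ ≫ Spec.preimage g.1 = CommRingCat.ofHom (algebraMap k k') := by
            apply Spec.map_injective
            rw [Spec.map_comp, Spec.map_preimage]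
            exact g.2
          exact congrArg (fun t => t.hom c) h1 }
      invFun := fun ψ => ⟨Spec.map (CommRingCat.ofHom ψ.toRingHom), by
        rw [← Spec.map_comp]
        congr 1
        ext c
        exact ψ.commutes c⟩
      left_inv := fun g => by
        apply Subtype.ext
        exact Spec.map_preimage g.1
      right_inv := fun ψ => by
        ext x
        simp }
  obtain ⟨h1, h2⟩ := hc k'
  haveI := h1
  exact ⟨Finite.of_equiv _ e.symm, by rw [Nat.card_congr e]; exact h2⟩

theorem exists_pointCount_le {X : Scheme.{u}} (f : X ⟶ Spec (CommRingCat.of k))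
    [LocallyOfFiniteType f] [QuasiCompact f] (r : ℕ) (hr : topologicalKrullDim X ≤ r) :
    ∃ c : ℕ, ∀ (k' : Type u) [Field k'] [Algebra k k'] [Finite k'],
      SgaExt.pointCount f k' ≤ c * Nat.card k ^ (r * Module.finrank k k') := by
  classical
  haveI : CompactSpace X := QuasiCompact.compactSpace_of_compactSpace f
  obtain ⟨t, ht⟩ := isCompact_univ.elim_finite_subcover
    (fun U : X.affineOpens => ((U : X.Opens) : Set X)) (fun U => U.1.isOpen)
    (fun x _ => by
      obtain ⟨_, ⟨U, hU', rfl⟩, hxU, -⟩ :=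
        X.isBasis_affineOpens.exists_subset_of_mem_open (Set.mem_univ x) isOpen_univ
      exact Set.mem_iUnion.mpr ⟨⟨U, hU'⟩, hxU⟩)
  -- data for each affine open
  let j : ∀ U : X.affineOpens, Spec Γ(X, U.1) ⟶ X := fun U => U.2.fromSpec
  let φ : ∀ U : X.affineOpens, CommRingCat.of k ⟶ Γ(X, U.1) := fun U => Spec.preimage (j U ≫ f)
  have hφ : ∀ U, Spec.map (φ U) = j U ≫ f := fun U => Spec.map_preimage _
  have hft : ∀ U, (φ U).hom.FiniteType := by
    intro U
    haveI : LocallyOfFiniteType (Spec.map (φ U)) := by rw [hφ]; infer_instance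
    exact HasRingHomProperty.Spec_iff.mp ‹_›
  have hdim : ∀ U : X.affineOpens, ringKrullDim Γ(X, U.1) ≤ r := by
    intro U
    rw [← PrimeSpectrum.topologicalKrullDim_eq_ringKrullDim]
    exact le_trans (Topology.IsInducing.topologicalKrullDim_le
      (f := (j U).base) (j U).isOpenEmbedding.isInducing) hr
  choose c hc using fun U => affine_bound (k := k) Γ(X, U.1) (φ U) (hft U) r (hdim U)
  refine ⟨∑ U ∈ t, c U, fun k' _ _ _ => ?_⟩
  haveI : Module.Finite k k' := Module.Finite.of_finite
  unfold SgaExt.pointCount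
  let G : X.affineOpens → Type u := fun U => {g : Spec (CommRingCat.of k') ⟶ Spec Γ(X, U.1) //
        g ≫ Spec.map (φ U) = Spec.map (CommRingCat.ofHom (algebraMap k k'))}
  haveI : ∀ U : {U // U ∈ t}, Finite (G U.1) := fun U => (hc U.1 k').1
  let Φ : (Σ U : {U // U ∈ t}, G U.1) → {g : Spec (CommRingCat.of k') ⟶ X //
      g ≫ f = Spec.map (CommRingCat.ofHom (algebraMap k k'))} :=
    fun p => ⟨p.2.1 ≫ j p.1.1, by rw [Category.assoc, ← hφ]; exact p.2.2⟩
  have hΦ : Function.Surjective Φ := by
    rintro ⟨h, hh⟩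
    obtain ⟨U, hUt, hxU⟩ := Set.mem_iUnion₂.mp (ht (Set.mem_univ (h.base default)))
    have hrange : Set.range h.base ⊆ Set.range (j U).base := by
      rintro _ ⟨y, rfl⟩
      rw [show y = default from Subsingleton.elim _ _]
      change _ ∈ Set.range U.2.fromSpec.base
      rw [U.2.range_fromSpec]
      exact hxU
    refine ⟨⟨⟨U, hUt⟩, IsOpenImmersion.lift (j U) h hrange, ?_⟩, ?_⟩
    · rw [hφ, ← Category.assoc, IsOpenImmersion.lift_fac]; exact hh
    · apply Subtype.ext
      exact IsOpenImmersion.lift_fac _ _ _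
  calc Nat.card _ ≤ Nat.card (Σ U : {U // U ∈ t}, G U.1) := Nat.card_le_card_of_surjective Φ hΦ
    _ = ∑ U : {U // U ∈ t}, Nat.card (G U.1) := Nat.card_sigma
    _ = ∑ U ∈ t, Nat.card (G U) := Finset.sum_coe_sort t (fun U => Nat.card (G U))
    _ ≤ ∑ U ∈ t, c U * Nat.card k' ^ r := Finset.sum_le_sum fun U _ => (hc U k').2
    _ = (∑ U ∈ t, c U) * Nat.card k ^ (r * Module.finrank k k') := by
        rw [← Finset.sum_mul, Module.natCard_eq_pow_finrank (K := k) (V := k'), ← pow_mul,
          mul_comm r]

end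
end Groth.Agent.H16.ZetaFin
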